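import Cfsg.Agent.Lib.Fus.PMinFF.LiftBlocks

/-!
# A fixed vector of the Sylow subgroup moved by the group

A product over an orbit of the Sylow subgroup of lifts of vectors of the section is moved by one of the blocks.
-/

set_option autoImplicit false
set_option linter.unusedSectionVars false
set_option linter.style.haveILetI false

open scoped commutatorElement

namespace Cfsg.Agent.Fus.MinModule

open Subgroup Cfsg.Agent.Grp Cfsg.Agent.Grp.OffenderSL2 Cfsg.Agent.Fus.RootPair Cfsg.Agent.Fus.FFBlocks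

universe u

/-- In coprime action commutators are not fixed. -/
theorem comm_inf_fixed {G : Type u} [Group G] [Finite G] {p : ℕ} [Fact p.Prime] {H K : Subgroup G}
    (hc : ∀ a ∈ H, ∀ b ∈ H, a * b = b * a) (he : ∀ a ∈ H, a ^ p = 1)
    (hn : ∀ k ∈ K, ∀ a ∈ H, k * a * k⁻¹ ∈ H) (hK : (Nat.card K).Coprime p) :
    ⁅K, H⁆ ⊓ centralizer (K : Set G) = ⊥ := by
  classical
  haveI := Fintype.ofFinite ↥K
  letI : CommGroup ↥H :=
    { (inferInstance : Group ↥H) with mul_comm := fun a b => Subtype.ext (hc _ a.2 _ b.2) }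
  let cg : ↥K → (↥H →* ↥H) := fun k =>
    { toFun := fun w => ⟨(k : G) * w * (k : G)⁻¹, hn k k.2 w w.2⟩
      map_one' := Subtype.ext (by simp)
      map_mul' := fun a b => Subtype.ext (by simp [mul_assoc]) }
  let Nm : ↥H →* ↥H := ∏ k : ↥K, cg k
  have hNm : ∀ w, Nm w = ∏ k : ↥K, cg k w := fun w => MonoidHom.finsetProd_apply _ _ w
  have hNmcg : ∀ k w, Nm (cg k w) = Nm w := fun k w => by
    rw [hNm, hNm]
    refine Fintype.prod_equiv (Equiv.mulRight k) _ _ fun k' => Subtype.ext ?_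
    show (k' : G) * ((k : G) * w * (k : G)⁻¹) * (k' : G)⁻¹ = ((k' * k : ↥K) : G) * w * ((k' * k : ↥K) : G)⁻¹
    rw [coe_mul]; group
  have hker : ⁅K, H⁆ ≤ Nm.ker.map H.subtype := by
    refine commutator_le.mpr fun k hk a ha => ⟨cg ⟨k, hk⟩ ⟨a, ha⟩ * ⟨a, ha⟩⁻¹, ?_, ?_⟩
    · show Nm _ = 1
      rw [map_mul, map_inv, hNmcg, mul_inv_cancel]
    · rw [commutatorElement_def]; rfl
  refine eq_bot_iff.mpr fun y hy => ?_
  obtain ⟨w, hw, rfl⟩ := hker hy.1
  have hwz : ∀ k, cg k w = w := fun k =>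
    Subtype.ext (mul_inv_eq_iff_eq_mul.mpr (mem_centralizer_iff.mp hy.2 k k.2))
  have h1 : w ^ Fintype.card ↥K = 1 := by
    rw [SetLike.mem_coe, MonoidHom.mem_ker, hNm, Finset.prod_congr rfl fun k _ => hwz k, Finset.prod_const,
      Finset.card_univ] at hw
    exact hw
  have h2 : w ^ p = 1 := Subtype.ext (by rw [coe_pow, coe_one]; exact he _ w.2)
  have : w = 1 := by
    have := pow_gcd_eq_one.mpr ⟨h1, h2⟩
    rwa [show Nat.gcd (Fintype.card ↥K) p = 1 by rw [← Nat.card_eq_fintype_card]; exact hK, pow_one] at this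
  rw [this]; exact one_mem _

/-- A `p`-group fixes a nontrivial element of a nontrivial `p`-group it normalises. -/
theorem exists_fixed_ne {G : Type u} [Group G] [Finite G] {p : ℕ} [Fact p.Prime] {R Y : Subgroup G}
    (hR : IsPGroup p R) (hY : IsPGroup p Y) (hn : ∀ r ∈ R, ∀ y ∈ Y, r * y * r⁻¹ ∈ Y) (hne : Y ≠ ⊥) :
    ∃ y ∈ Y, y ≠ 1 ∧ ∀ r ∈ R, r * y * r⁻¹ = y := by
  obtain ⟨J, hJ⟩ : ∃ J, J = R ⊔ Y := ⟨_, rfl⟩
  have hnY : R ≤ normalizer (Y : Set G) := fun r hr =>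
    norm_of_cj (eq_of_le_of_card_ge (RootPair.cj_le.mpr (hn r hr)) (card_cj _ _).ge)
  have hJp : IsPGroup p ↥J := hJ ▸ hR.to_sup_of_normal_right' hY hnY
  have : Group.IsNilpotent ↥J := hJp.isNilpotent
  have : (Y.subgroupOf J).Normal := normal_subgroupOf_of_le_normalizer (hJ ▸ sup_le hnY le_normalizer)
  obtain ⟨z, hz, hz1⟩ := (bot_or_exists_ne_one _).resolve_left (Grp.inf_center_ne_bot (Y.subgroupOf J)
    fun e => hne (by rwa [subgroupOf_eq_bot, disjoint_iff, inf_eq_left.mpr (hJ ▸ le_sup_right)] at e))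
  exact ⟨z, mem_subgroupOf.mp hz.1, fun h => hz1 (Subtype.ext h), fun r hr => mul_inv_eq_iff_eq_mul.mpr
    (congrArg Subtype.val (Subgroup.mem_center_iff.mp hz.2 ⟨r, hJ ▸ mem_sup_left hr⟩))⟩

/-- A product over a set permuted by `R` is fixed by `R`. -/
theorem exists_prod_fixed {G : Type u} [Group G] [Finite G] {V R : Subgroup G} {ι : Type*}
    (hc : ∀ v ∈ V, ∀ w ∈ V, v * w = w * v) (hn : ∀ r ∈ R, ∀ v ∈ V, r * v * r⁻¹ ∈ V) (I : Finset ι) (z : ι → G)
    (hz : ∀ i ∈ I, z i ∈ V)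
    (hperm : ∀ r ∈ R, ∃ σ : ι → ι, Set.InjOn σ ↑I ∧ ∀ i ∈ I, σ i ∈ I ∧ r * z i * r⁻¹ = z (σ i)) :
    ∃ u ∈ V, (∀ r ∈ R, r * u * r⁻¹ = u) ∧
      ∀ (g d : G), (∀ v ∈ V, g * v * g⁻¹ ∈ V) → ∀ (J : Finset ι), J ⊆ I →
        (∀ i ∈ I, i ∉ J → g * z i * g⁻¹ = z i) → (∀ i ∈ J, ⁅g, z i⁆ = d) → g * u * g⁻¹ = d ^ J.card * u := by
  classical
  letI : CommGroup ↥V :=
    { (inferInstance : Group ↥V) with mul_comm := fun a b => Subtype.ext (hc _ a.2 _ b.2) }
  obtain ⟨w, hw⟩ : ∃ w : ι → ↥V, ∀ i ∈ I, (w i : G) = z i :=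
    ⟨fun i => if h : i ∈ I then ⟨z i, hz i h⟩ else 1, fun i hi => by simp [dif_pos hi]⟩
  let cg : ∀ (g : G), (∀ v ∈ V, g * v * g⁻¹ ∈ V) → (↥V →* ↥V) := fun g hg =>
    { toFun := fun v => ⟨g * v * g⁻¹, hg v v.2⟩
      map_one' := Subtype.ext (by simp)
      map_mul' := fun a b => Subtype.ext (by simp [mul_assoc]) }
  refine ⟨((∏ i ∈ I, w i : ↥V) : G), SetLike.coe_mem _, fun r hr => ?_, fun g d hg J hJI hout hin => ?_⟩
  · obtain ⟨σ, hσinj, hσ⟩ := hperm r hr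
    have himg : I.image σ = I := Finset.eq_of_subset_of_card_le
      (Finset.image_subset_iff.mpr fun i hi => (hσ i hi).1) (Finset.card_image_of_injOn hσinj).ge
    have h : cg r (hn r hr) (∏ i ∈ I, w i) = ∏ i ∈ I, w i := by
      rw [map_prod]
      conv_rhs => rw [← himg, Finset.prod_image hσinj]
      refine Finset.prod_congr rfl fun i hi => Subtype.ext ?_
      show r * (w i : G) * r⁻¹ = _
      rw [hw i hi, hw _ (hσ i hi).1, (hσ i hi).2]
    exact congrArg Subtype.val h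
  · have hd : J.card ≠ 0 → d ∈ V := fun h => by
      obtain ⟨i, hi⟩ := Finset.card_pos.mp (Nat.pos_of_ne_zero h)
      rw [← hin i hi, commutatorElement_def]
      exact V.mul_mem (hg _ (hz i (hJI hi))) (V.inv_mem (hz i (hJI hi)))
    by_cases hJ0 : J.card = 0
    · rw [hJ0, pow_zero, one_mul]
      have h : cg g hg (∏ i ∈ I, w i) = ∏ i ∈ I, w i := by
        rw [map_prod]
        refine Finset.prod_congr rfl fun i hi => Subtype.ext ?_
        show g * (w i : G) * g⁻¹ = _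
        rw [hw i hi]
        exact hout i hi (by rw [Finset.card_eq_zero.mp hJ0]; exact Finset.notMem_empty i)
      exact congrArg Subtype.val h
    have h : cg g hg (∏ i ∈ I, w i) = (⟨d, hd hJ0⟩ : ↥V) ^ J.card * ∏ i ∈ I, w i := by
      rw [map_prod, ← Finset.prod_const, show ∏ _i ∈ J, (⟨d, hd hJ0⟩ : ↥V) =
        ∏ i ∈ I, (if i ∈ J then ⟨d, hd hJ0⟩ else 1) by
          rw [Finset.prod_ite_mem, Finset.inter_eq_right.mpr hJI],
        ← Finset.prod_mul_distrib]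
      refine Finset.prod_congr rfl fun i hi => Subtype.ext ?_
      rw [coe_mul]
      show g * (w i : G) * g⁻¹ = _
      rw [hw i hi]
      split_ifs with hiJ
      · show g * z i * g⁻¹ = d * z i
        rw [← hin i hiJ, commutatorElement_def]; group
      · rw [coe_one, one_mul]; exact hout i hi hiJ
    exact congrArg Subtype.val h

variable {G Q : Type u} [Group G] [Group Q] [Finite G] [Finite Q] {p : ℕ} [Fact p.Prime]
  {V P T M V0 U C0 : Subgroup G} {f : G → Q} {W Γ S M' : Subgroup Q} {r : ℕ} {E : Fin r → Subgroup Q}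
  (D : Sec p V P T M V0 U C0) (L : Link V0 U P C0 T f W Γ S) (H : PHyp p P T M) (A : VHyp p V P)
  (C : Sit p W Γ S M') (B : Blk p W Γ S r E) {X0 : Subgroup G} (hX0 : Member p V P X0) (hX0T : X0 ≤ T)
include D L H A C B hX0 hX0T

/-- The fixed vector from a torus. -/
theorem Link.fixed_of_torus (h : TorusLift p W Γ S E) :
    ∃ u ∈ V, (∀ t ∈ T, t * u * t⁻¹ = u) ∧ ∃ g ∈ P, g * u * g⁻¹ ≠ u := by
  classical
  obtain ⟨A0, i, D0, hA0, hA0S, hA0E, hD0E, hcop, hDA, hinv, hstab, w, hw, d0, hd0, hmove⟩ := h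
  obtain ⟨X, hX, hXP, himX, -⟩ := L.exists_lift D H A C B hX0 hX0T hA0.le
  obtain ⟨hXm, -, hXT⟩ := L.member_lift D H A C B hX0 hX0T hA0 hX
  obtain ⟨-, hXfix⟩ := L.member_exact D H A C B hXm (hXT hA0S)
  obtain ⟨Ei, hEi, hEiP, himE, -⟩ := L.exists_lift D H A C B hX0 hX0T (B.le i)
  obtain ⟨D1, hD1, hD1P, himD, hD1c⟩ := L.exists_lift D H A C B hX0 hX0T (hD0E.trans (B.le i))
  have hinj := fun {a b : G} => L.injective D H A C B hX0 hX0T (a := a) (b := b)
  have hD1E : D1 ≤ Ei := fun x hx => (hEi x).mpr ⟨hD1P hx, hD0E ((hD1 x).mp hx).2⟩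
  obtain ⟨CX, hCX⟩ : ∃ CX, CX = V ⊓ centralizer (X : Set G) := ⟨_, rfl⟩
  have hconjX : ∀ g ∈ P, cj (f g) A0 = A0 → ∀ a ∈ X, g * a * g⁻¹ ∈ X := fun g hg hgA a ha =>
    (hX _).mpr ⟨mul_mem (mul_mem hg (hXP ha)) (inv_mem hg), by
      rw [L.conj (mem_sup_right hg) (mem_sup_right (hXP ha))]
      exact hgA.le (conj_mem_cj _ ((hX a).mp ha).2)⟩
  have hnCX : ∀ g ∈ P, cj (f g) A0 = A0 → ∀ v ∈ CX, g * v * g⁻¹ ∈ CX := fun g hg hgA v hv => by
    rw [hCX] at hv ⊢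
    refine mem_inf.mpr ⟨A.norm g hg v hv.1, mem_centralizer_iff.mpr fun a ha => ?_⟩
    have h1 := hconjX g⁻¹ (inv_mem hg) (by
      rw [L.inv g (mem_sup_right hg)]
      exact (RootPair.cj_inj (f g) (by rw [cj_cj, mul_inv_cancel, cj_one, hgA]))) a ha
    have h2 := mem_centralizer_iff.mp hv.2 _ h1
    rw [inv_inv] at h2
    calc a * (g * v * g⁻¹) = g * ((g⁻¹ * a * g) * v) * g⁻¹ := by group
      _ = g * (v * (g⁻¹ * a * g)) * g⁻¹ := by rw [h2]
      _ = _ := by group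
  obtain ⟨Y, hY⟩ : ∃ Y, Y = ⁅D1, CX⁆ := ⟨_, rfl⟩
  have hCXV : CX ≤ V := hCX ▸ inf_le_left
  have hnD : ∀ d ∈ D1, ∀ v ∈ CX, d * v * d⁻¹ ∈ CX := fun d hd =>
    hnCX d (hD1P hd) (hDA _ ((hD1 d).mp hd).2)
  have hYCX : Y ≤ CX := hY ▸ commutator_le.mpr fun d hd v hv => CX.mul_mem (hnD d hd v hv) (CX.inv_mem hv)
  have hYfix : Y ⊓ centralizer (D1 : Set G) = ⊥ := hY ▸ comm_inf_fixed (p := p)
    (fun a ha b hb => A.vcomm a (hCXV ha) b (hCXV hb)) (fun a ha => A.vexp a (hCXV ha)) hnD (by rwa [hD1c])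
  have hYne : Y ≠ ⊥ := by
    intro e
    obtain ⟨v, hv, rfl⟩ := (L.memW w).mp hw.1
    obtain ⟨x, hx, rfl⟩ := (L.mem_im (hD1P.trans le_sup_right)).mp (himD.ge hd0)
    have hvX : v ∈ CX := hCX ▸ mem_inf.mpr ⟨D.le hv, hXfix v hv (himX.symm ▸ hw.2)⟩
    have h1 : ⁅x, v⁆ = 1 := mem_bot.mp (e.le (hY ▸ commutator_mem_commutator hx hvX))
    refine hmove ?_
    rw [← L.conj (mem_sup_right (hD1P hx)) (mem_sup_left hv),
      mul_inv_eq_iff_eq_mul.mpr (commutatorElement_eq_one_iff_mul_comm.mp h1)]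
  obtain ⟨R, hR⟩ := L.exists_pre (H.syl.1.trans le_sup_right) (normalizer (A0 : Set Q))
  have hRT : R ≤ T := fun x hx => ((hR x).mp hx).1
  have hRA : ∀ x ∈ R, cj (f x) A0 = A0 := fun x hx => cj_eq_of_norm ((hR x).mp hx).2
  have hRY : ∀ g ∈ R, ∀ y ∈ Y, g * y * g⁻¹ ∈ Y := by
    intro g hg y hy
    have hgP : g ∈ P := H.syl.1 (hRT hg)
    have h1 : cj g Y ≤ Y := by
      rw [hY, cj, map_commutator]
      refine commutator_le.mpr ?_
      rintro _ ⟨d, hd, rfl⟩ _ ⟨v, hv, rfl⟩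
      show ⁅g * d * g⁻¹, g * v * g⁻¹⁆ ∈ ⁅D1, CX⁆
      have hv' : g * v * g⁻¹ ∈ CX := hnCX g hgP (hRA g hg) v hv
      have hd' : g * d * g⁻¹ ∈ X ⊔ D1 := by
        have hP' : X ⊔ D1 ≤ P := sup_le hXP hD1P
        have h2 : f (g * d * g⁻¹) ∈ im f (X ⊔ D1) := by
          rw [L.conj (mem_sup_right hgP) (mem_sup_right (hD1P hd)),
            L.im_sup (hXP.trans le_sup_right) (hD1P.trans le_sup_right), himX, himD]
          exact hinv _ ((L.memS _).mpr ⟨g, hRT hg, rfl⟩) (hRA g hg) (conj_mem_cj _ ((hD1 d).mp hd).2)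
        obtain ⟨z, hz, hzx⟩ := (L.mem_im (hP'.trans le_sup_right)).mp h2
        rwa [← hinj (hP' hz) (mul_mem (mul_mem hgP (hD1P hd)) (inv_mem hgP)) hzx]
      have hD1X : D1 ≤ normalizer (X : Set G) := fun x hx => norm_of_cj (eq_of_le_of_card_ge
        (RootPair.cj_le.mpr (hconjX x (hD1P hx) (hDA _ ((hD1 x).mp hx).2))) (card_cj _ _).ge)
      have hd'' : g * d * g⁻¹ ∈ ((X ⊔ D1 : Subgroup G) : Set G) := hd'
      rw [coe_mul_of_right_le_normalizer_left X D1 hD1X] at hd''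
      obtain ⟨a, ha, b, hb, e⟩ := hd''
      rw [← (show a * b = g * d * g⁻¹ from e)]
      have h3 : ⁅b, g * v * g⁻¹⁆ ∈ CX := CX.mul_mem (hnD b hb _ hv') (CX.inv_mem hv')
      have e2 : ⁅a * b, g * v * g⁻¹⁆ = a * ⁅b, g * v * g⁻¹⁆ * a⁻¹ * ⁅a, g * v * g⁻¹⁆ := by
        simp only [commutatorElement_def]; group
      rw [e2, commutatorElement_eq_one_iff_mul_comm.mpr (mem_centralizer_iff.mp (hCX.le hv').2 a ha), mul_one,
        mul_inv_eq_iff_eq_mul.mpr (mem_centralizer_iff.mp (hCX.le h3).2 a ha)]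
      exact commutator_mem_commutator hb hv'
    exact h1 (conj_mem_cj g hy)
  have hYV : Y ≤ V := hYCX.trans hCXV
  obtain ⟨y, hy, hy1, hyR⟩ := exists_fixed_ne (p := p) (H.syl.2.1.to_le hRT)
    (fun v => ⟨1, Subtype.ext (by rw [pow_one, coe_pow, coe_one]; exact A.vexp _ (hYV v.2))⟩) hRY hYne
  obtain ⟨e0, he0, hemove⟩ : ∃ e ∈ D1, e * y * e⁻¹ ≠ y := by
    by_contra hc
    push Not at hc
    refine hy1 (mem_bot.mp (hYfix.le (mem_inf.mpr ⟨hy, mem_centralizer_iff.mpr fun x hx => ?_⟩)))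
    exact mul_inv_eq_iff_eq_mul.mp (hc x hx)
  have hyU : y ∈ ⁅V, Ei⁆ := by
    rw [commutator_comm]
    exact (hY.le.trans (commutator_mono hD1E hCXV)) hy
  have hother : ∀ t ∈ T, t * y * t⁻¹ ≠ y → e0 * (t * y * t⁻¹) * e0⁻¹ = t * y * t⁻¹ := by
    intro t ht hty
    obtain ⟨j, hj⟩ := B.perm (f t) ((L.memS _).mpr ⟨t, ht, rfl⟩) i
    have hji : i ≠ j := fun h => by
      subst h
      exact hty (hyR t ((hR t).mpr ⟨ht, norm_of_cj (hstab _ ((L.memS _).mpr ⟨t, ht, rfl⟩) hj)⟩))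
    have htP : t ∈ P := H.syl.1 ht
    obtain ⟨Ej, hEj, hEjP, himEj, -⟩ := L.exists_lift D H A C B hX0 hX0T (B.le j)
    obtain ⟨-, -, hle0, himc, -⟩ := L.block_exact D H A C B hX0 hX0T i hEi
    obtain ⟨-, -, hle0', -, -⟩ := L.block_exact D H A C B hX0 hX0T j hEj
    have h1 : t * y * t⁻¹ ∈ ⁅V, Ej⁆ := by
      have h2 : cj t ⁅V, Ei⁆ ≤ ⁅V, Ej⁆ := by
        rw [cj, map_commutator]
        refine commutator_mono (RootPair.cj_le.mpr (A.norm t htP)) (RootPair.cj_le.mpr fun x hx => ?_)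
        refine (hEj _).mpr ⟨mul_mem (mul_mem htP (hEiP hx)) (inv_mem htP), ?_⟩
        rw [L.conj (mem_sup_right htP) (mem_sup_right (hEiP hx))]
        exact hj.le (conj_mem_cj _ ((hEi x).mp hx).2)
      exact h2 (conj_mem_cj t hyU)
    obtain ⟨-, hpre, -, -, -⟩ := L.block_exact D H A C B hX0 hX0T i hEi
    obtain ⟨-, -, -, himc', -⟩ := L.block_exact D H A C B hX0 hX0T j hEj
    have h3 : f (t * y * t⁻¹) ∈ W ⊓ centralizer ((E i : Subgroup Q) : Set Q) :=
      (commutator_le.mpr fun l hl w hw => B.fix j i (Ne.symm hji) l hl w hw :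
        ⁅E j, W⁆ ≤ W ⊓ centralizer ((E i : Subgroup Q) : Set Q)) (himc'.le (mem_im_of h1))
    exact mul_inv_eq_iff_eq_mul.mpr (mem_centralizer_iff.mp (hpre _ (hle0' h1) h3.2) e0 (hD1E he0))
  obtain ⟨I, hI⟩ : ∃ I : Finset G, ∀ z, z ∈ I ↔ ∃ t ∈ T, t * y * t⁻¹ = z :=
    ⟨(Set.toFinite {z : G | ∃ t ∈ T, t * y * t⁻¹ = z}).toFinset, fun z => by simp⟩
  obtain ⟨u, hu, hufix, huprod⟩ := exists_prod_fixed (V := V) (R := T) A.vcomm
    (fun t ht => A.norm t (H.syl.1 ht)) I id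
    (fun z hz => by
      obtain ⟨t, ht, rfl⟩ := (hI z).mp hz
      exact A.norm t (H.syl.1 ht) y (hYV hy))
    (fun t ht => ⟨fun z => t * z * t⁻¹, fun a _ b _ h => mul_left_cancel (mul_right_cancel h), fun z hz => by
      obtain ⟨s, hs, rfl⟩ := (hI z).mp hz
      exact ⟨(hI _).mpr ⟨t * s, T.mul_mem ht hs, by group⟩, rfl⟩⟩)
  refine ⟨u, hu, hufix, e0, hD1P he0, fun h => hemove ?_⟩
  have hyI : y ∈ I := (hI y).mpr ⟨1, T.one_mem, by group⟩
  have h1 := huprod e0 ⁅e0, y⁆ (A.norm e0 (hD1P he0)) {y} (Finset.singleton_subset_iff.mpr hyI)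
    (fun z hz hzy => by
      obtain ⟨t, ht, rfl⟩ := (hI z).mp hz
      exact hother t ht fun h' => hzy (Finset.mem_singleton.mpr h'))
    (fun z hz => by rw [Finset.mem_singleton.mp hz]; rfl)
  rw [h, Finset.card_singleton, pow_one] at h1
  exact mul_inv_eq_iff_eq_mul.mpr (commutatorElement_eq_one_iff_mul_comm.mp (mul_eq_right.mp h1.symm))

/-- The fixed vector from transvections. -/
theorem Link.fixed_of_centres (h : CentreLift p W Γ S) :
    ∃ u ∈ V, (∀ t ∈ T, t * u * t⁻¹ = u) ∧ ∃ g ∈ P, g * u * g⁻¹ ≠ u := by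
  classical
  obtain ⟨rfl, D0, Z, hD0, hD0S, hZ, d0, hd0, hodd⟩ := h
  have hinj := fun {a b : G} => L.injective D H A C B hX0 hX0T (a := a) (b := b)
  -- lifts of the transvections and their commutator spaces
  have hlift : ∀ d ∈ D0, ∃ a ∈ P, f a = d ∧ ∃ z ∈ V0, z ≠ 1 ∧ f z = Z d ∧
      ∀ v ∈ V, ⁅a, v⁆ = 1 ∨ ⁅a, v⁆ = z := by
    intro d hd
    obtain ⟨hdm, hdc⟩ := hD0 d hd
    obtain ⟨a, ha, rfl⟩ := (L.memΓ d).mp (hdm.le (mem_zpowers d))
    obtain ⟨X, hX, hXP, himX, hXc⟩ := L.exists_lift D H A C B hX0 hX0T hdm.le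
    obtain ⟨hXm, -, -⟩ := L.member_lift D H A C B hX0 hX0T hdm hX
    have haX : a ∈ X := (hX a).mpr ⟨ha, mem_zpowers _⟩
    let φ : ↥V →* G :=
      { toFun := fun v => ⁅a, (v : G)⁆
        map_one' := by simp
        map_mul' := fun v w => by
          have hm : ⁅a, (w : G)⁆ ∈ V := V.mul_mem (A.norm a ha w w.2) (V.inv_mem w.2)
          rw [coe_mul, show ⁅a, (v : G) * w⁆ = ⁅a, (v : G)⁆ * ((v : G) * ⁅a, (w : G)⁆ * (v : G)⁻¹) by
            simp only [commutatorElement_def]; group, A.vcomm v v.2 _ hm, mul_inv_cancel_right] }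
    have hker : (V ⊓ centralizer (X : Set G)).subgroupOf V ≤ φ.ker := fun v hv =>
      commutatorElement_eq_one_iff_mul_comm.mpr (mem_centralizer_iff.mp (mem_subgroupOf.mp hv).2 a haX)
    have h2 : Nat.card φ.range ≤ 2 := by
      have h := φ.ker.index_mul_card
      rw [index_ker] at h
      refine Nat.le_of_mul_le_mul_right ?_ (Nat.card_pos : 0 < Nat.card φ.ker)
      rw [h]
      refine hXm.meas_ge.trans ?_
      rw [meas, hXc, hdc]
      refine Nat.mul_le_mul_left _ ?_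
      rw [← Nat.card_congr (subgroupOfEquivOfLe (inf_le_left : V ⊓ centralizer (X : Set G) ≤ V)).toEquiv]
      exact card_le_of_le hker
    have hcomm : Z (f a) ∈ ⁅zpowers (f a), W⁆ := (hZ _ hd).1
    have hle : ⁅zpowers a, V0⁆ ≤ φ.range ⊓ V0 := by
      refine commutator_le.mpr fun b hb v hv => mem_inf.mpr ⟨?_,
        V0.mul_mem (D.inv b (zpowers_le.mpr ha hb) v hv) (V0.inv_mem hv)⟩
      have hbm : b = 1 ∨ b = a := by
        have hb2 : b ∈ X := zpowers_le.mpr haX hb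
        rcases (Nat.dvd_prime Nat.prime_two).mp
          ((hXc.trans hdc) ▸ Subgroup.card_dvd_of_le (zpowers_le.mpr haX : zpowers a ≤ X)) with h | h
        · exact Or.inl (mem_bot.mp ((Subgroup.card_eq_one.mp h).le hb))
        · rw [Nat.card_zpowers] at h
          obtain ⟨i, rfl⟩ := mem_zpowers_iff.mp hb
          rcases Int.even_or_odd i with ⟨k, hk⟩ | ⟨k, hk⟩
          · left
            rw [hk, ← two_mul, zpow_mul, zpow_two, ← pow_two, ← h, pow_orderOf_eq_one, one_zpow]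
          · right
            rw [hk, zpow_add, zpow_mul, zpow_one, zpow_two, ← pow_two, ← h, pow_orderOf_eq_one, one_zpow, one_mul]
      rcases hbm with rfl | rfl
      · rw [commutatorElement_one_left]; exact one_mem _
      · exact ⟨⟨v, D.le hv⟩, rfl⟩
    have hle0 : ⁅zpowers a, V0⁆ ≤ V0 := hle.trans inf_le_right
    have him : im f ⁅zpowers a, V0⁆ = ⁅zpowers (f a), W⁆ := by
      rw [L.im_commutator ((zpowers_le.mpr ha).trans le_sup_right) le_sup_left, L.im_V0]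
      congr 1
      refine le_antisymm ?_ (zpowers_le.mpr (mem_im_of (mem_zpowers a)))
      refine (closure_le _).mpr ?_
      rintro _ ⟨b, hb, rfl⟩
      exact ((hX b).mp (zpowers_le.mpr haX hb)).2
    obtain ⟨z, hz, hzZ⟩ := (L.mem_im (hle0.trans le_sup_left)).mp (him.ge hcomm)
    have hz1 : z ≠ 1 := fun e => (hZ _ hd).2 (by rw [← hzZ, e, L.one])
    refine ⟨a, ha, rfl, z, hle0 hz, hz1, hzZ, fun v hv => ?_⟩
    have hv' : (⁅a, v⁆ : G) ∈ φ.range := ⟨⟨v, hv⟩, rfl⟩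
    by_contra hc
    push Not at hc
    have h3 : 3 ≤ Nat.card φ.range := by
      have hf : Function.Injective (fun i : Fin 3 => (![⟨1, one_mem _⟩, ⟨z, (hle hz).1⟩, ⟨_, hv'⟩] :
          Fin 3 → φ.range) i) := by
        intro i j h
        fin_cases i <;> fin_cases j <;> simp [Subtype.ext_iff] at h ⊢ <;>
          first
            | exact absurd h hc.1
            | exact absurd h.symm hc.1
            | exact absurd h hc.2
            | exact absurd h.symm hc.2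
            | exact absurd h hz1
            | exact absurd h.symm hz1
      simpa using Nat.card_le_card_of_injective _ hf
    omega
  choose! a haP hfa z hzV0 hz1 hfz honly using hlift
  have hmoves : ∀ d ∈ D0, ∀ e ∈ D0, (⁅a d, z e⁆ = 1 ↔ ⁅d, Z e⁆ = 1) := by
    intro d hd e he
    have h1 : f ⁅a d, z e⁆ = ⁅d, Z e⁆ := by
      rw [L.comm (mem_sup_right (haP d hd)) (mem_sup_left (hzV0 e he)), hfa d hd, hfz e he]
    refine ⟨fun h => by rw [← h1, h, L.one], fun h => ?_⟩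
    rcases honly d hd (z e) (D.le (hzV0 e he)) with h2 | h2
    · exact h2
    · exfalso
      rw [h2, hfz d hd, h] at h1
      exact (hZ d hd).2 h1
  obtain ⟨u, hu, hufix, huprod⟩ := exists_prod_fixed (V := V) (R := T) A.vcomm
    (fun t ht => A.norm t (H.syl.1 ht)) D0 z (fun e he => D.le (hzV0 e he)) (fun t ht => by
      refine ⟨fun d => f t * d * (f t)⁻¹, fun a _ b _ h => mul_left_cancel (mul_right_cancel h), fun d hd => ?_⟩
      have hd' : f t * d * (f t)⁻¹ ∈ D0 := hD0S _ ((L.memS _).mpr ⟨t, ht, rfl⟩) d hd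
      refine ⟨hd', ?_⟩
      have htP := H.syl.1 ht
      have hat : t * a d * t⁻¹ = a (f t * d * (f t)⁻¹) := hinj (mul_mem (mul_mem htP (haP d hd)) (inv_mem htP))
        (haP _ hd') (by rw [L.conj (mem_sup_right htP) (mem_sup_right (haP d hd)), hfa d hd, hfa _ hd'])
      obtain ⟨v, hv, hve⟩ : ∃ v ∈ V, ⁅a d, v⁆ = z d := by
        by_contra hc
        push Not at hc
        have hfix : ∀ v ∈ V, ⁅a d, v⁆ = 1 := fun v hv => (honly d hd v hv).resolve_right (hc v hv)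
        have : a d = 1 := mem_bot.mp (A.faith.le (mem_inf.mpr ⟨haP d hd, mem_centralizer_iff.mpr fun v hv =>
          (commutatorElement_eq_one_iff_mul_comm.mp (hfix v hv)).symm⟩))
        refine (hD0 d hd).1.ne ?_
        rw [zpowers_eq_bot, ← hfa d hd, this, L.one]
      have h2 : t * z d * t⁻¹ = ⁅a (f t * d * (f t)⁻¹), t * v * t⁻¹⁆ := by
        rw [← hat, ← hve]; simp only [commutatorElement_def]; group
      rcases honly _ hd' _ (A.norm t htP v hv) with h3 | h3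
      · exfalso
        rw [h3] at h2
        exact hz1 d hd (conj_eq_one_iff.mp h2)
      · rw [h2, h3])
  refine ⟨u, hu, hufix, a d0, haP d0 hd0, fun h => ?_⟩
  obtain ⟨J, hJ⟩ : ∃ J : Finset Q, J = D0.filter fun e => ⁅d0, Z e⁆ ≠ 1 := ⟨_, rfl⟩
  have h1 := huprod (a d0) (z d0) (A.norm _ (haP d0 hd0)) J (hJ ▸ Finset.filter_subset _ _)
    (fun e he heJ => by
      refine mul_inv_eq_iff_eq_mul.mpr (commutatorElement_eq_one_iff_mul_comm.mp ((hmoves d0 hd0 e he).mpr ?_))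
      by_contra hne
      exact heJ (hJ ▸ Finset.mem_filter.mpr ⟨he, hne⟩))
    (fun e he => by
      rw [hJ, Finset.mem_filter] at he
      exact (honly d0 hd0 _ (D.le (hzV0 e he.1))).resolve_left fun h2 => he.2 ((hmoves d0 hd0 e he.1).mp h2))
  rw [h] at h1
  have hset : {e : Q | e ∈ D0 ∧ ⁅d0, Z e⁆ ≠ 1} = ↑J := by
    rw [hJ, Finset.coe_filter]
  rw [hset, Set.ncard_coe_finset] at hodd
  obtain ⟨k, hk⟩ := hodd
  rw [hk, pow_add, pow_mul, A.vexp _ (D.le (hzV0 d0 hd0)), one_pow, one_mul, pow_one] at h1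
  exact hz1 d0 hd0 (mul_eq_right.mp h1.symm)

end Cfsg.Agent.Fus.MinModule
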