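import Cfsg.Agent.Lib.Fus.PMinFF.TranspClasses

/-!
# The blocks in the presence of transvections
-/

set_option autoImplicit false
set_option linter.unusedSectionVars false
set_option linter.style.haveILetI false

open scoped commutatorElement

namespace Cfsg.Agent.Fus.Transp

open Subgroup Cfsg.Agent.Grp Cfsg.Agent.Grp.OffenderSL2 Cfsg.Agent.Fus.RootPair Cfsg.Agent.Fus.FFBlocks

universe u

variable {G : Type u} [Group G] [Finite G] {W Γ S M : Subgroup G} (C : Ctx W Γ S M)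
include C

/-- A conjugate of a member lies in `S`. -/
theorem Ctx.member_into {A : Subgroup G} (hA : Member 2 W Γ A) : ∃ g ∈ Γ, cj g A ≤ S :=
  Fail.conj_into C.syl hA.le hA.pg

omit C in
theorem cj_zpowers_eq (g t : G) : cj g (zpowers t) = zpowers (g * t * g⁻¹) := by
  rw [cj, MonoidHom.map_zpowers]; rfl

section
variable {u : G} {κ : G → ZMod 2} (D : Dual W Γ S M u κ)
include D

/-- The partner of a transvection of `S`. -/
theorem Dual.exists_partner {t : G} (ht : Tv W Γ t) (htS : t ∈ S) :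
    ∃ x, Partner W Γ S (zpowers t) x := by
  classical
  obtain ⟨y, d, hy, hd, hne, hyd⟩ := D.in_M_form C ht (C.SM htS)
  obtain ⟨-, -, hz, htmu, hty, hto⟩ := D.pair C hy hd hne
  rw [hyd] at hz htmu hty hto
  have hdo : d ∈ outs W Γ M := mem_outs.mpr (mem_cls.mp hd).1
  obtain ⟨hy1, -⟩ := mem_outs.mp hy
  obtain ⟨hd1, -⟩ := mem_outs.mp hdo
  obtain ⟨hzt, hzt1, hztv, -⟩ := C.zc_spec ht
  obtain ⟨hzd, hzd1, -, hdd⟩ := C.zc_spec hd1
  have hyi : y⁻¹ = y := inv_eq_of_mul_eq_one_right hy1.sq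
  have hyt : y * t * y⁻¹ = d := by
    rw [← hyd, show y * (y * d * y⁻¹) * y⁻¹ = (y * y) * d * (y * y)⁻¹ by group, hy1.sq]; group
  have hYle : ⁅zpowers t, W⁆ ≤ zpowers (zc W t) := by
    refine commutator_le.mpr fun a ha w hw => ?_
    rcases (mem_zpowers_iff.mp ha) with ⟨i, rfl⟩
    have h2 : t ^ i = 1 ∨ t ^ i = t := by
      rcases Int.even_or_odd i with ⟨k, hk⟩ | ⟨k, hk⟩
      · left; rw [hk, ← two_mul, zpow_mul, zpow_two, ht.sq, one_zpow]
      · right; rw [hk, zpow_add, zpow_mul, zpow_one, zpow_two, ht.sq, one_zpow, one_mul]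
    rcases h2 with e | e <;> rw [e]
    · rw [commutatorElement_one_left]; exact one_mem _
    · rcases zmod_two_cases (mu t w) with h | h
      · rw [mu_eq_zero.mp h]; exact one_mem _
      · rw [hztv w hw h]; exact mem_zpowers _
  have hzY : zc W t ∈ ⁅zpowers t, W⁆ := by
    obtain ⟨v, hv, hv1⟩ := C.exists_moved ht.mem ht.ne
    rw [← hztv v hv (mu_eq_one.mpr hv1)]
    exact commutator_mem_commutator (mem_zpowers t) hv
  have hYeq : ⁅zpowers t, W⁆ = zpowers (zc W t) := le_antisymm hYle (zpowers_le.mpr hzY)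
  have hY2 : ∀ z ∈ W, z ≠ 1 → Nat.card ↥(zpowers z) = 2 := fun z hz hz1 => by
    rw [Nat.card_zpowers]; exact orderOf_eq_prime (C.wexp z hz) hz1
  refine ⟨y, hy1.mem, ?_, fun e he hec => ?_⟩
  · rw [hYeq, cj_zpowers_eq, ← (C.conj_tv hy1.mem ht).2.1, hyt, ht.card_zpowers, centralizer_zpowers_eq,
      hY2 _ hzt hzt1]
    have hbot : zpowers (zc W d) ⊓ centralizer ({t} : Set G) = ⊥ := by
      refine eq_bot_iff.mpr fun z hz => mem_bot.mpr ?_
      rcases (Nat.dvd_prime Nat.prime_two).mp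
        (hY2 _ hzd hzd1 ▸ Subgroup.card_dvd_of_le (inf_le_left :
          zpowers (zc W d) ⊓ centralizer ({t} : Set G) ≤ zpowers (zc W d))) with h | h
      · exact mem_bot.mp ((Subgroup.card_eq_one.mp h).le hz)
      · exfalso
        have h1 : zc W d ∈ centralizer ({t} : Set G) :=
          ((eq_of_le_of_card_ge inf_le_left (by rw [h, hY2 _ hzd hzd1])).ge (mem_zpowers _) :
            zc W d ∈ zpowers (zc W d) ⊓ centralizer ({t} : Set G)).2
        have h2 : mu t (zc W d) = 0 :=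
          mu_eq_zero'.mpr (mul_inv_eq_iff_eq_mul.mpr (mem_centralizer_singleton_iff.mp h1).symm)
        rw [htmu _ hzd, hdd, zero_add, (D.mu_out C hy hdo).mpr ⟨hd, hne⟩] at h2
        exact one_ne_zero h2
    rw [hbot, card_bot]
  · have het : e * t = t * e := hec t (mem_zpowers t)
    have heo : e * y * e⁻¹ ∈ outs W Γ M := C.outs_conj (C.SM he) hy
    have hcases : e * y * e⁻¹ = y ∨ e * y * e⁻¹ = d := by
      by_contra hc
      push Not at hc
      refine hne ?_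
      have h1 := hto _ heo hc.1 hc.2
      rw [show t * (e * y * e⁻¹) * t⁻¹ = (t * e) * y * (t * e)⁻¹ by group, ← het,
        show e * t * y * (e * t)⁻¹ = e * (t * y * t⁻¹) * e⁻¹ by group, hty] at h1
      exact mul_left_cancel (mul_right_cancel h1)
    have key : ∀ k : G, k ∈ Γ → k * t * k⁻¹ = t → ∀ b ∈ zpowers t, ∀ v ∈ W, k * ⁅b, v⁆ * k⁻¹ = ⁅b, v⁆ := by
      intro k hk hkt b hb v hv
      obtain ⟨i, hi⟩ := mem_zpowers_iff.mp (hYle (commutator_mem_commutator hb hv))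
      have h1 : k * zc W t * k⁻¹ = zc W t := by
        have := (C.conj_tv hk ht).2.1
        rwa [hkt, eq_comm] at this
      rw [← hi, ← conj_zpow, h1]
    rcases hcases with h | h
    · refine ⟨1, one_mem _, ?_, key _ (by simpa using C.syl.1 he) (by simp [het])⟩
      rw [inv_one, one_mul]
      exact mul_inv_eq_iff_eq_mul.mp h
    · have hti : t⁻¹ = t := inv_eq_of_mul_eq_one_right ht.sq
      refine ⟨t, mem_zpowers t, ?_, key _ (Γ.mul_mem (Γ.inv_mem ht.mem) (C.syl.1 he)) ?_⟩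
      · refine mul_inv_eq_iff_eq_mul.mp ?_
        calc t⁻¹ * e * y * (t⁻¹ * e)⁻¹ = t⁻¹ * (e * y * e⁻¹) * t := by group
          _ = y := by rw [h, ← hty]; group
      · calc t⁻¹ * e * t * (t⁻¹ * e)⁻¹ = t⁻¹ * ((e * t) * e⁻¹) * t := by group
          _ = t := by rw [het]; group

/-- The blocks. -/
theorem Dual.blk {x0 : G} (hx0 : x0 ∈ outs W Γ M) :
    ∃ (r : ℕ) (E : Fin r → Subgroup G), Blk 2 W Γ S r E := by
  classical
  obtain ⟨Cl, hCl⟩ : ∃ Cl, Cl = (outs W Γ M).image (cls W Γ M) := ⟨_, rfl⟩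
  obtain ⟨c, hc, hcsurj⟩ : ∃ c : Fin Cl.card → G, (∀ i, c i ∈ outs W Γ M) ∧
      ∀ y ∈ outs W Γ M, ∃ i, cls W Γ M (c i) = cls W Γ M y ∧ ∀ j, cls W Γ M (c j) = cls W Γ M y → j = i := by
    have h : ∀ i : Fin Cl.card, ∃ y ∈ outs W Γ M, cls W Γ M y = (Cl.equivFin.symm i : Finset G) := fun i =>
      Finset.mem_image.mp (hCl ▸ (Cl.equivFin.symm i).2)
    choose c hc hce using h
    refine ⟨c, hc, fun y hy => ⟨Cl.equivFin ⟨cls W Γ M y, hCl ▸ Finset.mem_image_of_mem _ hy⟩, ?_, fun j hj => ?_⟩⟩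
    · rw [hce, Equiv.symm_apply_apply]
    · rw [hce] at hj
      exact (Equiv.symm_apply_eq _).mp (Subtype.ext hj)
  obtain ⟨E, hE⟩ : ∃ E : Fin Cl.card → Subgroup G, ∀ i, E i = closure ((cls W Γ M (c i) : Finset G) : Set G) :=
    ⟨_, fun _ => rfl⟩
  have hcne : ∀ i j, i ≠ j → cls W Γ M (c i) ≠ cls W Γ M (c j) := fun i j hij e => by
    obtain ⟨k, -, hk⟩ := hcsurj _ (hc j)
    exact hij ((hk i e).trans (hk j rfl).symm)
  have hEΓ : ∀ i, E i ≤ Γ := fun i =>
    hE i ▸ (closure_le _).mpr fun y hy => (mem_cls.mp hy).1.1.mem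
  have hmemE : ∀ y ∈ outs W Γ M, ∃ i, cls W Γ M (c i) = cls W Γ M y ∧ ∀ z ∈ cls W Γ M y, z ∈ E i := fun y hy => by
    obtain ⟨i, hi, -⟩ := hcsurj y hy
    exact ⟨i, hi, fun z hz => hE i ▸ subset_closure (Finset.mem_coe.mpr (hi ▸ hz))⟩
  -- conjugation by `S`
  have hcj : ∀ s ∈ S, ∀ i j, s * c i * s⁻¹ ∈ cls W Γ M (c j) → cj s (E i) = E j := by
    intro s hs i j h
    have hio := C.outs_conj (C.SM hs) (hc i)
    have hcl : cls W Γ M (s * c i * s⁻¹) = cls W Γ M (c j) := D.cls_eq C (hc j) h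
    rw [hE, hE, cj, MonoidHom.map_closure]
    congr 1
    ext z
    constructor
    · rintro ⟨y, hy, rfl⟩
      rw [← hcl]
      exact C.cls_conj (C.SM hs) (hc i) hy
    · intro hz
      refine ⟨s⁻¹ * z * s, ?_, by simp [mul_assoc]⟩
      rw [Finset.mem_coe, ← hcl] at hz
      have h1 := C.cls_conj (M.inv_mem (C.SM hs)) hio hz
      rwa [show s⁻¹ * (s * c i * s⁻¹) * s⁻¹⁻¹ = c i by group, inv_inv] at h1
  refine ⟨Cl.card, E, ?_⟩
  refine
    { pos := Finset.card_pos.mpr ⟨cls W Γ M x0, hCl ▸ Finset.mem_image_of_mem _ hx0⟩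
      le := hEΓ
      comm := fun i j hij a ha b hb => D.class_comm C (hc i) (hc j) (hcne i j hij) a (hE i ▸ ha) b (hE j ▸ hb)
      fix := fun i j hij l hl w hw => ?_
      full := fun i w hw => ?_
      sup := ?_
      trans := fun i j => ?_
      perm := fun s hs i => ?_
      model := fun i => hE i ▸ D.class_model C (hc i)
      gens := fun i => ?_
      conj := fun A B hA hB => ?_
      exact := fun A hA => ?_
      inside := fun A hA hAS => ?_
      partner := fun A hA hAS => ?_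
      lift := Or.inr ⟨rfl, outs W Γ M, zc W, fun d hd => ?_, fun s hs d hd => C.outs_conj (C.SM hs) hd,
        fun d hd => ?_, x0, hx0, ?_⟩ }
  · have hlc := D.class_coords C (hc i) l (hE i ▸ hl)
    have hcm : ⁅l, w⁆ ∈ W := W.mul_mem (C.norm l hlc.1 w hw) (W.inv_mem hw)
    rw [hE j, D.fix_class C (hc j)]
    refine ⟨hcm, fun e he => ?_⟩
    have heo : e ∈ outs W Γ M := mem_outs.mpr (mem_cls.mp he).1
    have hei : e ∉ cls W Γ M (c i) := fun h =>
      hcne i j hij ((D.cls_eq C (hc i) h).symm.trans (D.cls_eq C (hc j) he))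
    have h1 := C.co_mul (x := e) hcm hw
    rw [show ⁅l, w⁆ * w = l * w * l⁻¹ by rw [commutatorElement_def]; group, hlc.2 w hw e heo hei] at h1
    exact add_eq_right.mp h1.symm
  · obtain ⟨P, hP, hPW, hPco⟩ := D.exists_part C (hc i)
      ((cls W Γ M (c i)).filter fun e => co W Γ M e w = 1) (Finset.filter_subset _ _)
    have hrest : P * w ∈ W ⊓ centralizer ((E i : Subgroup G) : Set G) := by
      rw [hE i, D.fix_class C (hc i)]
      refine ⟨mul_mem hPW hw, fun e he => ?_⟩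
      rw [C.co_mul hPW hw, hPco e (mem_outs.mpr (mem_cls.mp he).1)]
      rcases zmod_two_cases (co W Γ M e w) with h | h
      · have hn : e ∉ (cls W Γ M (c i)).filter (fun e => co W Γ M e w = 1) := fun hm =>
          zero_ne_one (h.symm.trans (Finset.mem_filter.mp hm).2)
        rw [if_neg hn, h, add_zero]
      · have hp : e ∈ (cls W Γ M (c i)).filter (fun e => co W Γ M e w = 1) := Finset.mem_filter.mpr ⟨he, h⟩
        rw [if_pos hp, h]; decide
    have e : w = P * (P * w) := by rw [← mul_assoc, ← pow_two, C.wexp P hPW, one_mul]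
    rw [e]
    exact mul_mem_sup (hE i ▸ hP) hrest
  · obtain ⟨i, -, hi⟩ := hmemE x0 hx0
    refine (C.toSit.eq_gamma_of_le le_sup_right (sup_le (iSup_le hEΓ) C.syl.1) fun hle => ?_).ge
    exact (mem_outs.mp hx0).2 (hle (le_sup_left (b := S) (le_iSup E i (hi x0 (C.cls_self hx0)))))
  · obtain ⟨s, hs, h⟩ := D.trans C (hc i) (hc j)
    exact ⟨s, hs, hcj s hs i j (by rw [h]; exact C.cls_self (hc j))⟩
  · obtain ⟨j, hj, -⟩ := hmemE _ (C.outs_conj (C.SM hs) (hc i))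
    exact ⟨j, hcj s hs i j (hj ▸ C.cls_self (C.outs_conj (C.SM hs) (hc i)))⟩
  · obtain ⟨e, -⟩ : ∃ e : Fin (cls W Γ M (c i)).card ≃ ↥(cls W Γ M (c i)), True :=
      ⟨(cls W Γ M (c i)).equivFin.symm, trivial⟩
    refine ⟨_, fun l => zpowers (e l : G), fun l => ⟨(mem_cls.mp (e l).2).1.1.member,
      zpowers_le.mpr (hE i ▸ subset_closure (e l).2)⟩, ?_, ?_⟩
    · refine (hE i).le.trans ((closure_le _).mpr fun y hy => ?_)
      have := le_iSup (fun l => zpowers (e l : G)) (e.symm ⟨y, hy⟩)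
      refine this ?_
      rw [Equiv.apply_symm_apply]
      exact mem_zpowers y
    · rw [Finset.prod_congr rfl fun l _ => (mem_cls.mp (e l).2).1.1.card_zpowers, Finset.prod_const,
        Finset.card_univ, Fintype.card_fin, hE i]
      exact D.class_index C (hc i)
  · obtain ⟨g, hg, hgA⟩ := C.member_into hA
    obtain ⟨h, hh, hhB⟩ := C.member_into hB
    obtain ⟨-, t, ht, -, htA⟩ := D.member_eq C hx0 (C.toSit.member_cj hg hA) hgA
    obtain ⟨-, t', ht', -, htB⟩ := D.member_eq C hx0 (C.toSit.member_cj hh hB) hhB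
    obtain ⟨a, ha, hat⟩ := D.conj_tvs C hx0 ht
    obtain ⟨b, hb, hbt⟩ := D.conj_tvs C hx0 ht'
    refine ⟨h⁻¹ * (b * a⁻¹) * g, Γ.mul_mem (Γ.mul_mem (Γ.inv_mem hh) (Γ.mul_mem hb (Γ.inv_mem ha))) hg, ?_⟩
    rw [← cj_cj, htA, ← cj_cj, cj_zpowers_eq,
      show b * a⁻¹ * t * (b * a⁻¹)⁻¹ = t' by rw [← hat, ← hbt]; group, ← htB, cj_cj, inv_mul_cancel, cj_one]
  · obtain ⟨g, hg, hgA⟩ := C.member_into hA
    rw [← C.toSit.meas_cj hg]
    exact (D.member_eq C hx0 (C.toSit.member_cj hg hA) hgA).1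
  · obtain ⟨-, t, ht, htS, rfl⟩ := D.member_eq C hx0 hA hAS
    obtain ⟨y, d, hy, hd, -, e⟩ := D.in_M_form C ht (C.SM htS)
    obtain ⟨i, -, hi⟩ := hmemE y hy
    refine ⟨i, zpowers_le.mpr ?_⟩
    rw [← e]
    exact (E i).mul_mem ((E i).mul_mem (hi y (C.cls_self hy)) (hi d hd)) ((E i).inv_mem (hi y (C.cls_self hy)))
  · obtain ⟨-, t, ht, htS, rfl⟩ := D.member_eq C hx0 hA hAS
    exact D.exists_partner C ht htS
  · exact ⟨(mem_outs.mp hd).1.member, (mem_outs.mp hd).1.card_zpowers⟩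
  · obtain ⟨hzW, hz1, hz, -⟩ := C.zc_spec (mem_outs.mp hd).1
    obtain ⟨v, hv, hv1⟩ := C.exists_moved (mem_outs.mp hd).1.mem (mem_outs.mp hd).1.ne
    exact ⟨hz v hv (mu_eq_one.mpr hv1) ▸ commutator_mem_commutator (mem_zpowers d) hv, hz1⟩
  · rw [← ZMod.natCast_eq_one_iff_odd]
    have hset : {e : G | e ∈ outs W Γ M ∧ ⁅x0, zc W e⁆ ≠ 1} = ↑((cls W Γ M x0).erase x0) := by
      ext e
      rw [Set.mem_setOf_eq, Finset.mem_coe, Finset.mem_erase]
      refine ⟨fun ⟨he, h⟩ => ⟨((D.mu_out C hx0 he).mp (mu_eq_one.mpr h)).2,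
        ((D.mu_out C hx0 he).mp (mu_eq_one.mpr h)).1⟩, fun ⟨hne, he⟩ => ?_⟩
      have he' : e ∈ outs W Γ M := mem_outs.mpr (mem_cls.mp he).1
      exact ⟨he', mu_eq_one.mp ((D.mu_out C hx0 he').mpr ⟨he, hne⟩)⟩
    rw [hset, Set.ncard_coe_finset, D.card_erase C hx0]

end

omit C in
/-- With one transvection all blocks are symmetric groups. -/
theorem blk_of_transvection (C : Ctx W Γ S M) {y : G}
    (hy : Tv W Γ y) : ∃ (r : ℕ) (E : Fin r → Subgroup G), Blk 2 W Γ S r E := by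
  obtain ⟨u, κ, h1, h2, h3, h4, h5⟩ := C.exists_dual
  obtain ⟨x, hx, hxM⟩ := C.exists_out hy
  exact Dual.blk C (u := u) (κ := κ) ⟨h1, h2, h3, h4, h5⟩ (mem_outs.mpr ⟨hx, hxM⟩)

end Cfsg.Agent.Fus.Transp
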