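import Cfsg.Agent.Lib.Fus.PMinFF.CompBlocks
import Cfsg.Agent.Lib.Fus.PMinFF.TranspBlocks
import Cfsg.Agent.Lib.Fus.PMinFF.FixedVector

/-!
# Failure of factorisation for groups with one maximal overgroup of a Sylow subgroup

A group `P` with trivial `p`-core and one maximal overgroup of its Sylow subgroup `T`, faithful on an elementary
abelian `p`-group with an offender, is the product of `T` and commuting blocks acting as `SL₂` or symmetric groups on
natural modules, and some fixed vector of `T` is moved.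
-/

set_option autoImplicit false
set_option linter.unusedSectionVars false
set_option linter.style.haveILetI false

namespace Cfsg.Agent.Fus.MinModule

open Subgroup Cfsg.Agent.Grp Cfsg.Agent.Grp.OffenderSL2 Cfsg.Agent.Fus.RootPair Cfsg.Agent.Fus.FFBlocks

universe u

/-- An irreducible situation with a member has blocks. -/
theorem exists_blk {Q : Type u} [Group Q] [Finite Q] {p : ℕ} [Fact p.Prime] {W Γ S M : Subgroup Q}
    (C : Sit p W Γ S M)
    (hirr : ∀ U : Subgroup Q, U ≤ W → (∀ h ∈ Γ, ∀ w ∈ U, h * w * h⁻¹ ∈ U) → U = ⊥ ∨ U = W)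
    {A : Subgroup Q} (hA : Member p W Γ A) : ∃ (r : ℕ) (E : Fin r → Subgroup Q), Blk p W Γ S r E := by
  by_cases hns : RootPair.Small p W Γ
  · obtain ⟨g, hg, hle⟩ := Fail.conj_into C.syl hA.le hA.pg
    exact C.comp_blk hns hirr ⟨C.member_cj hg hA, hle⟩
  · rw [RootPair.Small] at hns
    push Not at hns
    obtain ⟨B, hB, rfl, hB2⟩ := hns
    obtain ⟨n, hn⟩ := IsPGroup.iff_card.mp hB.pg
    have hcard : Nat.card B = 2 := by
      have h0 : n ≠ 0 := fun h => hB.ne (Subgroup.card_eq_one.mp (by rw [hn, h, pow_zero]))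
      have : 2 ≤ 2 ^ n := Nat.le_self_pow h0 2
      omega
    obtain ⟨t, ht, ht1⟩ := (bot_or_exists_ne_one B).resolve_left hB.ne
    have hz : zpowers t = B := by
      refine eq_of_le_of_card_ge (zpowers_le.mpr ht) ?_
      rcases (Nat.dvd_prime Nat.prime_two).mp (hcard ▸ Subgroup.card_dvd_of_le (zpowers_le.mpr ht : zpowers t ≤ B))
        with h | h
      · exact absurd (zpowers_eq_bot.mp (Subgroup.card_eq_one.mp h)) ht1
      · rw [h, hcard]
    refine Transp.blk_of_transvection ⟨C, hirr⟩ (y := t) ⟨hB.le ht, ht1, ?_, ?_⟩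
    · have h : (⟨t, ht⟩ : B) ^ Nat.card B = 1 := pow_card_eq_one'
      rw [hcard] at h
      rw [← pow_two]; exact congrArg Subtype.val h
    · have h := hB.meas_ge
      rw [meas, ← hz, Nat.card_zpowers, zpowers_eq_closure, centralizer_closure] at h
      rwa [← Nat.card_zpowers, hz, hcard] at h

/-- The structure of the group and the fixed vector. -/
theorem main {G : Type u} [Group G] [Finite G] {p : ℕ} [Fact p.Prime] {V P T M : Subgroup G}
    (H : PHyp p P T M) (A : VHyp p V P) {X : Subgroup G} (hX : X ≤ P) (hX1 : X ≠ ⊥) (hXp : IsPGroup p X)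
    (hXc : ∀ a ∈ X, ∀ b ∈ X, a * b = b * a)
    (hoff : Nat.card V ≤ Nat.card X * Nat.card ↥(V ⊓ centralizer (X : Set G))) :
    (∃ (r : ℕ) (E : Fin r → Subgroup G), VBlk p V P T r E) ∧
      ∃ u ∈ V, (∀ t ∈ T, t * u * t⁻¹ = u) ∧ ∃ g ∈ P, g * u * g⁻¹ ≠ u := by
  obtain ⟨X1, -, hX1m⟩ := exists_member (W := V) (Γ := P) hX hX1 hXp hXc hoff
  obtain ⟨g, hg, hgT⟩ := Fail.conj_into H.syl hX1m.le hX1m.pg
  have hX0 : Member p V P (cj g X1) := member_cj A hg hX1m
  obtain ⟨V0, U, C0, D⟩ := exists_sec H A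
  obtain ⟨Q, iQ, fQ, f, W, Γ, S, M', L, C, hirr⟩ := exists_link H A D
  obtain ⟨Y, hY⟩ : ∃ Y, Y = im f (cj g X1) := ⟨_, rfl⟩
  have hYne : Y ≠ ⊥ := fun e => hX0.ne (eq_bot_iff.mpr fun a ha => mem_bot.mpr
    (L.inj_on D hX0.le hX0.pg ha (mem_bot.mp (e.le (hY ▸ mem_im_of ha)))))
  have hYS : Y ≤ S := hY ▸ (L.im_mono hgT).trans (L.im_T H.syl.1).le
  obtain ⟨Y1, -, hY1⟩ := exists_member (W := W) (Γ := Γ) (hYS.trans C.syl.1) hYne (C.syl.2.1.to_le hYS)
    (fun a ha b hb => by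
      have hle := hX0.le.trans (le_sup_right (a := V0))
      obtain ⟨x, hx, rfl⟩ := (L.mem_im hle).mp (hY.le ha)
      obtain ⟨y, hy, rfl⟩ := (L.mem_im hle).mp (hY.le hb)
      rw [← L.mul x (hle hx) y (hle hy), ← L.mul y (hle hy) x (hle hx), hX0.comm x hx y hy])
    (hY ▸ L.image_offender D A hX0.le hX0.pg hX0.meas_ge)
  obtain ⟨r, E, B⟩ := exists_blk C hirr hY1
  obtain ⟨F, -, hF⟩ := L.vblk D H A C B hX0 hgT
  refine ⟨⟨r, F, hF⟩, ?_⟩
  rcases B.lift with h | h
  · exact L.fixed_of_torus D H A C B hX0 hgT h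
  · exact L.fixed_of_centres D H A C B hX0 hgT h

/-- The hypotheses for a subgroup with a Sylow subgroup lying in one maximal subgroup. -/
theorem phyp_of {G : Type u} [Group G] [Finite G] {p : ℕ} [Fact p.Prime] {P : Subgroup G}
    (hmin : Cfsg.IsPMinimal p ↥P) (T : Sylow p ↥P) (hOp : Cfsg.pCore p ↥P = ⊥) :
    ∃ M : Subgroup ↥P, IsCoatom M ∧ (T : Subgroup ↥P) ≤ M ∧
      PHyp p P ((T : Subgroup ↥P).map P.subtype) (M.map P.subtype) := by
  obtain ⟨-, M, ⟨hM, hTM⟩, huniq⟩ := hmin T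
  refine ⟨M, hM, hTM, ⟨⟨map_subtype_le _, T.isPGroup'.map _, ?_⟩, map_mono hTM, map_subtype_le _, fun e => hM.1 ?_,
    fun H hTH hHP hne => ?_, fun Q hQ hQp hQn => ?_⟩⟩
  · rw [Subgroup.relIndex, Subgroup.subgroupOf, Subgroup.comap_map_eq_self_of_injective P.subtype_injective]
    exact T.not_dvd_index
  · refine eq_top_iff.mpr fun x _ => ?_
    exact (mem_map_iff_mem P.subtype_injective).mp (e.ge x.2)
  · have h1 : H.subgroupOf P ≠ ⊤ := fun e => hne (le_antisymm hHP (subgroupOf_eq_top.mp e))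
    obtain ⟨N, hN, hHN⟩ : ∃ N : Subgroup ↥P, IsCoatom N ∧ H.subgroupOf P ≤ N := by
      rcases eq_top_or_exists_le_coatom (H.subgroupOf P) with h | h
      · exact absurd h h1
      · exact h
    have hTN : (T : Subgroup ↥P) ≤ N := le_trans (fun t ht => mem_subgroupOf.mpr (hTH ⟨t, ht, rfl⟩)) hHN
    have he : N = M := huniq N ⟨hN, hTN⟩
    exact fun x hx => ⟨⟨x, hHP hx⟩, he ▸ hHN (mem_subgroupOf.mpr hx), rfl⟩
  · haveI : (Q.subgroupOf P).Normal := normal_subgroupOf_of_le_normalizer hQn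
    have h2 : Q.subgroupOf P ≤ Cfsg.pCore p ↥P :=
      Grp.le_pCore inferInstance (hQp.of_equiv (Subgroup.subgroupOfEquivOfLe hQ).symm)
    rw [hOp, le_bot_iff, subgroupOf_eq_bot, disjoint_iff, inf_eq_left.mpr hQ] at h2
    exact h2

/-- A best offender is an abelian `p`-group of measure at least `|V|`. -/
theorem offender_of {G : Type u} [Group G] [Finite G] {p : ℕ} [Fact p.Prime] {V P : Subgroup G}
    (hfaith : P ⊓ centralizer (V : Set G) = ⊥) {A : Subgroup G} (hA : A ≤ P)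
    (hb : Cfsg.IsBestOffenderOn p V A) :
    IsPGroup p A ∧ (∀ a ∈ A, ∀ b ∈ A, a * b = b * a) ∧
      Nat.card V ≤ Nat.card A * Nat.card ↥(V ⊓ centralizer (A : Set G)) := by
  have h1 : ∀ x ∈ A, x ∈ centralizer (V : Set G) → x = 1 := fun x hx hc =>
    mem_bot.mp (hfaith.le (mem_inf.mpr ⟨hA hx, hc⟩))
  refine ⟨fun a => ⟨1, Subtype.ext ?_⟩, fun a ha b hb' => commutatorElement_eq_one_iff_mul_comm.mp
    (h1 _ (A.mul_mem (A.mul_mem (A.mul_mem ha hb') (A.inv_mem ha)) (A.inv_mem hb'))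
      (hb.2.1 (commutator_mem_commutator ha hb'))), ?_⟩
  · rw [pow_one, coe_pow, coe_one]
    exact h1 _ (A.pow_mem a.2 p) (hb.2.2 a a.2)
  · refine le_trans ?_ (hb.1 ⊥ bot_le)
    rw [card_bot, one_mul]
    refine card_le_of_le (le_inf le_rfl fun v _ => mem_centralizer_iff.mpr fun b hb' => ?_)
    rw [mem_bot.mp hb', one_mul, mul_one]

end Cfsg.Agent.Fus.MinModule
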