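import Cfsg.Agent.Lib.Fus.RootPairBasic
import Cfsg.Agent.Lib.Fus.FFEmbeddedBasic

/-!
# What is used of the blocks of an irreducible failure of factorisation module

`Blk` collects what the lifting argument needs about the commuting subgroups generated by the members: the two
models (`SL₂` on the natural module, the symmetric group on the even-weight module), the way an element centralising
a member splits along a partner, and a way to produce fixed vectors of `S`.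
-/

set_option autoImplicit false
set_option linter.unusedSectionVars false

open scoped commutatorElement Matrix

namespace Cfsg.Agent.Fus.FFBlocks

open Subgroup Cfsg.Agent.Grp Cfsg.Agent.Grp.OffenderSL2 Cfsg.Agent.Fus.RootPair

universe u

variable {G : Type u} [Group G]

/-- `E` acts on `W` modulo its fixed space as `SL₂` or a symmetric group of odd degree on the natural module. -/
def Model (p : ℕ) (W E : Subgroup G) : Prop :=
  ∃ n, 1 ≤ n ∧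
    ((∃ (F : Type) (_ : Field F) (_ : Fintype F) (ρ : ↥E →* Matrix.SpecialLinearGroup (Fin 2) F)
        (ψ : G → Fin 2 → F), Fintype.card F = p ^ n ∧ Function.Bijective ρ ∧
        (∀ v ∈ W, ∀ w ∈ W, ψ (v * w) = ψ v + ψ w) ∧
        (∀ v ∈ W, (ψ v = 0 ↔ v ∈ W ⊓ centralizer (E : Set G))) ∧ (∀ y, ∃ v ∈ W, ψ v = y) ∧
        ∀ (e : ↥E), ∀ v ∈ W, ψ ((e : G) * v * (e : G)⁻¹) = (ρ e : Matrix (Fin 2) (Fin 2) F) *ᵥ ψ v) ∨
      (p = 2 ∧ ∃ (ρ : ↥E →* Equiv.Perm (Fin (2 ^ n + 1))) (ψ : G → Fin (2 ^ n + 1) → ZMod 2),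
        Function.Bijective ρ ∧ (∀ v ∈ W, ∀ w ∈ W, ψ (v * w) = ψ v + ψ w) ∧ (∀ v ∈ W, ∑ i, ψ v i = 0) ∧
        (∀ v ∈ W, (ψ v = 0 ↔ v ∈ W ⊓ centralizer (E : Set G))) ∧
        (∀ y : Fin (2 ^ n + 1) → ZMod 2, ∑ i, y i = 0 → ∃ v ∈ W, ψ v = y) ∧
        ∀ (e : ↥E), ∀ v ∈ W, ∀ i, ψ ((e : G) * v * (e : G)⁻¹) i = ψ v ((ρ e)⁻¹ i)))

/-- A partner of a member. -/
def Partner (W Γ S A : Subgroup G) (x : G) : Prop :=
  x ∈ Γ ∧ Nat.card A * Nat.card ↥(cj x ⁅A, W⁆ ⊓ centralizer (A : Set G)) ≤ Nat.card ↥⁅A, W⁆ ∧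
    ∀ e ∈ S, (∀ a ∈ A, e * a = a * e) →
      ∃ a ∈ A, a⁻¹ * e * x = x * (a⁻¹ * e) ∧
        ∀ b ∈ A, ∀ v ∈ W, (a⁻¹ * e) * ⁅b, v⁆ * (a⁻¹ * e)⁻¹ = ⁅b, v⁆

/-- A torus moving the first point of a member. -/
def TorusLift {r : ℕ} (p : ℕ) (W Γ S : Subgroup G) (E : Fin r → Subgroup G) : Prop :=
  ∃ (A : Subgroup G) (i : Fin r) (D : Subgroup G), Member p W Γ A ∧ A ≤ S ∧ A ≤ E i ∧ D ≤ E i ∧
    (Nat.card D).Coprime p ∧ (∀ d ∈ D, cj d A = A) ∧ (∀ s ∈ S, cj s A = A → cj s D ≤ A ⊔ D) ∧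
    (∀ s ∈ S, cj s (E i) = E i → cj s A = A) ∧
    ∃ w ∈ W ⊓ centralizer (A : Set G), ∃ d ∈ D, d * w * d⁻¹ ≠ w

/-- Transvections whose centres have a product moved by one of them. -/
def CentreLift (p : ℕ) (W Γ S : Subgroup G) : Prop :=
  p = 2 ∧ ∃ (D : Finset G) (Z : G → G),
    (∀ d ∈ D, Member p W Γ (zpowers d) ∧ Nat.card ↥(zpowers d) = 2) ∧
    (∀ s ∈ S, ∀ d ∈ D, s * d * s⁻¹ ∈ D) ∧
    (∀ d ∈ D, Z d ∈ ⁅zpowers d, W⁆ ∧ Z d ≠ 1) ∧
    ∃ d ∈ D, Odd {e : G | e ∈ D ∧ ⁅d, Z e⁆ ≠ 1}.ncard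

/-- The blocks. -/
structure Blk (p : ℕ) (W Γ S : Subgroup G) (r : ℕ) (E : Fin r → Subgroup G) : Prop where
  pos : 0 < r
  le : ∀ i, E i ≤ Γ
  comm : ∀ i j, i ≠ j → ∀ a ∈ E i, ∀ b ∈ E j, a * b = b * a
  fix : ∀ i j, i ≠ j → ∀ l ∈ E i, ∀ w ∈ W, ⁅l, w⁆ ∈ W ⊓ centralizer ((E j : Subgroup G) : Set G)
  full : ∀ i, W ≤ ⁅E i, W⁆ ⊔ (W ⊓ centralizer ((E i : Subgroup G) : Set G))
  sup : Γ ≤ (⨆ i, E i) ⊔ S
  trans : ∀ i j, ∃ s ∈ S, cj s (E i) = E j
  perm : ∀ s ∈ S, ∀ i, ∃ j, cj s (E i) = E j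
  model : ∀ i, Model p W (E i)
  gens : ∀ i, ∃ (k : ℕ) (f : Fin k → Subgroup G), (∀ l, Member p W Γ (f l) ∧ f l ≤ E i) ∧ E i ≤ (⨆ l, f l) ∧
    (∏ l, Nat.card ↥(f l)) * Nat.card ↥(W ⊓ centralizer ((E i : Subgroup G) : Set G)) ≤ Nat.card W
  conj : ∀ A B, Member p W Γ A → Member p W Γ B → ∃ g ∈ Γ, cj g A = B
  exact : ∀ A, Member p W Γ A → meas W A = Nat.card W
  inside : ∀ A, Member p W Γ A → A ≤ S → ∃ i, A ≤ E i
  partner : ∀ A, Member p W Γ A → A ≤ S → ∃ x, Partner W Γ S A x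
  lift : TorusLift p W Γ S E ∨ CentreLift p W Γ S

/-- An offender contains a member. -/
theorem exists_member [Finite G] {p : ℕ} {W Γ A : Subgroup G} (hle : A ≤ Γ) (hne : A ≠ ⊥) (hp : IsPGroup p A)
    (hc : ∀ a ∈ A, ∀ b ∈ A, a * b = b * a) (h : Nat.card W ≤ meas W A) :
    ∃ A1, A1 ≤ A ∧ Member p W Γ A1 := by
  obtain ⟨A1, ⟨h1, h2, h3⟩, hmin⟩ := Set.exists_min_image {B : Subgroup G | B ≤ A ∧ B ≠ ⊥ ∧ Nat.card W ≤ meas W B}
    (fun B => Nat.card B) (Set.toFinite _) ⟨A, le_rfl, hne, h⟩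
  refine ⟨A1, h1, h1.trans hle, h2, hp.to_le h1, fun a ha b hb => hc a (h1 ha) b (h1 hb), h3,
    fun B hB hB1 hB2 => lt_of_not_ge fun hge => hB2 ?_⟩
  exact eq_of_le_of_card_ge hB (hmin B ⟨hB.trans h1, hB1, h3.trans hge⟩)

/-- Dropping a member with a partner space does not decrease the measure. -/
theorem meas_split [Finite G] {V A1 X X' Y : Subgroup G} (hc : ∀ v ∈ V, ∀ w ∈ V, v * w = w * v)
    (hA : A1 ≤ X) (hX' : X' ≤ X) (hXc : ∀ a ∈ X, ∀ b ∈ X, a * b = b * a) (hX : X ≤ A1 ⊔ X') (hY : Y ≤ V)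
    (hfix : Y ≤ centralizer (X' : Set G))
    (hcard : Nat.card A1 * Nat.card ↥(Y ⊓ centralizer (A1 : Set G)) ≤ Nat.card Y) :
    meas V X ≤ meas V X' := by
  obtain ⟨C, hC⟩ : ∃ C, C = V ⊓ centralizer (X : Set G) := ⟨_, rfl⟩
  have h1 : Nat.card X ≤ Nat.card A1 * Nat.card X' := by
    refine (card_le_of_le hX).trans ?_
    have e := Grp.card_sup_mul_card_inf (H := A1) (N := X') fun a ha => centralizer_le_normalizer _
      (mem_centralizer_iff.mpr fun b hb => hXc b (hX' hb) a (hA ha))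
    rw [← e]
    exact Nat.le_mul_of_pos_right _ Nat.card_pos
  have h2 : Nat.card A1 * Nat.card C ≤ Nat.card ↥(V ⊓ centralizer (X' : Set G)) := by
    have e := Grp.card_sup_mul_card_inf (H := Y) (N := C) fun y hy => centralizer_le_normalizer _
      (mem_centralizer_iff.mpr fun c hc' => hc c (hC.le hc').1 y (hY hy))
    have hle : Y ⊔ C ≤ V ⊓ centralizer (X' : Set G) :=
      sup_le (le_inf hY hfix) (hC ▸ inf_le_inf le_rfl (centralizer_le (SetLike.coe_subset_coe.mpr hX')))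
    have hYC : Nat.card ↥(Y ⊓ C) ≤ Nat.card ↥(Y ⊓ centralizer (A1 : Set G)) :=
      card_le_of_le (inf_le_inf le_rfl (hC ▸ inf_le_right.trans (centralizer_le (SetLike.coe_subset_coe.mpr hA))))
    refine Nat.le_of_mul_le_mul_right (a := Nat.card A1 * Nat.card C) ?_ (Nat.card_pos : 0 < Nat.card ↥(Y ⊓ C))
    calc Nat.card A1 * Nat.card C * Nat.card ↥(Y ⊓ C) = (Nat.card A1 * Nat.card ↥(Y ⊓ C)) * Nat.card C := by ring
      _ ≤ Nat.card Y * Nat.card C := Nat.mul_le_mul_right _ ((Nat.mul_le_mul_left _ hYC).trans hcard)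
      _ = Nat.card ↥(Y ⊔ C) * Nat.card ↥(Y ⊓ C) := e.symm
      _ ≤ _ := Nat.mul_le_mul_right _ (card_le_of_le hle)
  rw [meas, meas, ← hC]
  calc Nat.card X * Nat.card C ≤ Nat.card A1 * Nat.card X' * Nat.card C := Nat.mul_le_mul_right _ h1
    _ = Nat.card X' * (Nat.card A1 * Nat.card C) := by ring
    _ ≤ _ := Nat.mul_le_mul_left _ h2

/-- A nontrivial group fixing the partner space has no partner. -/
theorem not_fix_partner [Finite G] {A Y : Subgroup G} (hA : A ≠ ⊥)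
    (hcard : Nat.card A * Nat.card ↥(Y ⊓ centralizer (A : Set G)) ≤ Nat.card Y) :
    ¬ Y ≤ centralizer (A : Set G) := fun h => by
  rw [inf_eq_left.mpr h] at hcard
  have h1 : 1 < Nat.card A := one_lt_card_iff_ne_bot _ |>.mpr hA
  have h2 : 0 < Nat.card Y := Nat.card_pos
  nlinarith

variable [Finite G] {p : ℕ} {W Γ S : Subgroup G} {r : ℕ} {E : Fin r → Subgroup G}

/-- Every abelian offender in `S` lies in the product of the blocks. -/
theorem Blk.le_sup (B : Blk p W Γ S r E) (hc : ∀ v ∈ W, ∀ w ∈ W, v * w = w * v)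
    (hn : ∀ g ∈ Γ, ∀ v ∈ W, g * v * g⁻¹ ∈ W) (hSΓ : S ≤ Γ) (hSp : IsPGroup p S) :
    ∀ X : Subgroup G, X ≤ S → (∀ a ∈ X, ∀ b ∈ X, a * b = b * a) → Nat.card W ≤ meas W X → X ≤ ⨆ i, E i := by
  intro X
  induction hk : Nat.card X using Nat.strong_induction_on generalizing X with
  | _ k ih =>
  intro hXS hXc hX
  by_cases hX0 : X = ⊥
  · rw [hX0]; exact bot_le
  obtain ⟨A, hAX, hA⟩ := exists_member (Γ := Γ) (hXS.trans hSΓ) hX0 (hSp.to_le hXS) hXc hX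
  obtain ⟨x, hxΓ, hcard, hsplit⟩ := B.partner A hA (hAX.trans hXS)
  obtain ⟨i, hi⟩ := B.inside A hA (hAX.trans hXS)
  obtain ⟨X', hX'⟩ : ∃ X', X' = X ⊓ (centralizer ({x} : Set G) ⊓ centralizer ((⁅A, W⁆ : Subgroup G) : Set G)) := ⟨_, rfl⟩
  have hle : X ≤ A ⊔ X' := by
    intro e he
    obtain ⟨a, ha, h1, h2⟩ := hsplit e (hXS he) fun a ha => hXc e he a (hAX ha)
    rw [show e = a * (a⁻¹ * e) by group]
    refine mul_mem_sup ha (hX'.ge (mem_inf.mpr ⟨X.mul_mem (X.inv_mem (hAX ha)) he, mem_inf.mpr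
      ⟨mem_centralizer_singleton_iff.mpr h1, ?_⟩⟩))
    have hcl : ⁅A, W⁆ ≤ centralizer ({a⁻¹ * e} : Set G) := commutator_le.mpr fun b hb v hv =>
      mem_centralizer_singleton_iff.mpr (mul_inv_eq_iff_eq_mul.mp (h2 b hb v hv)).symm
    exact mem_centralizer_iff.mpr fun z hz => mem_centralizer_singleton_iff.mp (hcl hz)
  have hAW : ⁅A, W⁆ ≤ W :=
    commutator_le.mpr fun a ha v hv => W.mul_mem (hn a (hA.le ha) v hv) (W.inv_mem hv)
  have hfix : cj x ⁅A, W⁆ ≤ centralizer (X' : Set G) := cj_le.mpr fun y hy => mem_centralizer_iff.mpr fun e he => by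
    obtain ⟨-, h1, h2⟩ := hX'.le he
    have e1 : e * x = x * e := mem_centralizer_singleton_iff.mp h1
    have e2 : y * e = e * y := mem_centralizer_iff.mp h2 y hy
    calc e * (x * y * x⁻¹) = (e * x) * y * x⁻¹ := by group
      _ = x * (e * y) * x⁻¹ := by rw [e1]; group
      _ = x * y * (e * x⁻¹) := by rw [← e2]; group
      _ = x * y * x⁻¹ * e := by
        rw [show e * x⁻¹ = x⁻¹ * e from (Commute.inv_right (show Commute e x from e1)).eq]; group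
  have hX'X : X' ≤ X := hX' ▸ inf_le_left
  have hY : cj x ⁅A, W⁆ ≤ W := cj_le.mpr fun y hy => hn x hxΓ y (hAW hy)
  have hcard' : Nat.card A * Nat.card ↥(cj x ⁅A, W⁆ ⊓ centralizer (A : Set G)) ≤ Nat.card ↥(cj x ⁅A, W⁆) := by
    rw [card_cj]; exact hcard
  have hlt : Nat.card X' < Nat.card X := by
    refine lt_of_not_ge fun hge => not_fix_partner hA.ne hcard' ?_
    exact hfix.trans (centralizer_le (SetLike.coe_subset_coe.mpr (hAX.trans (eq_of_le_of_card_ge hX'X hge).ge)))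
  have hm := hX.trans (meas_split hc hAX hX'X hXc hle hY hfix hcard')
  exact hle.trans (sup_le (hi.trans (le_iSup E i))
    (ih _ (hk ▸ hlt) X' rfl (hX'X.trans hXS) (fun a ha b hb => hXc a (hX'X ha) b (hX'X hb)) hm))

end Cfsg.Agent.Fus.FFBlocks
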