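import Cfsg.Agent.Lib.Fus.PMinFF.Main
import Cfsg.Agent.Lib.Fus.CharTransferModule
import Cfsg.Agent.Lib.Invol.ZJElem
import Cfsg.Agent.Lib.Invol.BlockPairFacts
import Cfsg.Agent.Lib.Transfer.Thompson

/-!
# The module of a group with one maximal overgroup of its Sylow subgroup and `G ≠ C**(G, T)`

The automorphisms induced on `Ω₁(Z(O_p(G)))` satisfy the hypotheses of the failure of factorisation theorem and the
elementary abelian subgroups of largest order are offenders.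
-/

set_option autoImplicit false
set_option linter.unusedSectionVars false
set_option linter.style.haveILetI false

open scoped commutatorElement

namespace Cfsg.Agent.Fus.CStarStar

open Subgroup Cfsg.Agent.Grp Cfsg.Agent.Grp.OffenderSL2 Cfsg.Agent.Fus.MinModule
open Cfsg.Agent.Fus.CharTransfer (Amb act modW)

universe u

variable {G : Type u} [Group G] [Finite G] {p : ℕ} [Fact p.Prime]

/-- The module. -/
abbrev mod (p : ℕ) (G : Type u) [Group G] : Subgroup G := Cfsg.omegaOneCenter p (Cfsg.pCore p G)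

/-- The hypotheses. -/
structure Hyp (T : Sylow p G) (M : Subgroup G) : Prop where
  core : centralizer (Cfsg.pCore p G : Set G) ≤ Cfsg.pCore p G
  TM : (T : Subgroup G) ≤ M
  coatom : IsCoatom M
  uniq : ∀ H : Subgroup G, (T : Subgroup G) ≤ H → H ≠ ⊤ → H ≤ M
  cle : Cfsg.cStarStarOf p (T : Subgroup G) ≤ M

omit [Fact p.Prime] in
theorem mod_normal : (mod p G).Normal := by
  haveI : (Cfsg.pCore p G).Normal := Grp.pCore_isNormal
  refine normalizer_eq_top_iff.mp (top_le_iff.mp ?_)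
  exact Invol.BlockPair.le_normalizer_omega (p := p) (H := (⊤ : Subgroup G)) (normalizer_eq_top_iff.mpr inferInstance).ge

instance : (mod p G).Normal := mod_normal

theorem mod_comm {v w : G} (hv : v ∈ mod p G) (hw : w ∈ mod p G) : v * w = w * v :=
  mem_centralizer_iff.mp (Invol.BlockPair.omegaOneCenter_le _ hw).2 v (Invol.BlockPair.omegaOneCenter_le _ hv).1

theorem core_le_cent : Cfsg.pCore p G ≤ centralizer (mod p G : Set G) := fun q hq =>
  mem_centralizer_iff.mpr fun v hv => (mem_centralizer_iff.mp (Invol.BlockPair.omegaOneCenter_le _ hv).2 q hq).symm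

variable {T : Sylow p G} {M : Subgroup G} (h : Hyp T M)
include h

theorem Hyp.cent_le : centralizer (mod p G : Set G) ≤ M := by
  refine le_trans (le_trans (centralizer_le (SetLike.coe_subset_coe.mpr ?_)) le_sup_left) h.cle
  refine (closure_le _).mpr ?_
  rintro z ⟨⟨hz, hzc⟩, hzp⟩
  have hc : z ∈ centralizer (Cfsg.pCore p G : Set G) :=
    centralizer_le (SetLike.coe_subset_coe.mpr (Grp.pCore_le_sylow T)) hzc
  exact Invol.BlockPair.mem_omegaOneCenter (h.core hc) hc hzp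

theorem Hyp.jnorm_le : normalizer (Cfsg.thompsonSubgroupOf p (T : Subgroup G) : Set G) ≤ M :=
  le_sup_right.trans h.cle

/-- Normal subgroups inside the centraliser, by the Frattini argument. -/
theorem Hyp.frattini {N X : Subgroup G} (hN : ∀ g n, n ∈ N → g * n * g⁻¹ ∈ N) (hNM : N ≤ M)
    (hX : X = (T : Subgroup G) ⊓ N) : normalizer (X : Set G) = ⊤ := by
  by_contra hne
  have hTX : (T : Subgroup G) ≤ normalizer (X : Set G) := fun t ht =>
    RootPair.norm_of_cj (eq_of_le_of_card_ge (RootPair.cj_le.mpr fun x hx => by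
      rw [hX] at hx ⊢
      exact ⟨mul_mem (mul_mem ht hx.1) ((T : Subgroup G).inv_mem ht), hN t x hx.2⟩) (card_cj _ _).ge)
  have hle := h.uniq _ hTX hne
  have hTs : Grp.IsSylowIn p (T : Subgroup G) ⊤ := ⟨le_top, T.isPGroup', by
    rw [relIndex_top_right]; exact T.not_dvd_index⟩
  have hsyl : Grp.IsSylowIn p X N := hX ▸ Fail.sylow_inf_normal hTs le_top fun g _ n hn => hN g n hn
  refine h.coatom.1 (eq_top_iff.mpr fun g _ => ?_)
  have hXN : X ≤ N := hsyl.1
  have hcj : Grp.IsSylowIn p (cj g X) N := by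
    have hle' : cj g X ≤ N := RootPair.cj_le.mpr fun q hq => hN g q (hXN hq)
    refine ⟨hle', hsyl.2.1.map _, ?_⟩
    have e1 := relIndex_mul_relIndex ⊥ (cj g X) N bot_le hle'
    have e2 := relIndex_mul_relIndex ⊥ X N bot_le hXN
    rw [relIndex_bot_left, relIndex_bot_left, card_cj] at e1
    rw [relIndex_bot_left, relIndex_bot_left, ← e1] at e2
    rw [← Nat.eq_of_mul_eq_mul_left Nat.card_pos e2]
    exact hsyl.2.2
  obtain ⟨n, hn, he⟩ := hsyl.conj hcj
  rw [← map_conj_eq_smul] at he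
  have h1 : n⁻¹ * g ∈ M := hle (RootPair.norm_of_cj (by
    rw [← cj_cj, show cj g X = cj n X from he.symm, cj_cj, inv_mul_cancel, cj_one]))
  simpa using M.mul_mem (hNM hn) h1

/-- Some largest elementary abelian subgroup moves the module. -/
theorem Hyp.exists_maxEl : ∃ A, Invol.IsMaxEl p (T : Subgroup G) A ∧ ¬ A ≤ centralizer (mod p G : Set G) := by
  by_contra hc
  push Not at hc
  haveI hC : (centralizer (mod p G : Set G)).Normal := Invol.PushUnique.centralizer_normal' _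
  obtain ⟨X, hX⟩ : ∃ X, X = (T : Subgroup G) ⊓ centralizer (mod p G : Set G) := ⟨_, rfl⟩
  have htop := h.frattini (fun g n hn => hC.conj_mem n hn g) h.cent_le hX
  refine h.coatom.1 (eq_top_iff.mpr fun g _ => h.jnorm_le (RootPair.norm_of_cj
    (eq_of_le_of_card_ge (RootPair.cj_le.mpr ?_) (card_cj _ _).ge)))
  have hJ : Cfsg.thompsonSubgroupOf p (T : Subgroup G) = Cfsg.thompsonSubgroupOf p X := by
    have hiff : ∀ A, Invol.IsMaxEl p (T : Subgroup G) A → Invol.IsMaxEl p X A := fun A hA =>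
      ⟨hX ▸ le_inf hA.1 (hc A hA), hA.2.1, fun B hB hB' => hA.2.2 B (hB.trans (hX ▸ inf_le_left)) hB'⟩
    refine le_antisymm (Invol.thompsonEl_le_of fun A hA => (hiff A hA).le_thompsonEl)
      (Invol.thompsonEl_le_of fun A hA => Invol.IsMaxEl.le_thompsonEl ⟨hA.1.trans (hX ▸ inf_le_left), hA.2.1,
        fun B hB hB' => ?_⟩)
    obtain ⟨A0, hA0⟩ : ∃ A0, Invol.IsMaxEl p (T : Subgroup G) A0 := by
      obtain ⟨A0, ⟨h1, h2⟩, hmax⟩ := Set.exists_max_image
        {A : Subgroup G | A ≤ (T : Subgroup G) ∧ (∀ x ∈ A, ∀ y ∈ A, x * y = y * x) ∧ ∀ x ∈ A, x ^ p = 1}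
        (fun A => Nat.card A) (Set.toFinite _) ⟨⊥, bot_le, fun x hx y hy => by rw [mem_bot.mp hx, one_mul, mul_one],
          fun x hx => by rw [mem_bot.mp hx, one_pow]⟩
      exact ⟨A0, h1, h2, fun B hB hB' => hmax B ⟨hB, hB'⟩⟩
    exact (hA0.2.2 B hB hB').trans (hA.2.2 A0 (hiff A0 hA0).1 hA0.2.1)
  intro x hx
  rw [hJ] at hx ⊢
  exact Invol.conj_mem_thompsonEl (htop.ge (mem_top g)) hx

omit h in
theorem act_ker : (act (mod p G)).ker = centralizer (mod p G : Set G) :=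
  Subgroup.ext fun x => by rw [MonoidHom.mem_ker, CharTransfer.act_one_iff]

/-- The automorphisms induced on the module. -/
theorem Hyp.phyp : PHyp p (act (mod p G)).range ((T : Subgroup G).map (act (mod p G))) (M.map (act (mod p G))) := by
  obtain ⟨φ, hφ⟩ : ∃ φ, φ = act (mod p G) := ⟨_, rfl⟩
  have hker : φ.ker = centralizer (mod p G : Set G) := hφ ▸ act_ker
  have hkM : φ.ker ≤ M := hker ▸ h.cent_le
  rw [← hφ]
  have hTs : Grp.IsSylowIn p (T : Subgroup G) ⊤ := ⟨le_top, T.isPGroup', by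
    rw [relIndex_top_right]; exact T.not_dvd_index⟩
  refine ⟨⟨map_le_range _ _, T.isPGroup'.map φ, fun hd => T.not_dvd_index (hd.trans ?_)⟩, map_mono h.TM,
    map_le_range _ _, fun e => h.coatom.1 (eq_top_iff.mpr fun g _ => ?_), fun K hTK hK hne => ?_,
    fun Q hQ hQp hQn => ?_⟩
  · rw [MonoidHom.range_eq_map, relIndex_map_map, top_sup_eq, relIndex_top_right]
    exact index_dvd_of_le le_sup_left
  · obtain ⟨m, hm, e'⟩ := e.ge ⟨g, rfl⟩
    have : m⁻¹ * g ∈ φ.ker := by rw [MonoidHom.mem_ker, map_mul, map_inv, e', inv_mul_cancel]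
    simpa using M.mul_mem hm (hkM this)
  · intro k hk
    obtain ⟨g, rfl⟩ := hK hk
    refine mem_map_of_mem φ (h.uniq (K.comap φ) (map_le_iff_le_comap.mp hTK) (fun e => hne ?_) hk)
    exact le_antisymm hK (by rintro _ ⟨x, rfl⟩; exact e.ge (mem_top x))
  · obtain ⟨N, hN⟩ : ∃ N, N = Q.comap φ := ⟨_, rfl⟩
    have hNn : ∀ g n, n ∈ N → g * n * g⁻¹ ∈ N := fun g n hn => by
      rw [hN, mem_comap] at hn ⊢
      rw [map_mul, map_mul, map_inv]
      exact (mem_normalizer_iff.mp (hQn ⟨g, rfl⟩) _).mp hn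
    obtain ⟨X, hX⟩ : ∃ X, X = (T : Subgroup G) ⊓ N := ⟨_, rfl⟩
    have hsyl : Grp.IsSylowIn p X N := hX ▸ Fail.sylow_inf_normal hTs le_top fun g _ n hn => hNn g n hn
    have him : Q ≤ X.map φ := by
      have hle : X.map φ ≤ Q := map_le_iff_le_comap.mpr (hN ▸ hsyl.1)
      have hs2 : Grp.IsSylowIn p (X.map φ) Q := by
        refine ⟨hle, hsyl.2.1.map φ, fun hd => hsyl.2.2 (hd.trans ?_)⟩
        rw [show Q = N.map φ by rw [hN, map_comap_eq_self hQ], relIndex_map_map]
        refine (relIndex_dvd_of_le_left (N ⊔ φ.ker) (le_sup_left : X ≤ X ⊔ φ.ker)).trans (dvd_of_eq ?_)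
        rw [sup_eq_left.mpr (hN ▸ ker_le_comap φ Q)]
      exact (hs2.eq_of_le hle le_rfl hQp).ge
    have hN2 : N ≤ M := by
      by_contra hnot
      refine hnot ?_
      rw [hN]
      refine (comap_mono him).trans ?_
      rw [comap_map_eq]
      exact sup_le ((hX.le.trans inf_le_left).trans h.TM) hkM
    haveI : X.Normal := normalizer_eq_top_iff.mp (h.frattini hNn hN2 hX)
    refine eq_bot_iff.mpr (him.trans ?_)
    refine map_le_iff_le_comap.mpr fun x hx => ?_
    rw [mem_comap, mem_bot, ← MonoidHom.mem_ker, hker]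
    exact core_le_cent (Grp.le_pCore inferInstance hsyl.2.1 hx)

omit h in
/-- The module is elementary abelian and faithful. -/
theorem vhyp : VHyp p (modW (mod p G)) (act (mod p G)).range := by
  refine ⟨?_, ?_, ?_, eq_bot_iff.mpr ?_⟩
  · rintro _ ⟨v, rfl⟩ _ ⟨w, rfl⟩
    rw [← map_mul, ← map_mul]
    exact congrArg _ (Subtype.ext (mod_comm v.2 w.2))
  · rintro _ ⟨v, rfl⟩
    rw [← map_pow, show v ^ p = 1 from Subtype.ext (by
      rw [coe_pow, coe_one]; exact Invol.BlockPair.omegaOneCenter_pow_eq _ v.2), map_one]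
  · rintro _ ⟨x, rfl⟩ _ ⟨v, rfl⟩
    rw [CharTransfer.act_inl]
    exact ⟨_, rfl⟩
  · rintro _ ⟨⟨x, rfl⟩, hx⟩
    rw [mem_bot, CharTransfer.act_one_iff, mem_centralizer_iff]
    intro w hw
    exact ((CharTransfer.act_eq_iff _ x ⟨w, hw⟩).mp
      (mul_inv_eq_iff_eq_mul.mpr (mem_centralizer_iff.mp hx _ ⟨_, rfl⟩).symm)).symm

omit h in
/-- A largest elementary abelian subgroup is an offender on the module. -/
theorem maxEl_offender {A : Subgroup G} (hA : Invol.IsMaxEl p (T : Subgroup G) A) :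
    Nat.card ↥(modW (mod p G)) ≤ Nat.card ↥(A.map (act (mod p G))) *
      Nat.card ↥(modW (mod p G) ⊓ centralizer ((A.map (act (mod p G)) : Subgroup (Amb (mod p G))) : Set _)) := by
  obtain ⟨V, hV⟩ : ∃ V, V = mod p G := ⟨_, rfl⟩
  have hVT : mod p G ≤ (T : Subgroup G) :=
    ((Invol.BlockPair.omegaOneCenter_le _).trans inf_le_left).trans (Grp.pCore_le_sylow T)
  rw [CharTransfer.card_fix]
  obtain ⟨A0, hA0⟩ : ∃ A0, A0 = A ⊓ centralizer (mod p G : Set G) := ⟨_, rfl⟩
  have hAV : mod p G = Cfsg.omegaOneCenter p (Cfsg.pCore p G) := rfl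
  have hmodcard : Nat.card ↥(modW (mod p G)) = Nat.card ↥(mod p G) := by
    rw [modW, MonoidHom.range_eq_map, card_map_of_injective SemidirectProduct.inl_injective, card_top]
  have hcard : Nat.card ↥(A.map (act (mod p G))) * Nat.card A0 = Nat.card A := by
    have h1 := ((act (mod p G)).domRestrict A).ker.index_mul_card
    rw [index_ker, MonoidHom.domRestrict_range] at h1
    have e : ((act (mod p G)).domRestrict A).ker.map A.subtype = A0 := by
      rw [hA0]
      ext x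
      constructor
      · rintro ⟨y, hy, rfl⟩
        exact ⟨y.2, act_ker.le hy⟩
      · rintro ⟨h1, h2⟩
        exact ⟨⟨x, h1⟩, MonoidHom.mem_ker.mpr (MonoidHom.mem_ker.mp (act_ker.ge h2)), rfl⟩
    rwa [← e, card_map_of_injective A.subtype_injective]
  have hA0A : A0 ≤ A := hA0 ▸ inf_le_left
  have hc : ∀ v ∈ mod p G, ∀ a ∈ A0, v * a = a * v := fun v hv a ha =>
    mem_centralizer_iff.mp (hA0.le ha).2 v hv
  have hsup := Grp.card_sup_mul_card_inf (H := A0) (N := mod p G) fun a _ =>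
    (normalizer_eq_top_iff.mpr inferInstance : normalizer (mod p G : Set G) = ⊤).ge (mem_top a)
  have hab : (∀ x ∈ A0 ⊔ mod p G, ∀ y ∈ A0 ⊔ mod p G, x * y = y * x) ∧ ∀ x ∈ A0 ⊔ mod p G, x ^ p = 1 := by
    have hex : ∀ x ∈ A0 ⊔ mod p G, ∃ a ∈ A0, ∃ v ∈ mod p G, a * v = x := fun x hx =>
      exists_mul_of_comm (fun a ha v hv => (hc v hv a ha).symm) hx
    refine ⟨fun x hx y hy => ?_, fun x hx => ?_⟩
    · obtain ⟨a, ha, v, hv, rfl⟩ := hex x hx
      obtain ⟨b, hb, w, hw, rfl⟩ := hex y hy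
      calc a * v * (b * w) = a * (v * b) * w := by group
        _ = a * (b * v) * w := by rw [hc v hv b hb]
        _ = (a * b) * (v * w) := by group
        _ = (b * a) * (w * v) := by rw [hA.2.1.1 a (hA0A ha) b (hA0A hb), mod_comm hv hw]
        _ = b * (a * w) * v := by group
        _ = b * (w * a) * v := by rw [hc w hw a ha]
        _ = _ := by group
    · obtain ⟨a, ha, v, hv, rfl⟩ := hex x hx
      rw [(show Commute a v from (hc v hv a ha).symm).mul_pow, hA.2.1.2 a (hA0A ha),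
        Invol.BlockPair.omegaOneCenter_pow_eq _ hv, one_mul]
  have hmax := hA.2.2 _ (sup_le (hA0A.trans hA.1) hVT) hab
  have hinf : Nat.card ↥(A0 ⊓ mod p G) ≤ Nat.card ↥(mod p G ⊓ centralizer (A : Set G)) :=
    card_le_of_le fun x hx => mem_inf.mpr ⟨hx.2, mem_centralizer_iff.mpr fun a ha =>
      hA.2.1.1 a ha x (hA0A hx.1)⟩
  rw [hmodcard]
  refine Nat.le_of_mul_le_mul_left ?_ (Nat.card_pos : 0 < Nat.card A0)
  calc Nat.card A0 * Nat.card ↥(mod p G) = Nat.card ↥(A0 ⊔ mod p G) * Nat.card ↥(A0 ⊓ mod p G) := hsup.symm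
    _ ≤ Nat.card A * Nat.card ↥(mod p G ⊓ centralizer (A : Set G)) := Nat.mul_le_mul hmax hinf
    _ = _ := by rw [← hcard]; ring

/-- The blocks of the automorphisms induced on the module. -/
theorem Hyp.blocks : ∃ (r : ℕ) (F : Fin r → Subgroup (Amb (mod p G))),
    VBlk p (modW (mod p G)) (act (mod p G)).range ((T : Subgroup G).map (act (mod p G))) r F ∧
      (⨆ i, F i) ≤ (Cfsg.thompsonSubgroup p G).map (act (mod p G)) ∧
      (Cfsg.thompsonSubgroup p G).map (act (mod p G)) ≤ ⨆ i, F i := by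
  obtain ⟨A, hA, hAC⟩ := h.exists_maxEl
  obtain ⟨φ, hφ⟩ : ∃ φ, φ = act (mod p G) := ⟨_, rfl⟩
  rw [← hφ]
  have hab : ∀ B : Subgroup G, (∀ x ∈ B, ∀ y ∈ B, x * y = y * x) →
      ∀ a ∈ B.map φ, ∀ b ∈ B.map φ, a * b = b * a := by
    rintro B hB _ ⟨x, hx, rfl⟩ _ ⟨y, hy, rfl⟩
    rw [← map_mul, ← map_mul, hB x hx y hy]
  have hne : A.map φ ≠ ⊥ := fun e => hAC fun a ha => act_ker.le (by
    rw [MonoidHom.mem_ker, ← hφ]; exact mem_bot.mp (e.le (mem_map_of_mem φ ha)))
  obtain ⟨⟨r, F, hF⟩, -⟩ := main h.phyp vhyp (X := A.map φ) (hφ ▸ map_le_range _ _) hne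
    ((T.isPGroup'.to_le hA.1).map φ) (hab A hA.2.1.1) (hφ ▸ maxEl_offender hA)
  rw [← hφ] at hF
  have hmaxT : ∀ B : Subgroup G, Invol.IsMaxEl p (T : Subgroup G) B →
      B ≤ Cfsg.thompsonSubgroup p G := by
    intro B hB
    refine le_sSup ⟨⟨⟨⟨fun a b => Subtype.ext (hB.2.1.1 _ a.2 _ b.2)⟩⟩, hB.2.1.2⟩, fun C hC => ?_⟩
    have hCp : IsPGroup p C := fun c => ⟨1, Subtype.ext (by rw [pow_one, coe_pow, coe_one]; exact hC.2 c c.2)⟩
    obtain ⟨g, -, hg⟩ := Fail.conj_into (P := (T : Subgroup G)) (M := ⊤)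
      ⟨le_top, T.isPGroup', by rw [relIndex_top_right]; exact T.not_dvd_index⟩ le_top hCp
    rw [← card_cj g C]
    refine hB.2.2 _ hg ⟨?_, ?_⟩
    · rintro x hx y hy
      obtain ⟨a, ha, rfl⟩ := hx
      obtain ⟨b, hb, rfl⟩ := hy
      rw [← map_mul, ← map_mul, show a * b = b * a from congrArg Subtype.val (hC.1.is_comm.comm ⟨a, ha⟩ ⟨b, hb⟩)]
    · rintro x ⟨a, ha, rfl⟩
      rw [← map_pow, hC.2 a ha, map_one]
  refine ⟨r, F, hF, iSup_le fun i => ?_, ?_⟩
  · refine hF.in_normal _ (map_le_range _ _) ?_ ⟨A.map φ, map_mono hA.1, hne, map_mono (hmaxT A hA),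
      hab A hA.2.1.1, hφ ▸ maxEl_offender hA⟩ i
    rintro _ ⟨g, rfl⟩ _ ⟨n, hn, rfl⟩
    haveI : (Cfsg.thompsonSubgroup p G).Characteristic := Transfer.Thompson.characteristic_thompsonSubgroup
    exact ⟨g * n * g⁻¹, (Normal.conj_mem inferInstance n hn g), by simp⟩
  · rw [Cfsg.thompsonSubgroup, map_le_iff_le_comap]
    refine sSup_le fun B hB => ?_
    rw [← map_le_iff_le_comap]
    have hBp : IsPGroup p B := fun c => ⟨1, Subtype.ext (by rw [pow_one, coe_pow, coe_one]; exact hB.1.2 c c.2)⟩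
    obtain ⟨g, -, hg⟩ := Fail.conj_into (P := (T : Subgroup G)) (M := ⊤)
      ⟨le_top, T.isPGroup', by rw [relIndex_top_right]; exact T.not_dvd_index⟩ le_top hBp
    have hBm : Invol.IsMaxEl p (T : Subgroup G) (cj g B) := by
      refine ⟨hg, ⟨?_, ?_⟩, fun C _ hC => ?_⟩
      · rintro x ⟨a, ha, rfl⟩ y ⟨b, hb, rfl⟩
        rw [← map_mul, ← map_mul,
          show a * b = b * a from congrArg Subtype.val (hB.1.1.is_comm.comm ⟨a, ha⟩ ⟨b, hb⟩)]
      · rintro x ⟨a, ha, rfl⟩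
        rw [← map_pow, hB.1.2 a ha, map_one]
      · rw [card_cj]
        exact hB.2 C ⟨⟨⟨fun a b => Subtype.ext (hC.1 _ a.2 _ b.2)⟩⟩, hC.2⟩
    have hle : (cj g B).map φ ≤ ⨆ i, F i := hF.offenders _ (map_mono hg) (hab _ hBm.2.1.1) (hφ ▸ maxEl_offender hBm)
    have hFn : φ.range ≤ normalizer ((⨆ i, F i : Subgroup _) : Set _) := by
      rw [← hF.sup]
      refine sup_le le_normalizer fun t ht => RootPair.norm_of_cj (eq_of_le_of_card_ge ?_ (card_cj _ _).ge)
      rw [cj, Subgroup.map_iSup]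
      refine iSup_le fun i => ?_
      obtain ⟨j, hj⟩ := hF.perm t ht i
      exact hj.le.trans (le_iSup F j)
    rintro _ ⟨b, hb, rfl⟩
    have h1 : φ (g * b * g⁻¹) ∈ ⨆ i, F i := hle (mem_map_of_mem φ (conj_mem_cj g hb))
    rw [map_mul, map_mul, map_inv] at h1
    exact (mem_normalizer_iff.mp (hFn ⟨g, rfl⟩) _).mpr h1

end Cfsg.Agent.Fus.CStarStar
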