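import Cfsg.Agent.Lib.Fus.PMinFF.Pull

/-!
# The blocks of a group with one maximal overgroup of its Sylow subgroup and `G ≠ C**(G, T)`
-/

set_option autoImplicit false
set_option linter.unusedSectionVars false
set_option linter.style.haveILetI false

open scoped commutatorElement

namespace Cfsg.Agent.Fus.CStarStar

open Subgroup Cfsg.Agent.Grp Cfsg.Agent.Grp.OffenderSL2 Cfsg.Agent.Fus.MinModule
open Cfsg.Agent.Fus.CharTransfer (Amb act modW)

universe u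

variable {G : Type u} [Group G] [Finite G] {p : ℕ} [Fact p.Prime] {T : Sylow p G}

/-- One maximal overgroup and `G ≠ C**(G, T)` give the hypotheses. -/
theorem exists_hyp (hmin : Cfsg.IsPMinimal p G) (hG : centralizer (Cfsg.pCore p G : Set G) ≤ Cfsg.pCore p G)
    (hne : Cfsg.cStarStarOf p (T : Subgroup G) ≠ ⊤) : ∃ M, Hyp T M := by
  obtain ⟨M, ⟨hM, hTM⟩, huniq⟩ := (hmin T).2
  have huq : ∀ H : Subgroup G, (T : Subgroup G) ≤ H → H ≠ ⊤ → H ≤ M := fun H hTH hH => by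
    obtain ⟨N, hN, hHN⟩ := (eq_top_or_exists_le_coatom H).resolve_left hH
    exact hHN.trans (huniq N ⟨hN, hTH.trans hHN⟩).le
  have hTc : (T : Subgroup G) ≤ Cfsg.cStarStarOf p (T : Subgroup G) := fun t ht =>
    mem_sup_left (mem_centralizer_iff.mpr fun z hz =>
      (mem_centralizer_iff.mp (Invol.BlockPair.omegaOneCenter_le _ hz).2 t ht).symm)
  exact ⟨M, hG, hTM, hM, huq, huq _ hTc hne⟩

/-- The blocks in the group. -/
theorem Hyp.pulled {M : Subgroup G} (h : Hyp T M) : ∃ (r : ℕ) (E : Fin r → Subgroup G),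
    (∀ i, centralizer (mod p G : Set G) ≤ E i) ∧
    Cfsg.thompsonSubgroup p G ⊔ (T : Subgroup G) ⊔ centralizer (mod p G : Set G) = ⊤ ∧
    (⨆ i, E i) = Cfsg.thompsonSubgroup p G ⊔ centralizer (mod p G : Set G) ∧
    (∀ i j, i ≠ j → ⁅E i, E j⁆ ≤ centralizer (mod p G : Set G)) ∧
    (∀ i, E i ⊓ (⨆ j ∈ {j | j ≠ i}, E j) ≤ centralizer (mod p G : Set G)) ∧
    (∀ i j, ∃ t ∈ (T : Subgroup G), (E i).map (MulAut.conj t).toMonoidHom = E j) ∧
    (mod p G ⊓ centralizer ((⨆ i, E i : Subgroup G) : Set G)) ⊔ (⨆ i, ⁅mod p G, E i⁆) = mod p G ∧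
    (∀ i j, i ≠ j → ⁅⁅mod p G, E i⁆, E j⁆ = ⊥) ∧
    ∀ i, Acts p (modW (mod p G)) ((E i).map (act (mod p G))) := by
  obtain ⟨r, F, hF, hFJ, hJF⟩ := h.blocks
  obtain ⟨φ, hφ⟩ : ∃ φ, φ = act (mod p G) := ⟨_, rfl⟩
  have hCn : centralizer (mod p G : Set G) = φ.ker := hφ ▸ act_ker.symm
  rw [← hφ] at hF hFJ hJF ⊢
  obtain ⟨E, hE⟩ : ∃ E : Fin r → Subgroup G, ∀ i, E i = (F i).comap φ := ⟨_, fun i => rfl⟩
  have hEF : ∀ i, (E i).map φ = F i := fun i => by rw [hE, map_comap_eq_self (hF.le i)]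
  have hCE : ∀ i, φ.ker ≤ E i := fun i => by
    rw [hE]; exact ker_le_comap _ _
  have hsupF : (⨆ i, E i).map φ = ⨆ i, F i := by rw [Subgroup.map_iSup]; exact iSup_congr hEF
  refine ⟨r, E, fun i => hCn.le.trans (hCE i), ?_, ?_, fun i j hij => ?_, fun i => ?_, fun i j => ?_, ?_,
    fun i j hij => fix_pull _ (by rw [← hφ, hEF, hEF]; exact hF.fix i j hij), fun i => by rw [hEF]; exact hF.acts i⟩
  · rw [hCn, ← comap_map_eq, Subgroup.map_sup, le_antisymm hJF hFJ, hF.sup]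
    exact eq_top_iff.mpr fun x _ => mem_comap.mpr ⟨x, rfl⟩
  · rw [hCn, ← comap_map_eq, le_antisymm hJF hFJ, ← hsupF, comap_map_eq, eq_comm, sup_eq_left]
    exact (hCE ⟨0, hF.pos⟩).trans (le_iSup E ⟨0, hF.pos⟩)
  · rw [hCn, ← Subgroup.map_eq_bot_iff, map_commutator, hEF, hEF]
    exact hF.comm i j hij
  · rw [hCn, ← Subgroup.map_eq_bot_iff, eq_bot_iff]
    refine le_trans ((map_inf_le _ _ φ).trans (inf_le_inf (hEF i).le ?_)) (hF.disj i).le
    simp only [Subgroup.map_iSup, hEF, le_refl]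
  · obtain ⟨_, ⟨t, ht, rfl⟩, e⟩ := hF.trans i j
    refine ⟨t, ht, ?_⟩
    ext x
    constructor
    · rintro ⟨y, hy, rfl⟩
      rw [hE, mem_comap, ← e]
      rw [SetLike.mem_coe, hE, mem_comap] at hy
      rw [show φ ((MulAut.conj t).toMonoidHom y) = φ t * φ y * (φ t)⁻¹ by simp]
      exact conj_mem_cj _ hy
    · intro hx
      rw [hE, mem_comap, ← e] at hx
      refine ⟨t⁻¹ * x * t, ?_, by simp [mul_assoc]⟩
      obtain ⟨y, hy, ey⟩ := hx
      rw [SetLike.mem_coe, hE, mem_comap, map_mul, map_mul, map_inv, ← ey]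
      simpa [mul_assoc] using hy
  · refine decomp_pull _ E ?_
    rw [← hφ]
    simp only [hEF]
    exact hF.decomp

end Cfsg.Agent.Fus.CStarStar
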