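import Cfsg.Agent.Lib.Fus.PMinFF.Comps
import Cfsg.Agent.Lib.Fus.PMinFF.Blocks

/-!
# The blocks without members of order two

The components of the members of `S` are the blocks; on an irreducible module `S` permutes them transitively.
-/

set_option autoImplicit false
set_option linter.unusedSectionVars false
set_option linter.style.haveILetI false

open scoped commutatorElement Matrix

namespace Cfsg.Agent.Fus.RootPair

open Subgroup Matrix Cfsg.Agent.Grp Cfsg.Agent.Grp.OffenderSL2 Cfsg.Agent.Fus.FFBlocks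

universe u

variable {G : Type u} [Group G] [Finite G] {p : ℕ} [Fact p.Prime] {W Γ S M : Subgroup G}

/-- The first point is the commutator space times the fixed space. -/
theorem Pr.fix_eq (C : Sit p W Γ S M) {g x : G} {A T : Subgroup G} (E : Ext p W Γ S M g A)
    (Q : Pr p W Γ S M g A x T) :
    ⁅A, W⁆ ⊔ (W ⊓ centralizer ((A ⊔ cj x A : Subgroup G) : Set G)) = W ⊓ centralizer (A : Set G) := by
  have hquad := FFEmb.quadratic_of_member C.wcomm C.wexp C.norm E.mem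
  refine le_antisymm (sup_le (commutator_le.mpr fun a ha w hw => hquad a ha w hw) (Q.z_le C E)) fun h hh => ?_
  obtain ⟨u, hu, huG⟩ := C.exists_vec
  have hxu : x * u * x⁻¹ ∈ cj x (W ⊓ centralizer (A : Set G)) :=
    conj_mem_cj x (mem_fix.mpr ⟨hu.1, fun b hb => (mem_fix.mp hu).2 b (E.leS hb)⟩)
  have hxuZ : x * u * x⁻¹ ∉ W ⊓ centralizer ((A ⊔ cj x A : Subgroup G) : Set G) := fun h => by
    have h2 := Q.conf.z_le (inv_mem Q.xP) h
    have h3 := Q.vec_notZ C E (one_mem _) hu huG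
    rw [one_mul, inv_one, mul_one] at h3
    rw [show x⁻¹ * (x * u * x⁻¹) * x⁻¹⁻¹ = u by group] at h2
    exact h3 (h2.symm ▸ h)
  obtain ⟨-, -, -, hev⟩ := Q.conf.cards Q.xP (Q.xnot C E)
  obtain ⟨a, ha, z, hz, rfl⟩ := hev _ hxu hxuZ h hh
  exact mul_mem_sup (commutator_mem_commutator ha (Q.conf.point_le Q.xP hxu)) hz

/-- The pair spans. -/
theorem Pr.pair_full (C : Sit p W Γ S M) {g x : G} {A T : Subgroup G} (E : Ext p W Γ S M g A)
    (Q : Pr p W Γ S M g A x T) :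
    W ≤ ⁅A ⊔ cj x A, W⁆ ⊔ (W ⊓ centralizer ((A ⊔ cj x A : Subgroup G) : Set G)) := by
  obtain ⟨-, -, hsup, -⟩ := Q.conf.cards Q.xP (Q.xnot C E)
  refine hsup.ge.trans (sup_le ?_ (cj_le.mpr fun h hh => ?_))
  · rw [← Q.fix_eq C E]
    exact sup_le_sup_right (commutator_mono le_sup_left le_rfl) _
  · obtain ⟨c, hc, z, hz, rfl⟩ := exists_mul_of_comm
      (fun a (ha : a ∈ ⁅A, W⁆) b (hb : b ∈ W ⊓ centralizer ((A ⊔ cj x A : Subgroup G) : Set G)) =>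
        C.wcomm a ((FFEmb.quadratic_of_member C.wcomm C.wexp C.norm E.mem |> fun q =>
          (commutator_le.mpr fun a ha w hw => (q a ha w hw).1 : ⁅A, W⁆ ≤ W)) ha) b hb.1) ((Q.fix_eq C E).ge hh)
    have h1 : x * c * x⁻¹ ∈ ⁅cj x A, W⁆ := by
      rw [← C.cj_commW (Q.xΓ C E)]
      exact conj_mem_cj x hc
    rw [show x * (c * z) * x⁻¹ = (x * c * x⁻¹) * (x * z * x⁻¹) by group]
    refine mul_mem_sup (commutator_mono le_sup_right le_rfl h1) ?_
    rw [Q.conf.z_le Q.xP hz]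
    exact hz

variable (C : Sit p W Γ S M) (hns : Small p W Γ)
include C hns

theorem Sit.le_comp {A : Subgroup G} (hA : A ∈ mems p W Γ S) :
    A ≤ comp p W Γ S A ∧ comp p W Γ S A ≤ Γ ∧ ¬ comp p W Γ S A ≤ M := by
  obtain ⟨g, x, T, F, iF, fF, E, Q, hc, -⟩ := C.comp_data hns hA
  rw [hc]
  exact ⟨le_sup_left, Q.P_le C E, fun h => Q.xM (h Q.xP)⟩

theorem Sit.comp_inj {A B : Subgroup G} (hA : A ∈ mems p W Γ S) (hB : B ∈ mems p W Γ S)
    (h : comp p W Γ S A = comp p W Γ S B) : A = B := by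
  by_contra hne
  obtain ⟨g, x, T, F, iF, fF, E, Q, hc, -⟩ := C.comp_data hns hA
  have hx : x ∈ comp p W Γ S A := hc ▸ Q.xP
  have hcj : cj x A = A := cj_eq_of_norm (centralizer_le_normalizer _ (mem_centralizer_iff.mpr fun a ha =>
    C.comp_comm hns hA hB hne a ((C.le_comp hns hA).1 ha) x (h ▸ hx)))
  have h1 := Q.xP
  rw [hcj, sup_idem] at h1
  exact Q.xM (C.SM (E.leS h1))

/-- A torus moving the first point, invariant modulo the member. -/
theorem Sit.comp_torus {A : Subgroup G} (hA : A ∈ mems p W Γ S) :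
    ∃ D : Subgroup G, D ≤ comp p W Γ S A ∧ (Nat.card D).Coprime p ∧ (∀ d ∈ D, cj d A = A) ∧
      (∀ s ∈ S, cj s A = A → cj s D ≤ A ⊔ D) ∧
      ∃ w ∈ W ⊓ centralizer (A : Set G), ∃ d ∈ D, d * w * d⁻¹ ≠ w := by
  classical
  obtain ⟨g, x, T, F, iF, fF, E, Q, hc, ⟨Φ⟩⟩ := C.comp_data hns hA
  rw [hc]
  obtain ⟨n, hn⟩ := IsPGroup.iff_card.mp E.mem.pg
  obtain ⟨d, hd⟩ : ∃ d : Fˣ → ↥(A ⊔ cj x A), ∀ c, Φ.rho (d c) = dg c :=
    ⟨fun c => (Φ.bij.2 (dg c)).choose, fun c => (Φ.bij.2 (dg c)).choose_spec⟩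
  have hLl : A ⊔ cj x A ≤ loc p W Γ S g := Pr.P_loc C E Q Φ
  have hdM : ∀ c, (d c : G) ∈ M := fun c => Frame.dg_mem C E Q Φ (hd c)
  let dh : Fˣ →* G :=
    { toFun := fun c => (d c : G)
      map_one' := congrArg Subtype.val (Φ.bij.1 (by rw [hd, map_one, dg_one]) : d 1 = 1)
      map_mul' := fun a b => congrArg Subtype.val (Φ.bij.1 (by rw [map_mul, hd, hd, hd, dg_mul]) :
        d (a * b) = d a * d b) }
  refine ⟨dh.range, ?_, ?_, ?_, ?_, ?_⟩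
  · rintro _ ⟨c, rfl⟩; exact (d c).2
  · refine Nat.Coprime.coprime_dvd_left (Subgroup.card_range_dvd dh) ?_
    rw [Nat.card_eq_fintype_card, Fintype.card_units, Φ.card, hn, Nat.coprime_comm]
    refine (Nat.Prime.coprime_iff_not_dvd Fact.out).mpr fun hdv => ?_
    have hn0 : n ≠ 0 := fun h => E.mem.ne (Subgroup.card_eq_one.mp (by rw [hn, h, pow_zero]))
    have h3 : p ∣ p ^ n - (p ^ n - 1) := Nat.dvd_sub (dvd_pow_self p hn0) hdv
    rw [Nat.sub_sub_self (Nat.one_le_pow _ _ (Fact.out : p.Prime).pos)] at h3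
    exact (Fact.out : p.Prime).not_dvd_one h3
  · rintro _ ⟨c, rfl⟩
    exact E.normal C (hLl (d c).2) (hdM c)
  · intro s hs hsA
    have hperm : cj s '' insert A (inter p W Γ S g) ⊆ insert A (inter p W Γ S g) := by
      rw [← E.mems_eq_of C hns]
      rintro _ ⟨B, hB, rfl⟩
      exact ⟨C.member_cj (C.syl.1 hs) hB.1, (cj_mono s hB.2).trans (cj_eq_of_norm (le_normalizer hs)).le⟩
    have hsl : s ∈ loc p W Γ S g := E.conj_inter C (C.syl.1 hs) hperm hsA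
    refine cj_le.mpr ?_
    rintro _ ⟨c, rfl⟩
    have hkL : s * (d c : G) * s⁻¹ ∈ A ⊔ cj x A := (E.norm_pair C Q hsl).le (conj_mem_cj s (d c).2)
    have hkM : s * (d c : G) * s⁻¹ ∈ M := M.mul_mem (M.mul_mem (C.SM hs) (hdM c)) (M.inv_mem (C.SM hs))
    obtain ⟨e, he⟩ : ∃ e : ↥(A ⊔ cj x A), (e : G) = s * (d c : G) * s⁻¹ := ⟨⟨_, hkL⟩, rfl⟩
    have h10 := (Frame.stab C E Q Φ (k := e) (he ▸ hkM)).1
    have hdet := (Φ.rho e).2
    rw [Matrix.det_fin_two, h10, mul_zero, sub_zero] at hdet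
    obtain ⟨c', hc'⟩ : ∃ c' : Fˣ, (c' : F) = (Φ.rho e : Matrix (Fin 2) (Fin 2) F) 0 0 :=
      ⟨Units.mk0 _ (left_ne_zero_of_mul_eq_one hdet), rfl⟩
    have ha : ((e * (d c')⁻¹ : ↥(A ⊔ cj x A)) : G) ∈ A := by
      refine (Φ.memA _).mpr ?_
      have hci : (dg c')⁻¹ = dg c'⁻¹ := inv_eq_of_mul_eq_one_right (by rw [dg_mul, mul_inv_cancel, dg_one])
      rw [map_mul, map_inv, hd, hci, Matrix.SpecialLinearGroup.coe_mul, ← Matrix.mulVec_mulVec, dg_mulVec]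
      funext i
      fin_cases i <;> simp [Matrix.mulVec, dotProduct, Fin.sum_univ_two, h10, ← hc']
    show s * (d c : G) * s⁻¹ ∈ A ⊔ dh.range
    rw [← he, show (e : G) = ((e * (d c')⁻¹ : ↥(A ⊔ cj x A)) : G) * (d c' : G) by simp]
    exact mul_mem_sup ha ⟨c', rfl⟩
  · obtain ⟨c, hc1⟩ : ∃ c : Fˣ, c ≠ 1 := Fintype.exists_ne_of_one_lt_card (by
      rw [Fintype.card_units, Φ.card]; have := hns.two_lt E.mem; omega) 1
    obtain ⟨w, hw, hwl⟩ := Φ.surj ![1, 0]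
    refine ⟨w, (Φ.lineA w hw).mpr (by rw [hwl]; simp), (d c : G), ⟨c, rfl⟩, fun h => hc1 ?_⟩
    have h1 := Φ.act (d c) w hw
    rw [h, hd, hwl, dg_mulVec] at h1
    have h2 := congrFun h1 0
    simp only [Matrix.cons_val_zero, mul_one] at h2
    exact Units.ext h2.symm

/-- The members of `S` form one orbit. -/
theorem Sit.comp_trans (hirr : ∀ U : Subgroup G, U ≤ W → (∀ h ∈ Γ, ∀ w ∈ U, h * w * h⁻¹ ∈ U) → U = ⊥ ∨ U = W)
    {A B : Subgroup G} (hA : A ∈ mems p W Γ S) (hB : B ∈ mems p W Γ S) : ∃ s ∈ S, cj s A = B := by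
  classical
  by_contra hc
  push Not at hc
  have hmem : ∀ {s : G}, s ∈ S → ∀ {D : Subgroup G}, D ∈ mems p W Γ S → cj s D ∈ mems p W Γ S := fun hs D hD =>
    ⟨C.member_cj (C.syl.1 hs) hD.1, (cj_mono _ hD.2).trans (cj_eq_of_norm (le_normalizer hs)).le⟩
  obtain ⟨Os, hOs⟩ : ∃ Os, Os = {D | D ∈ mems p W Γ S ∧ ∀ s ∈ S, cj s A ≠ D} := ⟨_, rfl⟩
  obtain ⟨U, hU⟩ : ∃ U, U = jn ((fun D => ⁅comp p W Γ S D, W⁆) '' Os) := ⟨_, rfl⟩
  have hle : ∀ D ∈ Os, ⁅comp p W Γ S D, W⁆ ≤ U := fun D hD => hU ▸ le_jn ⟨D, hD, rfl⟩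
  have hUA : ∀ s ∈ S, U ≤ W ⊓ centralizer ((comp p W Γ S (cj s A) : Subgroup G) : Set G) := fun s hs => by
    rw [hU]
    refine jn_le ?_
    rintro _ ⟨D, hD, rfl⟩
    rw [hOs] at hD
    exact commutator_le.mpr fun l hl w hw => C.comp_fix hns hD.1 (hmem hs hA) (hD.2 s hs).symm l hl w hw
  have hUW : U ≤ W := (hUA 1 (one_mem S)).trans inf_le_left
  have hUn : Γ ≤ normalizer (U : Set G) := by
    have hS : S ≤ normalizer (U : Set G) := fun s hs => norm_of_cj (eq_of_le_of_card_ge (by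
      rw [hU, cj_jn]
      refine jn_le ?_
      rintro _ ⟨_, ⟨D, hD, rfl⟩, rfl⟩
      rw [hOs] at hD
      refine le_jn ⟨cj s D, hOs.ge ⟨hmem hs hD.1, fun t ht e => hD.2 (s⁻¹ * t) (S.mul_mem (S.inv_mem hs) ht) ?_⟩, ?_⟩
      · rw [← cj_cj, e, cj_cj, inv_mul_cancel, cj_one]
      · show ⁅comp p W Γ S (cj s D), W⁆ = cj s ⁅comp p W Γ S D, W⁆
        rw [C.cj_commW (C.syl.1 hs), C.cj_comp hns hs]) (card_cj _ _).ge)
    have hc0 : comp p W Γ S A ≤ normalizer (U : Set G) := by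
      have h := hUA 1 (one_mem S)
      rw [cj_one] at h
      exact fun l hl => centralizer_le_normalizer _ (mem_centralizer_iff.mpr fun z hz =>
        (mem_centralizer_iff.mp (h hz).2 l hl).symm)
    have h := C.eq_gamma_of_le (H := Γ ⊓ normalizer (U : Set G)) (le_inf C.syl.1 hS) inf_le_left fun hle' =>
      (C.le_comp hns hA).2.2 ((le_inf (C.le_comp hns hA).2.1 hc0).trans hle')
    exact h.ge.trans inf_le_right
  rcases hirr U hUW fun h hh w hw => (mem_normalizer_iff.mp (hUn hh) w).mp hw with h0 | h0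
  · refine hB.1.ne (eq_bot_iff.mpr fun b hb => ?_)
    rw [← C.faith]
    refine mem_inf.mpr ⟨hB.1.le hb, mem_centralizer_iff.mpr fun w hw => ?_⟩
    have h1 := hle B (hOs.ge ⟨hB, hc⟩) (commutator_mem_commutator ((C.le_comp hns hB).1 hb) hw)
    rw [h0, mem_bot, commutatorElement_eq_one_iff_mul_comm] at h1
    exact h1.symm
  · refine hA.1.ne (eq_bot_iff.mpr fun a ha => ?_)
    rw [← C.faith]
    refine mem_inf.mpr ⟨hA.1.le ha, mem_centralizer_iff.mpr fun w hw => ?_⟩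
    have h1 := hUA 1 (one_mem S) (h0.ge hw)
    rw [cj_one] at h1
    exact (mem_centralizer_iff.mp h1.2 a ((C.le_comp hns hA).1 ha)).symm

/-- The blocks. -/
theorem Sit.comp_blk (hirr : ∀ U : Subgroup G, U ≤ W → (∀ h ∈ Γ, ∀ w ∈ U, h * w * h⁻¹ ∈ U) → U = ⊥ ∨ U = W)
    {A0 : Subgroup G} (hA0 : A0 ∈ mems p W Γ S) :
    ∃ (r : ℕ) (E : Fin r → Subgroup G), Blk p W Γ S r E := by
  classical
  obtain ⟨Ms, hMs⟩ : ∃ Ms, Ms = (Set.toFinite (mems p W Γ S)).toFinset := ⟨_, rfl⟩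
  have hmemMs : ∀ A, A ∈ Ms ↔ A ∈ mems p W Γ S := fun A => by rw [hMs]; exact Set.Finite.mem_toFinset _
  obtain ⟨m, hm, hmsurj, hminj⟩ : ∃ m : Fin Ms.card → Subgroup G, (∀ i, m i ∈ mems p W Γ S) ∧
      (∀ A ∈ mems p W Γ S, ∃ i, m i = A) ∧ Function.Injective m := by
    refine ⟨fun i => (Ms.equivFin.symm i : Subgroup G), fun i => ?_, fun A hA => ?_, ?_⟩
    · exact (hmemMs _).mp (Ms.equivFin.symm i).2
    · exact ⟨Ms.equivFin ⟨A, (hmemMs _).mpr hA⟩, by simp⟩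
    · exact fun i j h => Ms.equivFin.symm.injective (Subtype.ext h)
  obtain ⟨E, hE⟩ : ∃ E : Fin Ms.card → Subgroup G, ∀ i, E i = comp p W Γ S (m i) := ⟨_, fun _ => rfl⟩
  have hinto : ∀ {A : Subgroup G}, Member p W Γ A → ∃ g ∈ Γ, cj g A ∈ mems p W Γ S := fun {A} hA => by
    obtain ⟨g, hg, hgA⟩ := Fail.conj_into C.syl hA.le hA.pg
    exact ⟨g, hg, C.member_cj hg hA, hgA⟩
  have hEΓ : ∀ i, E i ≤ Γ := fun i => hE i ▸ (C.le_comp hns (hm i)).2.1
  have hperm : ∀ s ∈ S, ∀ i, ∃ j, cj s (E i) = E j ∧ cj s (m i) = m j := fun s hs i => by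
    obtain ⟨j, hj⟩ := hmsurj (cj s (m i))
      ⟨C.member_cj (C.syl.1 hs) (hm i).1, (cj_mono s (hm i).2).trans (cj_eq_of_norm (le_normalizer hs)).le⟩
    exact ⟨j, by rw [hE, hE, C.cj_comp hns hs, hj], hj.symm⟩
  obtain ⟨i0, hi0⟩ := hmsurj A0 hA0
  obtain ⟨D, hD1, hD2, hD3, hD4, hD5⟩ := C.comp_torus hns (hm i0)
  refine ⟨Ms.card, E, ?_⟩
  refine
    { pos := Fin.pos i0
      le := hEΓ
      comm := fun i j hij a ha b hb =>
        C.comp_comm hns (hm i) (hm j) (fun e => hij (hminj e)) a (hE i ▸ ha) b (hE j ▸ hb)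
      fix := fun i j hij l hl w hw => by
        rw [hE] at hl ⊢
        exact C.comp_fix hns (hm i) (hm j) (fun e => hij (hminj e)) l hl w hw
      full := fun i => ?_
      sup := ?_
      trans := fun i j => ?_
      perm := fun s hs i => (hperm s hs i).imp fun j h => h.1
      model := fun i => ?_
      gens := fun i => ?_
      conj := fun A B hA hB => ?_
      exact := fun A hA => ?_
      inside := fun A hA hAS => ?_
      partner := fun A hA hAS => ?_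
      lift := Or.inl ⟨m i0, i0, D, (hm i0).1, (hm i0).2, hE i0 ▸ (C.le_comp hns (hm i0)).1, hE i0 ▸ hD1, hD2,
        hD3, hD4, fun s hs h => ?_, hD5⟩ }
  · obtain ⟨g, x, T, F, iF, fF, E', Q, hc, -⟩ := C.comp_data hns (hm i)
    rw [hE, hc]
    exact Q.pair_full C E'
  · refine (C.eq_gamma_of_le le_sup_right (sup_le (iSup_le hEΓ) C.syl.1) fun hle => ?_).ge
    exact (C.le_comp hns (hm i0)).2.2 ((hE i0).ge.trans ((le_iSup E i0).trans (le_sup_left.trans hle)))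
  · obtain ⟨s, hs, h⟩ := C.comp_trans hns hirr (hm i) (hm j)
    exact ⟨s, hs, by rw [hE, hE, C.cj_comp hns hs, h]⟩
  · obtain ⟨g, x, T, F, iF, fF, E', Q, hc, ⟨Φ⟩⟩ := C.comp_data hns (hm i)
    rw [hE, hc]
    obtain ⟨n, hn⟩ := IsPGroup.iff_card.mp E'.mem.pg
    exact ⟨n, Nat.one_le_iff_ne_zero.mpr fun h => E'.mem.ne (Subgroup.card_eq_one.mp (by rw [hn, h, pow_zero])),
      Or.inl ⟨F, iF, fF, Φ.rho, Φ.lam, Φ.card.trans hn, Φ.bij, Φ.add, Φ.ker, Φ.surj, Φ.act⟩⟩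
  · obtain ⟨g, x, T, F, iF, fF, E', Q, hc, -⟩ := C.comp_data hns (hm i)
    rw [hE, hc]
    refine ⟨2, ![m i, cj x (m i)], fun l => ?_, sup_le (le_iSup (![m i, cj x (m i)]) 0)
      (le_iSup (![m i, cj x (m i)]) 1), ?_⟩
    · fin_cases l
      · exact ⟨E'.mem, le_sup_left⟩
      · exact ⟨C.member_cj (Q.xΓ C E') E'.mem, le_sup_right⟩
    · obtain ⟨h1, h2⟩ := Q.cards C E'
      rw [Fin.prod_univ_two, h2, h1]
      simp [card_cj, mul_assoc]
  · obtain ⟨g, hg, hgA⟩ := hinto hA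
    obtain ⟨h, hh, hhB⟩ := hinto hB
    obtain ⟨s, hs, hsab⟩ := C.comp_trans hns hirr hgA hhB
    refine ⟨h⁻¹ * s * g, Γ.mul_mem (Γ.mul_mem (Γ.inv_mem hh) (C.syl.1 hs)) hg, ?_⟩
    rw [← cj_cj, ← cj_cj, hsab, cj_cj, inv_mul_cancel, cj_one]
  · obtain ⟨g, hg, hgA⟩ := hinto hA
    obtain ⟨g', x, T, F, iF, fF, E', Q, -, -⟩ := C.comp_data hns hgA
    rw [← C.meas_cj hg]
    exact Q.meas_eq C E'
  · obtain ⟨i, rfl⟩ := hmsurj A ⟨hA, hAS⟩
    exact ⟨i, hE i ▸ (C.le_comp hns (hm i)).1⟩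
  · obtain ⟨g, x, T, F, iF, fF, E', Q, hc, -⟩ := C.comp_data hns (show A ∈ mems p W Γ S from ⟨hA, hAS⟩)
    refine ⟨x, Q.xΓ C E', ?_, fun e he hec => ?_⟩
    · obtain ⟨Z, hZ⟩ : ∃ Z, Z = W ⊓ centralizer ((A ⊔ cj x A : Subgroup G) : Set G) := ⟨_, rfl⟩
      have hAW : ⁅A, W⁆ ≤ W ⊓ centralizer (A : Set G) := by
        rw [← Q.fix_eq C E']; exact le_sup_left
      have he := Grp.card_sup_mul_card_inf (H := ⁅A, W⁆) (N := Z) fun w hw => centralizer_le_normalizer _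
        (mem_centralizer_iff.mpr fun c hc => C.wcomm c (hZ.le hc).1 w (hAW hw).1)
      rw [hZ, Q.fix_eq C E', (Q.cards C E').1, ← hZ] at he
      have hkey : Nat.card A * Nat.card ↥(⁅A, W⁆ ⊓ Z) = Nat.card ↥⁅A, W⁆ :=
        Nat.eq_of_mul_eq_mul_right (Nat.card_pos : 0 < Nat.card Z) (by rw [← he]; ring)
      refine le_trans (Nat.mul_le_mul_left _ ?_) hkey.le
      refine (card_le_of_le (K := cj x (⁅A, W⁆ ⊓ Z)) fun z hz => ?_).trans (card_cj _ _).le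
      obtain ⟨hz1, hz2⟩ := mem_inf.mp hz
      have hy := mem_cj.mp hz1
      have hzx : z ∈ cj x (W ⊓ centralizer (A : Set G)) := cj_mono x hAW hz1
      have hzW : z ∈ W := Q.conf.point_le Q.xP hzx
      have hzZ := Q.conf.inter Q.xP (Q.xnot C E') ⟨hzW, hz2⟩ hzx
      refine mem_cj.mpr ⟨hy, hZ ▸ ?_⟩
      have h2 := Q.conf.z_le (inv_mem Q.xP) hzZ
      rw [inv_inv] at h2
      rw [h2]
      exact hzZ
    · obtain ⟨a, ha, hcen, hfix⟩ := C.comp_split hns (show A ∈ mems p W Γ S from ⟨hA, hAS⟩) he hec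
      exact ⟨a, ha, (mem_centralizer_iff.mp hcen x (hc ▸ Q.xP)).symm, hfix⟩
  · obtain ⟨j, hj, hjm⟩ := hperm s hs i0
    rw [hjm]
    exact C.comp_inj hns (hm j) (hm i0) (by rw [← hE, ← hE, ← hj, h])

end Cfsg.Agent.Fus.RootPair
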