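import Cfsg.Agent.Lib.Fus.PMinFF.Omit

/-!
# The components of the members

Each member of `S` generates with one partner a canonical subgroup `comp A`; the components of different members
commute and each acts only on the fixed space of the others.
-/

set_option autoImplicit false
set_option linter.unusedSectionVars false
set_option linter.style.haveILetI false

open scoped commutatorElement Matrix

namespace Cfsg.Agent.Fus.RootPair

open Subgroup Matrix Cfsg.Agent.Grp Cfsg.Agent.Grp.OffenderSL2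

universe u

variable {G : Type u} [Group G]

/-- The component of a member. -/
def comp (p : ℕ) (W Γ S A : Subgroup G) : Subgroup G :=
  jn ((fun n => cj n A) '' ↑(Γ ⊓ normalizer ((jn (mems p W Γ S \ {A}) : Subgroup G) : Set G)))

variable [Finite G] {p : ℕ} [Fact p.Prime] {W Γ S M : Subgroup G}

theorem Small.two_lt (hns : Small p W Γ) {A : Subgroup G} (hA : Member p W Γ A) : 2 < Nat.card A := by
  rcases hns A hA with h | h
  · obtain ⟨n, hn⟩ := IsPGroup.iff_card.mp hA.pg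
    have hn0 : n ≠ 0 := fun h0 => hA.ne (Subgroup.card_eq_one.mp (by rw [hn, h0, pow_zero]))
    rw [hn]
    exact lt_of_lt_of_le (lt_of_le_of_ne (Fact.out : p.Prime).two_le (Ne.symm h)) (Nat.le_self_pow hn0 p)
  · exact h

variable (C : Sit p W Γ S M) (hns : Small p W Γ) {g : G} {A : Subgroup G} (E : Ext p W Γ S M g A)
include C hns E

theorem Ext.others : mems p W Γ S \ {A} = inter p W Γ S g := by
  rw [E.mems_eq_of C hns, Set.insert_sdiff_self_of_notMem E.notin]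

theorem Ext.comp_eq {x : G} {T : Subgroup G} (Q : Pr p W Γ S M g A x T) :
    comp p W Γ S A = A ⊔ cj x A := by
  rw [comp, E.others C hns]
  refine le_antisymm (jn_le ?_) (sup_le (le_jn ⟨1, one_mem _, cj_one A⟩) (le_jn ⟨x, Q.xloc, rfl⟩))
  rintro _ ⟨y, hy, rfl⟩
  exact E.conj_le C Q hy

/-- An element of `S` centralising a member lies in its local group. -/
theorem Ext.loc_of_cent {e : G} (he : e ∈ S) (heA : ∀ a ∈ A, e * a = a * e) : e ∈ loc p W Γ S g := by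
  refine E.conj_inter C (C.syl.1 he) ?_ (cj_eq_of_norm (centralizer_le_normalizer _
    (mem_centralizer_iff.mpr fun a ha => (heA a ha).symm)))
  rw [← E.mems_eq_of C hns]
  rintro _ ⟨B, hB, rfl⟩
  exact ⟨C.member_cj (C.syl.1 he) hB.1, (cj_mono e hB.2).trans (cj_eq_of_norm (le_normalizer he)).le⟩

omit E

/-- The data of a member. -/
theorem Sit.comp_data {A : Subgroup G} (hA : A ∈ mems p W Γ S) :
    ∃ (g x : G) (T : Subgroup G) (F : Type) (_ : Field F) (_ : Fintype F), Ext p W Γ S M g A ∧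
      Pr p W Γ S M g A x T ∧ comp p W Γ S A = A ⊔ cj x A ∧
      Nonempty (Frame W (A ⊔ cj x A) A (cj x A) F) := by
  obtain ⟨g, E⟩ := C.omitted_of hns hA
  obtain ⟨x, T, Q⟩ := E.exists_pair C
  obtain ⟨F, iF, fF, hΦ⟩ := frame C E Q
  exact ⟨g, x, T, F, iF, fF, E, Q, E.comp_eq C hns Q, hΦ⟩

theorem Sit.cj_comp {s : G} (hs : s ∈ S) (A : Subgroup G) :
    cj s (comp p W Γ S A) = comp p W Γ S (cj s A) := by
  have hsΓ := C.syl.1 hs
  have hm : cj s '' mems p W Γ S = mems p W Γ S := by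
    rw [← C.mems_cj hsΓ, cj_eq_of_norm (le_normalizer hs)]
  have hj : jn (mems p W Γ S \ {cj s A}) = cj s (jn (mems p W Γ S \ {A})) := by
    rw [cj_jn, Set.image_sdiff (cj_inj s), hm, Set.image_singleton]
  rw [comp, comp, hj, cj_jn]
  congr 1
  ext H
  constructor
  · rintro ⟨_, ⟨n, hn, rfl⟩, rfl⟩
    refine ⟨s * n * s⁻¹, ⟨Γ.mul_mem (Γ.mul_mem hsΓ hn.1) (Γ.inv_mem hsΓ), cj_normalizer hn.2⟩, ?_⟩
    show cj (s * n * s⁻¹) (cj s A) = _
    rw [cj_cj, cj_cj]; exact congrArg (fun z => cj z A) (by group)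
  · rintro ⟨n, hn, rfl⟩
    refine ⟨cj (s⁻¹ * n * s) A, ⟨s⁻¹ * n * s, ⟨Γ.mul_mem (Γ.mul_mem (Γ.inv_mem hsΓ) hn.1) hsΓ, ?_⟩, rfl⟩, ?_⟩
    · have := cj_normalizer (g := s⁻¹) hn.2
      rw [cj_cj, inv_mul_cancel, cj_one, inv_inv] at this
      exact this
    · show cj s (cj (s⁻¹ * n * s) A) = cj n (cj s A)
      rw [cj_cj, cj_cj]; exact congrArg (fun z => cj z A) (by group)

/-- Components of different members. -/
theorem Sit.comp_fix {A B : Subgroup G} (hA : A ∈ mems p W Γ S) (hB : B ∈ mems p W Γ S) (hne : A ≠ B) :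
    ∀ l ∈ comp p W Γ S A, ∀ w ∈ W,
      ⁅l, w⁆ ∈ W ⊓ centralizer ((comp p W Γ S B : Subgroup G) : Set G) := by
  classical
  obtain ⟨g, x, T, F, iF, fF, E, Q, hcA, ⟨Φ⟩⟩ := C.comp_data hns hA
  obtain ⟨g', y, T', F', iF', fF', E', Q', hcB, ⟨Ψ⟩⟩ := C.comp_data hns hB
  rw [hcA, hcB]
  obtain ⟨hDW, -, hcm⟩ := Q'.separation C E' (m := 1) (one_mem _) (D := delta p W Γ S g')
    (by rw [cj_one]; exact C.delta_le g') (E'.leLoc.trans inf_le_right) Q'.xloc.2
  have hAd : A ≤ delta p W Γ S g' := le_jn ((E'.others C hns).le ⟨hA, hne⟩)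
  have hcd : ∀ d ∈ delta p W Γ S g', ∀ l ∈ B ⊔ cj y B, d * l = l * d := by
    intro d hd
    have hle : B ⊔ cj y B ≤ centralizer ({d} : Set G) := sup_le
      (fun b hb => mem_centralizer_singleton_iff.mpr (hcm d hd b hb).1.symm)
      (cj_le.mpr fun b hb => mem_centralizer_singleton_iff.mpr (hcm d hd b hb).2.symm)
    exact fun l hl => (mem_centralizer_singleton_iff.mp (hle hl)).symm
  -- a torus element of the second component
  obtain ⟨c, hc⟩ : ∃ c : F'ˣ, c ≠ 1 := Fintype.exists_ne_of_one_lt_card (by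
    rw [Fintype.card_units, Ψ.card]; have := hns.two_lt E'.mem; omega) 1
  obtain ⟨t', ht'⟩ := Ψ.bij.2 (dg c)
  obtain ⟨t, ht⟩ : ∃ t : G, t = (t' : G) := ⟨_, rfl⟩
  have htM : t ∈ M := ht ▸ Frame.dg_mem C E' Q' Ψ ht'
  have htl' : t ∈ loc p W Γ S g' := ht ▸ Pr.P_loc C E' Q' Ψ t'.2
  have htB : cj t B = B := E'.normal C htl' htM
  have htA : ∀ a ∈ A, t * a = a * t := fun a ha => (hcd a (hAd ha) t (ht ▸ t'.2)).symm
  have htl : t ∈ loc p W Γ S g := by
    refine mem_inf.mpr ⟨htl'.1, ?_⟩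
    refine norm_of_cj (eq_of_le_of_card_ge ?_ (card_cj _ _).ge)
    rw [delta, cj_jn]
    refine jn_le ?_
    rintro _ ⟨D, hD, rfl⟩
    have hDe : cj t D = D := by
      by_cases hDB : D = B
      · rw [hDB, htB]
      · exact cj_eq_of_norm (centralizer_le_normalizer _ (mem_centralizer_iff.mpr fun d hd =>
          hcd d ((le_jn ((E'.others C hns).le ⟨hD.1, hDB⟩) : D ≤ delta p W Γ S g') hd) t (ht ▸ t'.2)))
    exact hDe.le.trans (le_jn hD)
  -- it fixes the partner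
  obtain ⟨a, ha, hm⟩ := Q.point C E (h := t * x) (mul_mem htl Q.xloc) fun h =>
    Q.xM (by simpa using M.mul_mem (M.inv_mem htM) h)
  have hiter : ∀ i : ℕ, (a ^ i * x)⁻¹ * (t ^ i * x) ∈ M := by
    intro i
    induction i with
    | zero => simp
    | succ i ih =>
      have hti : Commute t (a ^ i) := (htA (a ^ i) (A.pow_mem ha i))
      have e : (a ^ (i + 1) * x)⁻¹ * (t ^ (i + 1) * x) =
          ((a * x)⁻¹ * (t * x)) * ((a ^ i * x)⁻¹ * (t ^ i * x)) := by
        rw [pow_succ, pow_succ']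
        calc (a ^ i * a * x)⁻¹ * (t * t ^ i * x)
            = x⁻¹ * a⁻¹ * ((a ^ i)⁻¹ * t) * (t ^ i * x) := by group
          _ = x⁻¹ * a⁻¹ * (t * (a ^ i)⁻¹) * (t ^ i * x) := by rw [hti.symm.inv_left.eq]
          _ = _ := by group
      rw [e]
      exact M.mul_mem hm ih
  have ha1 : a = 1 := by
    have hN := hiter (Fintype.card F'ˣ)
    have htN : t ^ Fintype.card F'ˣ = 1 := by
      let dh : F'ˣ →* Matrix.SpecialLinearGroup (Fin 2) F' :=
        { toFun := dg, map_one' := dg_one, map_mul' := fun a b => (dg_mul a b).symm }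
      have h1 : t' ^ Fintype.card F'ˣ = 1 := Ψ.bij.1 (by
        rw [map_pow, ht', map_one]
        show dh c ^ _ = 1
        rw [← map_pow, pow_card_eq_one, map_one])
      rw [ht, ← coe_pow, h1, coe_one]
    rw [htN, one_mul] at hN
    have hd : delta p W Γ S g ≤ cj x S :=
      (cj_eq_of_norm Q.xloc.2).ge.trans (cj_mono _ (C.delta_le g))
    have h2 := Q.semireg C E (inv_mem (A.pow_mem ha (Fintype.card F'ˣ))) Q.xloc.1 hd Q.xM (by
      simpa [mul_assoc] using hN)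
    rw [inv_eq_one] at h2
    obtain ⟨n, hn⟩ := IsPGroup.iff_card.mp E.mem.pg
    have h3 : a ^ p ^ n = 1 := by
      rw [← hn]; exact congrArg Subtype.val (pow_card_eq_one' (x := (⟨a, ha⟩ : A)))
    have hcop : Nat.Coprime (p ^ n) (Fintype.card F'ˣ) := by
      refine Nat.Coprime.pow_left _ ((Nat.Prime.coprime_iff_not_dvd Fact.out).mpr fun hdv => ?_)
      obtain ⟨k, hk⟩ := IsPGroup.iff_card.mp E'.mem.pg
      rw [Fintype.card_units, Ψ.card, hk] at hdv
      have hk0 : k ≠ 0 := fun h => E'.mem.ne (Subgroup.card_eq_one.mp (by rw [hk, h, pow_zero]))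
      have h3 : p ∣ p ^ k - (p ^ k - 1) := Nat.dvd_sub (dvd_pow_self p hk0) hdv
      rw [Nat.sub_sub_self (Nat.one_le_pow _ _ (Fact.out : p.Prime).pos)] at h3
      exact (Fact.out : p.Prime).not_dvd_one h3
    have h4 := pow_gcd_eq_one.mpr ⟨h3, h2⟩
    rwa [hcop.gcd_eq_one, pow_one] at h4
  have htx : cj t (cj x A) = cj x A := by
    rw [ha1, one_mul] at hm
    have h := E.normal C (mul_mem (inv_mem Q.xloc) (mul_mem htl Q.xloc)) hm
    calc cj t (cj x A) = cj x (cj (x⁻¹ * (t * x)) A) := by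
          rw [cj_cj, cj_cj, mul_inv_cancel_left]
      _ = _ := congrArg (cj x) h
  have htL := Frame.commute C E Q Φ htl.1 htA htx
  -- the first component fixes the commutators of the torus element
  have hkill : ∀ v ∈ W, ∀ l ∈ A ⊔ cj x A, l * ⁅t, v⁆ * l⁻¹ = ⁅t, v⁆ := by
    have hA' : ∀ v ∈ W, ∀ a ∈ A, a * ⁅t, v⁆ * a⁻¹ = ⁅t, v⁆ := by
      intro v hv a ha
      have h1 : t * ⁅a, v⁆ * t⁻¹ = ⁅a, v⁆ := ht ▸ Q'.conf.z_le t'.2 (hDW a (hAd ha) v hv)
      calc a * ⁅t, v⁆ * a⁻¹ = ((a * t) * v * (a * t)⁻¹) * (a * v * a⁻¹)⁻¹ := by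
            rw [commutatorElement_def]; group
        _ = ((t * a) * v * (t * a)⁻¹) * (a * v * a⁻¹)⁻¹ := by rw [htA a ha]
        _ = (t * ⁅a, v⁆ * t⁻¹) * (t * v * t⁻¹) * (⁅a, v⁆ * v)⁻¹ := by
            simp only [commutatorElement_def]; group
        _ = ⁅a, v⁆ * ⁅t, v⁆ * ⁅a, v⁆⁻¹ := by rw [h1, commutatorElement_def t v]; group
        _ = _ := by
            have hw : ⁅t, v⁆ ∈ W := W.mul_mem (C.norm t htl.1 v hv) (W.inv_mem hv)
            rw [C.wcomm _ (Q.conf.comm_mem (le_sup_left (b := cj x A) ha) hv) _ hw]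
            group
    intro v hv
    have hle : A ⊔ cj x A ≤ centralizer ({⁅t, v⁆} : Set G) := by
      refine sup_le (fun a ha => mem_centralizer_singleton_iff.mpr (mul_inv_eq_iff_eq_mul.mp (hA' v hv a ha)))
        (cj_le.mpr fun a ha => mem_centralizer_singleton_iff.mpr (mul_inv_eq_iff_eq_mul.mp ?_))
      have hx' : x⁻¹ * v * x ∈ W := by simpa using C.norm x⁻¹ (inv_mem Q.xloc.1) v hv
      have htx' : x * t = t * x := (htL x Q.xP).symm
      have e : x⁻¹ * ⁅t, v⁆ * x = ⁅t, x⁻¹ * v * x⁆ := by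
        rw [show x⁻¹ * ⁅t, v⁆ * x = ⁅x⁻¹ * t * x, x⁻¹ * v * x⁆ by simp only [commutatorElement_def]; group,
          show x⁻¹ * t * x = t by rw [mul_assoc, ← htx', inv_mul_cancel_left]]
      calc (x * a * x⁻¹) * ⁅t, v⁆ * (x * a * x⁻¹)⁻¹ = x * (a * (x⁻¹ * ⁅t, v⁆ * x) * a⁻¹) * x⁻¹ := by group
        _ = x * (x⁻¹ * ⁅t, v⁆ * x) * x⁻¹ := by rw [e, hA' _ hx' a ha]
        _ = _ := by group
    exact fun l hl => mul_inv_eq_iff_eq_mul.mpr (mem_centralizer_singleton_iff.mp (hle hl))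
  intro l hl w hw
  have hlw : ⁅l, w⁆ ∈ W := Q.conf.comm_mem hl hw
  refine (Ψ.ker _ hlw).mp ?_
  have hfix : t * ⁅l, w⁆ * t⁻¹ = ⁅l, w⁆ := by
    calc t * ⁅l, w⁆ * t⁻¹ = ((t * l) * w * (t * l)⁻¹) * (t * w * t⁻¹)⁻¹ := by
          rw [commutatorElement_def]; group
      _ = ((l * t) * w * (l * t)⁻¹) * (t * w * t⁻¹)⁻¹ := by rw [htL l hl]
      _ = (l * ⁅t, w⁆ * l⁻¹) * (l * w * l⁻¹) * (⁅t, w⁆ * w)⁻¹ := by simp only [commutatorElement_def]; group
      _ = ⁅t, w⁆ * ⁅l, w⁆ * ⁅t, w⁆⁻¹ := by rw [hkill w hw l hl, commutatorElement_def l w]; group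
      _ = _ := by
        have hw' : ⁅t, w⁆ ∈ W := W.mul_mem (C.norm t htl.1 w hw) (W.inv_mem hw)
        rw [C.wcomm _ hw' _ hlw]
        group
  have h1 := Ψ.act t' _ hlw
  rw [← ht, hfix, ht', dg_mulVec] at h1
  funext i
  fin_cases i
  · have h2 := congrFun h1 0
    simp only [Matrix.cons_val_zero] at h2
    have : ((c : F') - 1) * Ψ.lam ⁅l, w⁆ 0 = 0 := by linear_combination -h2
    exact (mul_eq_zero.mp this).resolve_left (sub_ne_zero.mpr fun h => hc (Units.ext h))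
  · have h2 := congrFun h1 1
    simp only [Matrix.cons_val_one, Matrix.cons_val_fin_one] at h2
    have : (((c⁻¹ : F'ˣ) : F') - 1) * Ψ.lam ⁅l, w⁆ 1 = 0 := by linear_combination -h2
    exact (mul_eq_zero.mp this).resolve_left (sub_ne_zero.mpr fun h => hc (inv_eq_one.mp (Units.ext h)))

/-- Components of different members commute. -/
theorem Sit.comp_comm {A B : Subgroup G} (hA : A ∈ mems p W Γ S) (hB : B ∈ mems p W Γ S) (hne : A ≠ B) :
    ∀ l ∈ comp p W Γ S A, ∀ m ∈ comp p W Γ S B, l * m = m * l := by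
  obtain ⟨g, x, T, F, iF, fF, E, Q, hcA, -⟩ := C.comp_data hns hA
  obtain ⟨g', y, T', F', iF', fF', E', Q', hcB, -⟩ := C.comp_data hns hB
  intro l hl m hm
  have hlΓ : l ∈ Γ := Q.P_le C E (hcA ▸ hl)
  have hmΓ : m ∈ Γ := Q'.P_le C E' (hcB ▸ hm)
  suffices h : (m * l)⁻¹ * (l * m) = 1 from (inv_mul_eq_one.mp h).symm
  rw [← mem_bot, ← C.faith]
  refine mem_inf.mpr ⟨mul_mem (inv_mem (mul_mem hmΓ hlΓ)) (mul_mem hlΓ hmΓ), mem_centralizer_iff.mpr fun w hw => ?_⟩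
  have h1 := (mem_fix.mp (C.comp_fix hns hB hA hne.symm m hm w hw)).2 l hl
  have h2 := (mem_fix.mp (C.comp_fix hns hA hB hne l hl w hw)).2 m hm
  have key : (l * m) * w * (l * m)⁻¹ = (m * l) * w * (m * l)⁻¹ := by
    calc (l * m) * w * (l * m)⁻¹ = (l * ⁅m, w⁆ * l⁻¹) * (⁅l, w⁆ * w) := by
          simp only [commutatorElement_def]; group
      _ = ⁅l, w⁆ * ⁅m, w⁆ * w := by
          rw [h1, ← mul_assoc, C.wcomm _ (C.comp_fix hns hB hA hne.symm m hm w hw).1 _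
            (C.comp_fix hns hA hB hne l hl w hw).1]
      _ = (m * ⁅l, w⁆ * m⁻¹) * (⁅m, w⁆ * w) := by rw [h2, mul_assoc]
      _ = _ := by simp only [commutatorElement_def]; group
  refine (mul_inv_eq_iff_eq_mul.mp ?_).symm
  calc (m * l)⁻¹ * (l * m) * w * ((m * l)⁻¹ * (l * m))⁻¹
      = (m * l)⁻¹ * ((l * m) * w * (l * m)⁻¹) * (m * l) := by group
    _ = w := by rw [key]; group

/-- An element of `S` centralising a member splits along its component. -/
theorem Sit.comp_split {A : Subgroup G} (hA : A ∈ mems p W Γ S) {e : G} (he : e ∈ S)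
    (heA : ∀ a ∈ A, e * a = a * e) :
    ∃ a ∈ A, a⁻¹ * e ∈ centralizer ((comp p W Γ S A : Subgroup G) : Set G) ∧
      ∀ b ∈ A, ∀ v ∈ W, (a⁻¹ * e) * ⁅b, v⁆ * (a⁻¹ * e)⁻¹ = ⁅b, v⁆ := by
  obtain ⟨g, x, T, F, iF, fF, E, Q, hcA, ⟨Φ⟩⟩ := C.comp_data hns hA
  obtain ⟨a, ha, hc⟩ := Frame.split C E Q Φ he (E.loc_of_cent C hns he heA) heA
  exact ⟨a, ha, hcA ▸ hc, (Frame.cent_fix C E Q Φ (mul_mem (inv_mem (E.leS ha)) he) hc).2⟩

end Cfsg.Agent.Fus.RootPair
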