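import Cfsg.Agent.Lib.Fus.RootPairOrbit
import Cfsg.Agent.Lib.Fus.RootPairField
import Cfsg.Agent.Lib.Grp.SL2Basic

/-!
# A generating pair in standard coordinates

The pair `⟨A, A^x⟩` of a member outside a maximal intersection acts on `W` modulo its fixed space as `SL₂(F)`
in coordinates in which `A` is upper and `A^x` lower unitriangular.
-/

set_option autoImplicit false
set_option linter.unusedSectionVars false
set_option linter.style.haveILetI false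

open scoped commutatorElement Matrix

namespace Cfsg.Agent.Fus.RootPair

open Subgroup Matrix Cfsg.Agent.Grp Cfsg.Agent.Grp.OffenderSL2

universe u

/-- A diagonal element. -/
def dg {F : Type} [Field F] (c : Fˣ) : Matrix.SpecialLinearGroup (Fin 2) F :=
  ⟨!![(c : F), 0; 0, ((c⁻¹ : Fˣ) : F)], by simp [Matrix.det_fin_two]⟩

theorem up_mulVec {F : Type} [Field F] (c : F) (y : Fin 2 → F) :
    (SL2.up c : Matrix (Fin 2) (Fin 2) F) *ᵥ y = ![y 0 + c * y 1, y 1] := by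
  funext i
  fin_cases i <;> simp [SL2.up, Matrix.mulVec, dotProduct, Fin.sum_univ_two]

theorem dg_mulVec {F : Type} [Field F] (c : Fˣ) (y : Fin 2 → F) :
    (dg c : Matrix (Fin 2) (Fin 2) F) *ᵥ y = ![(c : F) * y 0, ((c⁻¹ : Fˣ) : F) * y 1] := by
  funext i
  fin_cases i <;> simp [dg, Matrix.mulVec, dotProduct, Fin.sum_univ_two]

theorem dg_mul {F : Type} [Field F] (c d : Fˣ) : dg c * dg d = dg (c * d) := by
  refine Matrix.SpecialLinearGroup.ext _ _ fun i j => ?_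
  rw [Matrix.SpecialLinearGroup.coe_mul]
  fin_cases i <;> fin_cases j <;> simp [dg, Matrix.mul_apply, Fin.sum_univ_two, mul_comm]

theorem dg_one {F : Type} [Field F] : dg (1 : Fˣ) = 1 := by
  refine Matrix.SpecialLinearGroup.ext _ _ fun i j => ?_
  fin_cases i <;> fin_cases j <;> simp [dg]

/-- An element fixing the first basis vector is upper unitriangular. -/
theorem eq_up_of_fix {F : Type} [Field F] (g : Matrix.SpecialLinearGroup (Fin 2) F)
    (h : (g : Matrix (Fin 2) (Fin 2) F) *ᵥ ![1, 0] = ![1, 0]) :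
    g = SL2.up ((g : Matrix (Fin 2) (Fin 2) F) 0 1) := by
  have e0 : (g : Matrix (Fin 2) (Fin 2) F) 0 0 = 1 := by
    simpa [Matrix.mulVec, dotProduct, Fin.sum_univ_two] using congrFun h 0
  have e1 : (g : Matrix (Fin 2) (Fin 2) F) 1 0 = 0 := by
    simpa [Matrix.mulVec, dotProduct, Fin.sum_univ_two] using congrFun h 1
  have hd := g.2
  rw [Matrix.det_fin_two, e0, e1, one_mul, mul_zero, sub_zero] at hd
  refine Matrix.SpecialLinearGroup.ext _ _ fun i j => ?_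
  fin_cases i <;> fin_cases j <;> simp [SL2.up, e0, e1, hd]

variable {G : Type u} [Group G]

/-- Standard coordinates for `L` acting on `W` with opposite root groups `A`, `B`. -/
structure Frame (W L A B : Subgroup G) (F : Type) [Field F] [Fintype F] where
  rho : ↥L →* Matrix.SpecialLinearGroup (Fin 2) F
  lam : G → (Fin 2 → F)
  bij : Function.Bijective rho
  add : ∀ v ∈ W, ∀ w ∈ W, lam (v * w) = lam v + lam w
  ker : ∀ v ∈ W, (lam v = 0 ↔ v ∈ W ⊓ centralizer (L : Set G))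
  surj : ∀ y, ∃ v ∈ W, lam v = y
  act : ∀ (e : ↥L), ∀ v ∈ W, lam ((e : G) * v * (e : G)⁻¹) = (rho e : Matrix (Fin 2) (Fin 2) F) *ᵥ lam v
  memA : ∀ e : ↥L, (e : G) ∈ A ↔ (rho e : Matrix (Fin 2) (Fin 2) F) *ᵥ ![1, 0] = ![1, 0]
  fixB : ∀ e : ↥L, (e : G) ∈ B → (rho e : Matrix (Fin 2) (Fin 2) F) *ᵥ ![0, 1] = ![0, 1]
  surjB : ∀ e : ↥L, (rho e : Matrix (Fin 2) (Fin 2) F) *ᵥ ![0, 1] = ![0, 1] → (e : G) ∈ B
  lineA : ∀ v ∈ W, (v ∈ W ⊓ centralizer (A : Set G) ↔ lam v 1 = 0)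
  lineB : ∀ v ∈ W, (v ∈ W ⊓ centralizer (B : Set G) ↔ lam v 0 = 0)
  card : Fintype.card F = Nat.card A

variable [Finite G] {p : ℕ} [Fact p.Prime] {W Γ S M : Subgroup G} (C : Sit p W Γ S M)
  {g : G} {A : Subgroup G} (E : Ext p W Γ S M g A) {x : G} {T : Subgroup G} (Q : Pr p W Γ S M g A x T)
include C E Q

/-- Every pair has standard coordinates. -/
theorem frame : ∃ (F : Type) (_ : Field F) (_ : Fintype F),
    Nonempty (Frame W (A ⊔ cj x A) A (cj x A) F) := by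
  classical
  obtain ⟨F, iF, fF, hF, ρ, ψ, hρ, hψ, hker, hact⟩ := Q.natural C E
  obtain ⟨u, hu, huG⟩ := C.exists_vec
  obtain ⟨L, hL⟩ : ∃ L, L = A ⊔ cj x A := ⟨_, rfl⟩
  obtain ⟨Λ, hΛ⟩ : ∃ Λ : G → (Fin 2 → F), ∀ (v : G) (hv : v ∈ W), Λ v = Multiplicative.toAdd (ψ ⟨v, hv⟩) :=
    ⟨fun v => if hv : v ∈ W then Multiplicative.toAdd (ψ ⟨v, hv⟩) else 0, fun v hv => dif_pos hv⟩
  have hΛm : ∀ v ∈ W, ∀ w ∈ W, Λ (v * w) = Λ v + Λ w := fun v hv w hw => by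
    rw [hΛ v hv, hΛ w hw, hΛ _ (mul_mem hv hw), ← toAdd_mul, ← map_mul]; rfl
  have hΛ0 : ∀ v ∈ W, (Λ v = 0 ↔ v ∈ W ⊓ centralizer ((A ⊔ cj x A : Subgroup G) : Set G)) := fun v hv => by
    rw [hΛ v hv, ← hker ⟨v, hv⟩]
    exact ⟨fun h => Multiplicative.toAdd.injective (h.trans toAdd_one.symm), fun h => by rw [h]; rfl⟩
  have hconj : ∀ (e : ↥(A ⊔ cj x A)), ∀ v ∈ W,
      Λ ((e : G) * v * (e : G)⁻¹) = (ρ e : Matrix (Fin 2) (Fin 2) F) *ᵥ Λ v := fun e v hv => by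
    rw [hΛ v hv, hΛ _ (Q.conf.norm e e.2 v hv)]
    exact hact e ⟨v, hv⟩ _ rfl
  have hP : A ⊔ cj x A ≤ Γ := Q.P_le C E
  -- the two points
  have huH : u ∈ W ⊓ centralizer (A : Set G) := mem_fix.mpr ⟨hu.1, fun b hb => (mem_fix.mp hu).2 b (E.leS hb)⟩
  have huZ : u ∉ W ⊓ centralizer ((A ⊔ cj x A : Subgroup G) : Set G) := by
    simpa using Q.vec_notZ C E (one_mem _) hu huG
  obtain ⟨u', hu'⟩ : ∃ u', u' = x * u * x⁻¹ := ⟨_, rfl⟩
  have hu'W : u' ∈ W := hu' ▸ C.norm x (Q.xΓ C E) u hu.1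
  have hu'B : u' ∈ cj x (W ⊓ centralizer (A : Set G)) := hu' ▸ conj_mem_cj x huH
  -- regularity on both sides
  have hregA : ∀ v ∈ W, (∀ a : ↥(A ⊔ cj x A), (a : G) ∈ A → (ρ a : Matrix (Fin 2) (Fin 2) F) *ᵥ Λ v = Λ v) →
      v ∈ W ⊓ centralizer (A : Set G) := by
    intro v hv h
    obtain ⟨a, ha, ha1⟩ := (bot_or_exists_ne_one A).resolve_left E.mem.ne
    have haP : a ∈ A ⊔ cj x A := le_sup_left (b := cj x A) ha
    have hc : ⁅a, v⁆ ∈ W := Q.conf.comm_mem haP hv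
    refine Q.reg C E ha ha1 hv ((hΛ0 _ hc).mp ?_)
    have h1 := hΛm _ hc v hv
    rw [show ⁅a, v⁆ * v = a * v * a⁻¹ by rw [commutatorElement_def]; group, hconj ⟨a, haP⟩ v hv, h ⟨a, haP⟩ ha] at h1
    simpa using h1
  have hfixA : ∀ a : ↥(A ⊔ cj x A), (a : G) ∈ A → ∀ v ∈ W ⊓ centralizer (A : Set G),
      (ρ a : Matrix (Fin 2) (Fin 2) F) *ᵥ Λ v = Λ v := fun a ha v hv => by
    rw [← hconj a v hv.1, (mem_fix.mp hv).2 a ha]
  have hfixB : ∀ b : ↥(A ⊔ cj x A), (b : G) ∈ cj x A → ∀ v ∈ cj x (W ⊓ centralizer (A : Set G)),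
      (ρ b : Matrix (Fin 2) (Fin 2) F) *ᵥ Λ v = Λ v := fun b hb v hv => by
    rw [← hconj b v (Q.conf.point_le Q.xP hv), Q.conf.point_fix hv hb]
  have hne1 : Λ u ≠ 0 := fun h => huZ ((hΛ0 u hu.1).mp h)
  obtain ⟨D, hD⟩ : ∃ D : Matrix (Fin 2) (Fin 2) F, D = !![Λ u 0, Λ u' 0; Λ u 1, Λ u' 1] := ⟨_, rfl⟩
  have hdet : D.det ≠ 0 := by
    intro h0
    rw [hD, Matrix.det_fin_two_of] at h0
    obtain ⟨f, hf⟩ : ∃ f : F, Λ u' = f • Λ u := by
      rcases two_dim hne1 (Λ u') with h | h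
      · exact h
      · exfalso
        obtain ⟨a, b, he⟩ := h ![1, 0]
        obtain ⟨a', b', he'⟩ := h ![0, 1]
        have e0 := congrFun he 0
        have e1 := congrFun he 1
        have e0' := congrFun he' 0
        have e1' := congrFun he' 1
        simp at e0 e1 e0' e1'
        have hdd : (a * b' - a' * b) * (Λ u 0 * Λ u' 1 - Λ u' 0 * Λ u 1) = 1 := by
          linear_combination (-(a' * Λ u 1 + b' * Λ u' 1)) * e0 + (a' * Λ u 0 + b' * Λ u' 0) * e1 - e1'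
        rw [h0, mul_zero] at hdd
        exact zero_ne_one hdd
    have h2 : u' ∈ W ⊓ centralizer (A : Set G) := hregA u' hu'W fun a ha => by
      rw [hf, Matrix.mulVec_smul, hfixA a ha u huH]
    have h3 : u' ∈ W ⊓ centralizer ((A ⊔ cj x A : Subgroup G) : Set G) :=
      Q.conf.inter Q.xP (Q.xnot C E) h2 hu'B
    refine huZ ?_
    have h4 := Q.conf.z_le (inv_mem Q.xP) h3
    rw [hu', show x⁻¹ * (x * u * x⁻¹) * x⁻¹⁻¹ = u by group] at h4
    rw [h4]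
    exact hu' ▸ h3
  obtain ⟨Di, hDi⟩ : ∃ Di, Di = D⁻¹ := ⟨_, rfl⟩
  have hu1 : IsUnit D.det := isUnit_iff_ne_zero.mpr hdet
  have hDD : D * Di = 1 := hDi ▸ Matrix.mul_nonsing_inv D hu1
  have hDD' : Di * D = 1 := hDi ▸ Matrix.nonsing_inv_mul D hu1
  have hDe1 : D *ᵥ ![1, 0] = Λ u := by
    funext i; rw [hD]; fin_cases i <;> simp [Matrix.mulVec, dotProduct, Fin.sum_univ_two]
  have hDe2 : D *ᵥ ![0, 1] = Λ u' := by
    funext i; rw [hD]; fin_cases i <;> simp [Matrix.mulVec, dotProduct, Fin.sum_univ_two]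
  have hdetI : ∀ e : ↥(A ⊔ cj x A), (Di * (ρ e : Matrix (Fin 2) (Fin 2) F) * D).det = 1 := fun e => by
    rw [Matrix.det_mul_right_comm, hDD', Matrix.one_mul, (ρ e).2]
  let ρ' : ↥(A ⊔ cj x A) →* Matrix.SpecialLinearGroup (Fin 2) F :=
    { toFun := fun e => ⟨Di * (ρ e : Matrix (Fin 2) (Fin 2) F) * D, hdetI e⟩
      map_one' := Subtype.ext (by simp [hDD'])
      map_mul' := fun e f => Subtype.ext (by
        show Di * (ρ (e * f) : Matrix (Fin 2) (Fin 2) F) * D =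
          (Di * (ρ e : Matrix (Fin 2) (Fin 2) F) * D) * (Di * (ρ f : Matrix (Fin 2) (Fin 2) F) * D)
        rw [map_mul, Matrix.SpecialLinearGroup.coe_mul, Matrix.mul_assoc (Di * _) D, ← Matrix.mul_assoc D,
          ← Matrix.mul_assoc D, hDD, Matrix.one_mul]
        simp only [Matrix.mul_assoc]) }
  have hbij : Function.Bijective ρ' := by
    refine ⟨fun e f h => hρ.1 (Subtype.ext ?_), fun m => ?_⟩
    · have h1 : D * (Di * (ρ e : Matrix (Fin 2) (Fin 2) F) * D) * Di =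
          D * (Di * (ρ f : Matrix (Fin 2) (Fin 2) F) * D) * Di := by
        rw [show Di * (ρ e : Matrix (Fin 2) (Fin 2) F) * D = Di * (ρ f : Matrix (Fin 2) (Fin 2) F) * D from
          congrArg Subtype.val h]
      simpa [← Matrix.mul_assoc, hDD, Matrix.mul_assoc _ D Di] using h1
    · obtain ⟨e, he⟩ := hρ.2 ⟨D * (m : Matrix (Fin 2) (Fin 2) F) * Di, by
        rw [Matrix.det_mul_right_comm, hDD, Matrix.one_mul, m.2]⟩
      refine ⟨e, Subtype.ext ?_⟩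
      show Di * (ρ e : Matrix (Fin 2) (Fin 2) F) * D = _
      rw [he]
      show Di * (D * (m : Matrix (Fin 2) (Fin 2) F) * Di) * D = _
      rw [← Matrix.mul_assoc, ← Matrix.mul_assoc, hDD', Matrix.one_mul, Matrix.mul_assoc, hDD', Matrix.mul_one]
  have hinj : ∀ y : Fin 2 → F, D *ᵥ (Di *ᵥ y) = y := fun y => by rw [Matrix.mulVec_mulVec, hDD, Matrix.one_mulVec]
  have hinj' : ∀ y : Fin 2 → F, Di *ᵥ (D *ᵥ y) = y := fun y => by rw [Matrix.mulVec_mulVec, hDD', Matrix.one_mulVec]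
  have hDinj : ∀ y z : Fin 2 → F, Di *ᵥ y = Di *ᵥ z → y = z := fun y z h => by rw [← hinj y, h, hinj]
  have hρ'v : ∀ (e : ↥(A ⊔ cj x A)) (y : Fin 2 → F),
      (ρ' e : Matrix (Fin 2) (Fin 2) F) *ᵥ y = Di *ᵥ ((ρ e : Matrix (Fin 2) (Fin 2) F) *ᵥ (D *ᵥ y)) := fun e y => by
    show (Di * (ρ e : Matrix (Fin 2) (Fin 2) F) * D) *ᵥ y = _
    rw [Matrix.mulVec_mulVec, Matrix.mulVec_mulVec]
  -- the members as unitriangular groups
  have hAfix : ∀ e : ↥(A ⊔ cj x A), (e : G) ∈ A → (ρ' e : Matrix (Fin 2) (Fin 2) F) *ᵥ ![1, 0] = ![1, 0] :=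
    fun e he => by rw [hρ'v, hDe1, hfixA e he u huH, ← hDe1, hinj']
  have hBfix : ∀ e : ↥(A ⊔ cj x A), (e : G) ∈ cj x A → (ρ' e : Matrix (Fin 2) (Fin 2) F) *ᵥ ![0, 1] = ![0, 1] :=
    fun e he => by rw [hρ'v, hDe2, hfixB e he u' hu'B, ← hDe2, hinj']
  have hmemA : ∀ e : ↥(A ⊔ cj x A), (ρ' e : Matrix (Fin 2) (Fin 2) F) *ᵥ ![1, 0] = ![1, 0] → (e : G) ∈ A := by
    intro e he
    obtain ⟨f, hf⟩ : ∃ f : A → F, ∀ a : A,
        f a = (ρ' ⟨a, le_sup_left (b := cj x A) a.2⟩ : Matrix (Fin 2) (Fin 2) F) 0 1 := ⟨_, fun _ => rfl⟩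
    have hup := fun a : A => eq_up_of_fix _ (hAfix ⟨a, le_sup_left (b := cj x A) a.2⟩ a.2)
    have hfi : Function.Injective f := fun a b h => by
      have e2 : ρ' ⟨a, le_sup_left (b := cj x A) a.2⟩ = ρ' ⟨b, le_sup_left (b := cj x A) b.2⟩ := by
        rw [hup a, hup b, ← hf, ← hf, h]
      exact Subtype.ext (show (a : G) = b from Subtype.mk.inj (hbij.1 e2))
    obtain ⟨a, ha⟩ := ((Nat.bijective_iff_injective_and_card f).mpr
      ⟨hfi, by rw [Nat.card_eq_fintype_card (α := F), hF]⟩).2 ((ρ' e : Matrix (Fin 2) (Fin 2) F) 0 1)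
    have e2 : ρ' e = ρ' ⟨a, le_sup_left (b := cj x A) a.2⟩ := by
      rw [eq_up_of_fix _ he, hup a, ← hf, ha]
    have e3 : (e : G) = (a : G) := congrArg (fun z : ↥(A ⊔ cj x A) => (z : G)) (hbij.1 e2)
    rw [e3]; exact a.2
  have hmemB : ∀ e : ↥(A ⊔ cj x A), (ρ' e : Matrix (Fin 2) (Fin 2) F) *ᵥ ![0, 1] = ![0, 1] → (e : G) ∈ cj x A := by
    intro e he
    obtain ⟨f, hf⟩ : ∃ f : ↥(cj x A) → F, ∀ a : ↥(cj x A),
        f a = (ρ' ⟨a, le_sup_right (a := A) a.2⟩ : Matrix (Fin 2) (Fin 2) F) 1 0 := ⟨_, fun _ => rfl⟩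
    have hlow : ∀ m : Matrix.SpecialLinearGroup (Fin 2) F,
        (m : Matrix (Fin 2) (Fin 2) F) *ᵥ ![0, 1] = ![0, 1] → m = SL2.low ((m : Matrix (Fin 2) (Fin 2) F) 1 0) := by
      intro m h
      have e0 : (m : Matrix (Fin 2) (Fin 2) F) 0 1 = 0 := by
        simpa [Matrix.mulVec, dotProduct, Fin.sum_univ_two] using congrFun h 0
      have e1 : (m : Matrix (Fin 2) (Fin 2) F) 1 1 = 1 := by
        simpa [Matrix.mulVec, dotProduct, Fin.sum_univ_two] using congrFun h 1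
      have hd := m.2
      rw [Matrix.det_fin_two, e0, e1, mul_one, zero_mul, sub_zero] at hd
      refine Matrix.SpecialLinearGroup.ext _ _ fun i j => ?_
      fin_cases i <;> fin_cases j <;> simp [SL2.low, e0, e1, hd]
    have hfi : Function.Injective f := fun a b h => by
      have e2 : ρ' ⟨a, le_sup_right (a := A) a.2⟩ = ρ' ⟨b, le_sup_right (a := A) b.2⟩ := by
        rw [hlow _ (hBfix _ a.2), hlow _ (hBfix ⟨b, le_sup_right (a := A) b.2⟩ b.2), ← hf, ← hf, h]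
      exact Subtype.ext (show (a : G) = b from Subtype.mk.inj (hbij.1 e2))
    obtain ⟨a, ha⟩ := ((Nat.bijective_iff_injective_and_card f).mpr
      ⟨hfi, by rw [card_cj, Nat.card_eq_fintype_card (α := F), hF]⟩).2 ((ρ' e : Matrix (Fin 2) (Fin 2) F) 1 0)
    have e2 : ρ' e = ρ' ⟨a, le_sup_right (a := A) a.2⟩ := by
      rw [hlow _ he, hlow _ (hBfix ⟨a, le_sup_right (a := A) a.2⟩ a.2), ← hf, ha]
    have e3 : (e : G) = (a : G) := congrArg (fun z : ↥(A ⊔ cj x A) => (z : G)) (hbij.1 e2)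
    rw [e3]; exact a.2
  -- the lines
  have hupp : ∀ c : F, ∃ a : ↥(A ⊔ cj x A), (a : G) ∈ A ∧ ρ' a = SL2.up c := fun c => by
    obtain ⟨e, he⟩ := hbij.2 (SL2.up c)
    exact ⟨e, hmemA e (by rw [he, up_mulVec]; simp), he⟩
  have hlA : ∀ v ∈ W, (v ∈ W ⊓ centralizer (A : Set G) ↔ (Di *ᵥ Λ v) 1 = 0) := by
    intro v hv
    constructor
    · intro h
      obtain ⟨a, haA, ha⟩ := hupp 1
      have h1 : (ρ' a : Matrix (Fin 2) (Fin 2) F) *ᵥ (Di *ᵥ Λ v) = Di *ᵥ Λ v := by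
        rw [hρ'v, hinj, hfixA a haA v h]
      rw [ha, up_mulVec] at h1
      simpa using congrFun h1 0
    · intro h
      refine hregA v hv fun a ha => ?_
      have h1 : (ρ' a : Matrix (Fin 2) (Fin 2) F) *ᵥ (Di *ᵥ Λ v) = Di *ᵥ Λ v := by
        rw [eq_up_of_fix _ (hAfix a ha), up_mulVec, h, mul_zero, add_zero]
        funext i; fin_cases i <;> simp [h]
      rw [hρ'v, hinj] at h1
      exact hDinj _ _ h1
  refine ⟨F, iF, fF, ⟨
    { rho := ρ', lam := fun v => Di *ᵥ Λ v, bij := hbij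
      add := fun v hv w hw => by
        show Di *ᵥ Λ (v * w) = _
        rw [hΛm v hv w hw, Matrix.mulVec_add]
      ker := fun v hv => by
        rw [← hΛ0 v hv]
        exact ⟨fun h => hDinj _ _ (h.trans (Matrix.mulVec_zero Di).symm), fun h => by rw [h, Matrix.mulVec_zero]⟩
      surj := fun y => by
        obtain ⟨v, hv⟩ := hψ (Multiplicative.ofAdd (D *ᵥ y))
        refine ⟨v, v.2, ?_⟩
        rw [hΛ v v.2, hv, toAdd_ofAdd, hinj']
      act := fun e v hv => by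
        show Di *ᵥ Λ _ = _
        rw [hconj e v hv, hρ'v, hinj]
      memA := fun e => ⟨hAfix e, hmemA e⟩
      fixB := hBfix
      surjB := hmemB
      lineA := hlA
      lineB := fun v hv => ?_
      card := hF }⟩⟩
  -- the second line
  show v ∈ W ⊓ centralizer ((cj x A : Subgroup G) : Set G) ↔ (Di *ᵥ Λ v) 0 = 0
  constructor
  · intro h
    obtain ⟨b, hb⟩ := hbij.2 (SL2.low 1)
    have hbB : (b : G) ∈ cj x A := hmemB b (by
      rw [hb]; funext i; fin_cases i <;> simp [SL2.low, Matrix.mulVec, dotProduct, Fin.sum_univ_two])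
    have h1 : (ρ' b : Matrix (Fin 2) (Fin 2) F) *ᵥ (Di *ᵥ Λ v) = Di *ᵥ Λ v := by
      rw [hρ'v, hinj, ← hconj b v hv, (mem_fix.mp h).2 b hbB]
    rw [hb] at h1
    simpa [SL2.low, Matrix.mulVec, dotProduct, Fin.sum_univ_two] using congrFun h1 1
  · intro h
    rw [← C.cj_fix (Q.xΓ C E), mem_cj]
    have hxv : x⁻¹ * v * x ∈ W := by simpa using Q.conf.norm x⁻¹ (inv_mem Q.xP) v hv
    obtain ⟨a, haA, ha1⟩ := (bot_or_exists_ne_one A).resolve_left E.mem.ne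
    have haP : a ∈ A ⊔ cj x A := le_sup_left (b := cj x A) haA
    have hbP : x * a * x⁻¹ ∈ A ⊔ cj x A := le_sup_right (a := A) (conj_mem_cj x haA)
    refine Q.reg C E haA ha1 hxv ?_
    have hbv : ⁅x * a * x⁻¹, v⁆ ∈ W ⊓ centralizer ((A ⊔ cj x A : Subgroup G) : Set G) := by
      have hc : ⁅x * a * x⁻¹, v⁆ ∈ W := Q.conf.comm_mem hbP hv
      refine (hΛ0 _ hc).mp ?_
      have h1 : (ρ' ⟨_, hbP⟩ : Matrix (Fin 2) (Fin 2) F) *ᵥ (Di *ᵥ Λ v) = Di *ᵥ Λ v := by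
        have hfix := hBfix ⟨_, hbP⟩ (conj_mem_cj x haA)
        have e : Di *ᵥ Λ v = (Di *ᵥ Λ v) 1 • ![0, 1] := by funext i; fin_cases i <;> simp [h]
        rw [e, Matrix.mulVec_smul, hfix]
      rw [hρ'v, hinj] at h1
      have h2 : (ρ ⟨_, hbP⟩ : Matrix (Fin 2) (Fin 2) F) *ᵥ Λ v = Λ v := by
        exact hDinj _ _ h1
      have h3 := hΛm _ hc v hv
      rw [show ⁅x * a * x⁻¹, v⁆ * v = (x * a * x⁻¹) * v * (x * a * x⁻¹)⁻¹ by rw [commutatorElement_def]; group,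
        hconj ⟨_, hbP⟩ v hv, h2] at h3
      simpa using h3
    have h4 := Q.conf.z_le (inv_mem Q.xP) hbv
    rw [show x⁻¹ * ⁅x * a * x⁻¹, v⁆ * x⁻¹⁻¹ = ⁅a, x⁻¹ * v * x⁆ by simp only [commutatorElement_def]; group] at h4
    rw [h4]
    exact hbv

end Cfsg.Agent.Fus.RootPair
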