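import Cfsg.Agent.Lib.Fus.PMinFF.LiftMember
import Cfsg.Prelude

/-!
# The blocks on the module

The blocks of the section lift to `P`; each acts on its commutator space modulo the fixed points as on the section.
-/

set_option autoImplicit false
set_option linter.unusedSectionVars false
set_option linter.style.haveILetI false

open scoped commutatorElement Matrix

namespace Cfsg.Agent.Fus.MinModule

open Subgroup Cfsg.Agent.Grp Cfsg.Agent.Grp.OffenderSL2 Cfsg.Agent.Fus.RootPair Cfsg.Agent.Fus.FFBlocks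

universe u

/-- The action of one block. -/
def Acts (p : ℕ) {G : Type u} [Group G] (V E : Subgroup G) : Prop :=
  ∃ n : ℕ, 1 ≤ n ∧
    ((∃ (F : Type) (_ : Field F) (_ : Fintype F), Fintype.card F = p ^ n ∧
        Nonempty (↥E ≃* Matrix.SpecialLinearGroup (Fin 2) F) ∧
        Cfsg.ActsAsSL2OnSection F ⊤ E ⁅V, E⁆ (⁅V, E⁆ ⊓ centralizer (E : Set G))) ∨
      (p = 2 ∧ Nonempty (↥E ≃* Equiv.Perm (Fin (2 ^ n + 1))) ∧
        Cfsg.ActsAsOddPermModuleOnSection (2 ^ n + 1) ⊤ E ⁅V, E⁆ (⁅V, E⁆ ⊓ centralizer (E : Set G))))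

/-- The blocks on the module. -/
structure VBlk (p : ℕ) {G : Type u} [Group G] (V P T : Subgroup G) (r : ℕ) (E : Fin r → Subgroup G) : Prop where
  pos : 0 < r
  le : ∀ i, E i ≤ P
  comm : ∀ i j, i ≠ j → ⁅E i, E j⁆ = ⊥
  disj : ∀ i, E i ⊓ (⨆ j ∈ {j | j ≠ i}, E j) = ⊥
  sup : (⨆ i, E i) ⊔ T = P
  trans : ∀ i j, ∃ t ∈ T, cj t (E i) = E j
  decomp : (V ⊓ centralizer ((⨆ i, E i : Subgroup G) : Set G)) ⊔ (⨆ i, ⁅V, E i⁆) = V
  fix : ∀ i j, i ≠ j → ⁅⁅V, E i⁆, E j⁆ = ⊥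
  acts : ∀ i, Acts p V (E i)
  offenders : ∀ X : Subgroup G, X ≤ T → (∀ a ∈ X, ∀ b ∈ X, a * b = b * a) →
    Nat.card V ≤ Nat.card X * Nat.card ↥(V ⊓ centralizer (X : Set G)) → X ≤ ⨆ i, E i
  perm : ∀ t ∈ T, ∀ i, ∃ j, cj t (E i) = E j
  in_normal : ∀ N : Subgroup G, N ≤ P → (∀ g ∈ P, ∀ n ∈ N, g * n * g⁻¹ ∈ N) →
    (∃ X : Subgroup G, X ≤ T ∧ X ≠ ⊥ ∧ X ≤ N ∧ (∀ a ∈ X, ∀ b ∈ X, a * b = b * a) ∧
      Nat.card V ≤ Nat.card X * Nat.card ↥(V ⊓ centralizer (X : Set G))) → ∀ i, E i ≤ N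

variable {G Q : Type u} [Group G] [Group Q] [Finite G] [Finite Q] {p : ℕ} [Fact p.Prime]
  {V P T M V0 U C0 : Subgroup G} {f : G → Q} {W Γ S M' : Subgroup Q} {r : ℕ} {E : Fin r → Subgroup Q}

omit [Finite G] [Fact p.Prime] in
theorem centralizer_sup_ge {A B : Subgroup G} :
    centralizer (A : Set G) ⊓ centralizer (B : Set G) ≤ centralizer ((A ⊔ B : Subgroup G) : Set G) := fun c hc => by
  have h : A ⊔ B ≤ centralizer ({c} : Set G) := sup_le
    (fun a ha => mem_centralizer_singleton_iff.mpr (mem_centralizer_iff.mp hc.1 a ha))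
    (fun b hb => mem_centralizer_singleton_iff.mpr (mem_centralizer_iff.mp hc.2 b hb))
  exact mem_centralizer_iff.mpr fun x hx => mem_centralizer_singleton_iff.mp (h hx)

/-- The indices of fixed spaces multiply. -/
theorem card_fix_sup {ι : Type*} [DecidableEq ι] (A : VHyp p V P) (g : ι → Subgroup G) (s : Finset ι)
    (h : ∀ l ∈ s, Nat.card V ≤ Nat.card ↥(g l) * Nat.card ↥(V ⊓ centralizer ((g l : Subgroup G) : Set G))) :
    Nat.card V ≤ (∏ l ∈ s, Nat.card ↥(g l)) *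
      Nat.card ↥(V ⊓ centralizer ((⨆ l ∈ s, g l : Subgroup G) : Set G)) := by
  induction s using Finset.induction_on with
  | empty =>
    rw [Finset.prod_empty, one_mul]
    refine card_le_of_le (le_inf le_rfl fun v _ => mem_centralizer_iff.mpr fun b hb => ?_)
    have : b = 1 := by simpa using hb
    rw [this, one_mul, mul_one]
  | insert a s ha ih =>
    have h1 := ih fun l hl => h l (Finset.mem_insert_of_mem hl)
    have h2 := h a (Finset.mem_insert_self a s)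
    rw [Finset.prod_insert ha, Finset.iSup_insert]
    obtain ⟨X, hX⟩ : ∃ X, X = V ⊓ centralizer ((g a : Subgroup G) : Set G) := ⟨_, rfl⟩
    obtain ⟨Y, hY⟩ : ∃ Y, Y = V ⊓ centralizer ((⨆ l ∈ s, g l : Subgroup G) : Set G) := ⟨_, rfl⟩
    rw [← hX] at h2
    rw [← hY] at h1
    have hXV : X ≤ V := hX.le.trans inf_le_left
    have hYV : Y ≤ V := hY.le.trans inf_le_left
    have e := card_split A hXV hYV
    have hle : X ⊓ Y ≤ V ⊓ centralizer ((g a ⊔ ⨆ l ∈ s, g l : Subgroup G) : Set G) :=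
      le_inf (inf_le_left.trans hXV) (le_trans
        (inf_le_inf (hX.le.trans inf_le_right) (hY.le.trans inf_le_right)) centralizer_sup_ge)
    refine Nat.le_of_mul_le_mul_left ?_ (Nat.card_pos : 0 < Nat.card V)
    calc Nat.card V * Nat.card V
        ≤ (Nat.card ↥(g a) * Nat.card X) * ((∏ l ∈ s, Nat.card ↥(g l)) * Nat.card Y) := Nat.mul_le_mul h2 h1
      _ = Nat.card ↥(g a) * (∏ l ∈ s, Nat.card ↥(g l)) * (Nat.card X * Nat.card Y) := by ring
      _ ≤ Nat.card ↥(g a) * (∏ l ∈ s, Nat.card ↥(g l)) *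
          (Nat.card V * Nat.card ↥(V ⊓ centralizer ((g a ⊔ ⨆ l ∈ s, g l : Subgroup G) : Set G))) := by
          rw [← e]
          exact Nat.mul_le_mul_left _ (Nat.mul_le_mul (card_le_of_le (sup_le hXV hYV)) (card_le_of_le hle))
      _ = _ := by ring

/-- Conjugation carries members to members. -/
theorem member_cj (A : VHyp p V P) {g : G} (hg : g ∈ P) {X : Subgroup G} (hX : Member p V P X) :
    Member p V P (cj g X) := by
  have hcV : cj g V = V := eq_of_le_of_card_ge (RootPair.cj_le.mpr (A.norm g hg)) (card_cj g V).ge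
  have hfix : ∀ Y : Subgroup G, cj g (V ⊓ centralizer (Y : Set G)) = V ⊓ centralizer ((cj g Y : Subgroup G) : Set G) := by
    intro Y
    ext w
    rw [mem_cj, RootPair.mem_fix, RootPair.mem_fix]
    constructor
    · rintro ⟨hw, h⟩
      refine ⟨hcV.le (mem_cj.mpr hw), fun a ha => ?_⟩
      have := h _ (mem_cj.mp ha)
      exact mul_left_cancel (mul_right_cancel ((by group :
        g⁻¹ * (a * w * a⁻¹) * g = g⁻¹ * a * g * (g⁻¹ * w * g) * (g⁻¹ * a * g)⁻¹).trans this))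
    · rintro ⟨hw, h⟩
      refine ⟨by simpa using A.norm g⁻¹ (inv_mem hg) w hw, fun a ha => ?_⟩
      calc a * (g⁻¹ * w * g) * a⁻¹ = g⁻¹ * ((g * a * g⁻¹) * w * (g * a * g⁻¹)⁻¹) * g := by group
        _ = _ := by rw [h _ (conj_mem_cj g ha)]
  have hmeas : ∀ Y : Subgroup G, meas V (cj g Y) = meas V Y := fun Y => by
    rw [meas, meas, ← hfix, card_cj, card_cj]
  refine ⟨RootPair.cj_le.mpr fun a ha => mul_mem (mul_mem hg (hX.le ha)) (inv_mem hg), fun e => hX.ne ?_,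
    hX.pg.map _, fun a ha b hb => ?_, by rw [hmeas]; exact hX.meas_ge, fun Y hY h1 h2 => ?_⟩
  · exact RootPair.cj_inj g (e.trans (Subgroup.map_bot _).symm)
  · have := hX.comm _ (mem_cj.mp ha) _ (mem_cj.mp hb)
    exact mul_left_cancel (mul_right_cancel ((by group :
      g⁻¹ * (a * b) * g = g⁻¹ * a * g * (g⁻¹ * b * g)).trans (this.trans (by group))))
  · have e : Y = cj g (cj g⁻¹ Y) := by rw [cj_cj, mul_inv_cancel, cj_one]
    have := hX.strict _ (cj_inv_le hY) (fun e' => h1 (by rw [e, e']; exact Subgroup.map_bot _))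
      fun e' => h2 (by rw [← e', cj_cj, mul_inv_cancel, cj_one])
    rwa [← hmeas (cj g⁻¹ Y), ← e, ← hmeas X] at this

variable (D : Sec p V P T M V0 U C0) (L : Link V0 U P C0 T f W Γ S) (H : PHyp p P T M) (A : VHyp p V P)
  (C : Sit p W Γ S M') (B : Blk p W Γ S r E) {X0 : Subgroup G} (hX0 : Member p V P X0) (hX0T : X0 ≤ T)
include D L H A C B hX0 hX0T

theorem Link.injective {a b : G} (ha : a ∈ P) (hb : b ∈ P) (h : f a = f b) : a = b := by
  have h1 := (L.kerP _ (mul_mem (inv_mem ha) hb)).mp ((L.eq_iff (mem_sup_right ha) (mem_sup_right hb)).mp h)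
  rw [L.kernel_trivial D H A C B hX0 hX0T, mem_bot, inv_mul_eq_one] at h1
  exact h1

/-- Preimage in `P` of a subgroup of the image. -/
theorem Link.exists_lift {Y : Subgroup Q} (hY : Y ≤ Γ) :
    ∃ X : Subgroup G, (∀ x, x ∈ X ↔ x ∈ P ∧ f x ∈ Y) ∧ X ≤ P ∧ im f X = Y ∧ Nat.card X = Nat.card Y := by
  obtain ⟨X, hX⟩ := L.exists_pre (X := P) le_sup_right Y
  have hXP : X ≤ P := fun x hx => ((hX x).mp hx).1
  have him : im f X = Y := L.im_pre le_sup_right hX (L.im_P.symm ▸ hY)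
  refine ⟨X, hX, hXP, him, ?_⟩
  have h := L.card_im (K := C0) (hXP.trans le_sup_right) fun x hx => L.kerP x (hXP hx)
  rw [L.kernel_trivial D H A C B hX0 hX0T, inf_bot_eq, card_bot, mul_one, him] at h
  exact h.symm

/-- Every member of the section lifts to a member. -/
theorem Link.member_lift {Y : Subgroup Q} (hY : Member p W Γ Y) {X : Subgroup G}
    (hX : ∀ x, x ∈ X ↔ x ∈ P ∧ f x ∈ Y) : Member p V P X ∧ im f X = Y ∧ (Y ≤ S → X ≤ T) := by
  have hm := L.member_image D H A C B hX0 hX0T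
  obtain ⟨q, hq, hqY⟩ := B.conj _ _ hm hY
  obtain ⟨g, hg, rfl⟩ := (L.memΓ q).mp hq
  rw [← L.im_cj (mem_sup_right hg) (hX0.le.trans le_sup_right)] at hqY
  have hcj := member_cj A hg hX0
  have e : X = cj g X0 := by
    ext x
    rw [hX]
    refine ⟨fun ⟨hx, hfx⟩ => ?_, fun hx => ⟨hcj.le hx, hqY ▸ mem_im_of hx⟩⟩
    obtain ⟨z, hz, hzx⟩ := (L.mem_im (hcj.le.trans le_sup_right)).mp (hqY.ge hfx)
    rwa [← L.injective D H A C B hX0 hX0T (hcj.le hz) hx hzx]
  refine ⟨e ▸ hcj, e ▸ hqY, fun hYS x hx => ?_⟩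
  obtain ⟨t, ht, htx⟩ := (L.memS _).mp (hYS ((hX x).mp hx).2)
  rwa [← L.injective D H A C B hX0 hX0T (H.syl.1 ht) ((hX x).mp hx).1 htx]

/-- The fixed points and the commutator space of a block. -/
theorem Link.block_exact (i : Fin r) {Ei : Subgroup G} (hEi : ∀ x, x ∈ Ei ↔ x ∈ P ∧ f x ∈ E i) :
    V ≤ V0 ⊔ (V ⊓ centralizer (Ei : Set G)) ∧
      (∀ v ∈ V0, f v ∈ centralizer ((E i : Subgroup Q) : Set Q) → v ∈ centralizer (Ei : Set G)) ∧
      ⁅V, Ei⁆ ≤ V0 ∧ im f ⁅V, Ei⁆ = ⁅E i, W⁆ ∧ V ≤ ⁅V, Ei⁆ ⊔ (V ⊓ centralizer (Ei : Set G)) := by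
  classical
  obtain ⟨k, g, hg, hgen, hcard⟩ := B.gens i
  have hEiP : Ei ≤ P := fun x hx => ((hEi x).mp hx).1
  have himE : im f Ei = E i := L.im_pre le_sup_right hEi (L.im_P.symm ▸ B.le i)
  choose X hX hXP himX hXc using fun l : Fin k => L.exists_lift D H A C B hX0 hX0T (hg l).1.le
  have hmem : ∀ l, Member p V P (X l) := fun l => (L.member_lift D H A C B hX0 hX0T (hg l).1 (hX l)).1
  have hgenV : Ei ≤ ⨆ l ∈ (Finset.univ : Finset (Fin k)), X l := by
    intro x hx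
    have hle : (⨆ l ∈ (Finset.univ : Finset (Fin k)), X l) ≤ P := iSup₂_le fun l _ => hXP l
    have h2 : (⨆ l, g l) ≤ im f (⨆ l ∈ (Finset.univ : Finset (Fin k)), X l) := iSup_le fun l => by
      rw [← himX l]
      exact L.im_mono (le_iSup₂ (f := fun l (_ : l ∈ (Finset.univ : Finset (Fin k))) => X l) l (Finset.mem_univ l))
    obtain ⟨z, hz, hzx⟩ := (L.mem_im (hle.trans le_sup_right)).mp (h2 (hgen ((hEi x).mp hx).2))
    rwa [← L.injective D H A C B hX0 hX0T (hle hz) ((hEi x).mp hx).1 hzx]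
  have hV : Nat.card V ≤ (∏ l, Nat.card ↥(g l)) * Nat.card ↥(V ⊓ centralizer (Ei : Set G)) := by
    refine (card_fix_sup A X Finset.univ fun l _ => (hmem l).meas_ge).trans ?_
    rw [Finset.prod_congr rfl fun l _ => hXc l]
    exact Nat.mul_le_mul_left _ (card_le_of_le (inf_le_inf le_rfl (centralizer_le (SetLike.coe_subset_coe.mpr hgenV))))
  obtain ⟨Z, hZ⟩ := L.exists_pre (X := V0) le_sup_left (centralizer ((E i : Subgroup Q) : Set Q))
  have hZV : Z ≤ V0 := fun z hz => ((hZ z).mp hz).1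
  have hfixle : V0 ⊓ centralizer (Ei : Set G) ≤ Z := fun z hz =>
    (hZ z).mpr ⟨hz.1, himE ▸ ((L.im_fix hEiP) (mem_im_of hz)).2⟩
  have hZc : (∏ l, Nat.card ↥(g l)) * Nat.card Z ≤ Nat.card V0 := by
    have e := L.card_im (X := Z) (K := U) (hZV.trans le_sup_left) fun z hz => L.kerV z (hZV hz)
    have e0 := L.card_im (X := V0) (K := U) le_sup_left fun x hx => L.kerV x hx
    rw [L.im_V0, inf_eq_right.mpr D.Ule] at e0
    rw [← e, ← e0, ← mul_assoc]
    refine Nat.mul_le_mul ((Nat.mul_le_mul_left _ (card_le_of_le ?_)).trans hcard) (card_le_of_le inf_le_right)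
    refine (closure_le _).mpr ?_
    rintro _ ⟨z, hz, rfl⟩
    exact mem_inf.mpr ⟨(L.memW _).mpr ⟨z, hZV hz, rfl⟩, ((hZ z).mp hz).2⟩
  have e := card_split A D.le (inf_le_left : V ⊓ centralizer (Ei : Set G) ≤ V)
  rw [← inf_assoc, inf_eq_left.mpr D.le] at e
  have hVV0 : Nat.card V0 ≤ (∏ l, Nat.card ↥(g l)) * Nat.card ↥(V0 ⊓ centralizer (Ei : Set G)) := by
    refine Nat.le_of_mul_le_mul_right ?_ (Nat.card_pos : 0 < Nat.card ↥(V ⊓ centralizer (Ei : Set G)))
    rw [← e]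
    calc Nat.card ↥(V0 ⊔ V ⊓ centralizer (Ei : Set G)) * Nat.card ↥(V0 ⊓ centralizer (Ei : Set G))
        ≤ ((∏ l, Nat.card ↥(g l)) * Nat.card ↥(V ⊓ centralizer (Ei : Set G))) *
            Nat.card ↥(V0 ⊓ centralizer (Ei : Set G)) :=
          Nat.mul_le_mul_right _ ((card_le_of_le (sup_le D.le inf_le_left)).trans hV)
      _ = _ := by ring
  have hpos : 0 < ∏ l, Nat.card ↥(g l) := Finset.prod_pos fun l _ => Nat.card_pos
  have hZfix : Z = V0 ⊓ centralizer (Ei : Set G) :=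
    (eq_of_le_of_card_ge hfixle (Nat.le_of_mul_le_mul_left (hZc.trans hVV0) hpos)).symm
  have hpre : ∀ v ∈ V0, f v ∈ centralizer ((E i : Subgroup Q) : Set Q) → v ∈ centralizer (Ei : Set G) :=
    fun v hv h => (hZfix.le ((hZ v).mpr ⟨hv, h⟩)).2
  have hfull : V ≤ V0 ⊔ (V ⊓ centralizer (Ei : Set G)) := by
    refine (eq_of_le_of_card_ge (sup_le D.le inf_le_left) ?_).ge
    refine Nat.le_of_mul_le_mul_right ?_ (Nat.card_pos : 0 < Nat.card ↥(V0 ⊓ centralizer (Ei : Set G)))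
    rw [e]
    calc Nat.card V * Nat.card ↥(V0 ⊓ centralizer (Ei : Set G))
        ≤ ((∏ l, Nat.card ↥(g l)) * Nat.card ↥(V ⊓ centralizer (Ei : Set G))) *
            Nat.card ↥(V0 ⊓ centralizer (Ei : Set G)) := Nat.mul_le_mul_right _ hV
      _ ≤ _ := by
          rw [← hZfix, mul_comm (∏ l, Nat.card ↥(g l)), mul_assoc, mul_comm (Nat.card V0)]
          exact Nat.mul_le_mul_left _ hZc
  have hcomm : ⁅V, Ei⁆ = ⁅Ei, V0⁆ := by
    rw [commutator_comm]
    refine le_antisymm (commutator_le.mpr fun x hx v hv => ?_) (commutator_mono le_rfl D.le)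
    obtain ⟨v0, hv0, z, hz, rfl⟩ := exists_mul_of_comm
      (fun a (ha : a ∈ V0) b (hb : b ∈ V ⊓ centralizer (Ei : Set G)) => A.vcomm a (D.le ha) b hb.1) (hfull hv)
    rw [show ⁅x, v0 * z⁆ = ⁅x, v0⁆ * (v0 * ⁅x, z⁆ * v0⁻¹) by simp only [commutatorElement_def]; group,
      commutatorElement_eq_one_iff_mul_comm.mpr (mem_centralizer_iff.mp hz.2 x hx), mul_one, mul_inv_cancel,
      mul_one]
    exact commutator_mem_commutator hx hv0
  have hle0 : ⁅V, Ei⁆ ≤ V0 :=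
    hcomm ▸ commutator_le.mpr fun x hx v hv => V0.mul_mem (D.inv x (hEiP hx) v hv) (V0.inv_mem hv)
  have himc : im f ⁅V, Ei⁆ = ⁅E i, W⁆ := by
    rw [hcomm, L.im_commutator (hEiP.trans le_sup_right) le_sup_left, himE, L.im_V0]
  refine ⟨hfull, hpre, hle0, himc, hfull.trans (sup_le (fun v hv => ?_) le_sup_right)⟩
  obtain ⟨a, ha, b, hb, hab⟩ := exists_mul_of_comm
    (fun a (ha : a ∈ ⁅E i, W⁆) b (hb : b ∈ W ⊓ centralizer ((E i : Subgroup Q) : Set Q)) => C.wcomm a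
      ((commutator_le.mpr fun x hx w hw => W.mul_mem (C.norm x (B.le i hx) w hw) (W.inv_mem hw) : ⁅E i, W⁆ ≤ W) ha)
      b hb.1) (B.full i ((L.memW _).mpr ⟨v, hv, rfl⟩))
  obtain ⟨c, hc, rfl⟩ := (L.mem_im (hle0.trans le_sup_left)).mp (himc.ge ha)
  rw [show v = c * (c⁻¹ * v) by group]
  refine mul_mem_sup hc (mem_inf.mpr ⟨D.le (V0.mul_mem (V0.inv_mem (hle0 hc)) hv), ?_⟩)
  refine hpre _ (V0.mul_mem (V0.inv_mem (hle0 hc)) hv) ?_
  rw [L.mul _ (mem_sup_left (V0.inv_mem (hle0 hc))) _ (mem_sup_left hv), L.inv _ (mem_sup_left (hle0 hc)), ← hab,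
    inv_mul_cancel_left]
  exact hb.2

/-- The action of a lifted block. -/
theorem Link.block_acts (i : Fin r) {Ei : Subgroup G} (hEi : ∀ x, x ∈ Ei ↔ x ∈ P ∧ f x ∈ E i) :
    Acts p V Ei := by
  obtain ⟨hfull, hpre, hle0, himc, hdec⟩ := L.block_exact D H A C B hX0 hX0T i hEi
  have hEiP : Ei ≤ P := fun x hx => ((hEi x).mp hx).1
  have himE : im f Ei = E i := L.im_pre le_sup_right hEi (L.im_P.symm ▸ B.le i)
  let θ : ↥Ei →* ↥(E i) :=
    { toFun := fun x => ⟨f x, ((hEi x).mp x.2).2⟩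
      map_one' := Subtype.ext (show f (1 : G) = 1 from L.one)
      map_mul' := fun a b => Subtype.ext (L.mul a (mem_sup_right (hEiP a.2)) b (mem_sup_right (hEiP b.2))) }
  have hθ : Function.Bijective θ := by
    refine ⟨fun a b h => Subtype.ext (L.injective D H A C B hX0 hX0T (hEiP a.2) (hEiP b.2) (congrArg Subtype.val h)),
      fun q => ?_⟩
    obtain ⟨x, hx, e⟩ := (L.mem_im (hEiP.trans le_sup_right)).mp (himE.ge q.2)
    exact ⟨⟨x, hx⟩, Subtype.ext e⟩
  have hUV : ⁅V, Ei⁆ ≤ V := hle0.trans D.le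
  have hnorm : Ei ≤ normalizer ((⁅V, Ei⁆ : Subgroup G) : Set G) := fun e he => norm_of_cj (by
    rw [cj, map_commutator]
    exact congrArg₂ (fun a b => ⁅a, b⁆) (eq_of_le_of_card_ge (RootPair.cj_le.mpr (A.norm e (hEiP he))) (card_cj e V).ge)
      (cj_eq_of_norm (le_normalizer he)))
  have hker : ∀ u : ↥⁅V, Ei⁆, (f (u : G) ∈ W ⊓ centralizer ((E i : Subgroup Q) : Set Q) ↔
      (u : G) ∈ ⁅V, Ei⁆ ⊓ centralizer (Ei : Set G)) := fun u =>
    ⟨fun h => ⟨u.2, hpre u (hle0 u.2) h.2⟩, fun h => himE ▸ L.im_fix hEiP (mem_im_of ⟨hle0 u.2, h.2⟩)⟩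
  have himW : ∀ u : ↥⁅V, Ei⁆, f (u : G) ∈ W := fun u => (L.memW _).mpr ⟨u, hle0 u.2, rfl⟩
  have hWc : ⁅E i, W⁆ ≤ W := commutator_le.mpr fun x hx w hw => W.mul_mem (C.norm x (B.le i hx) w hw) (W.inv_mem hw)
  obtain ⟨n, hn, hmod⟩ := B.model i
  refine ⟨n, hn, hmod.imp ?_ ?_⟩
  · rintro ⟨F, iF, fF, ρ, ψ, hF, hρ, hadd, hk, hsurj, hact⟩
    refine ⟨F, iF, fF, hF, ⟨MulEquiv.ofBijective (ρ.comp θ) (hρ.comp hθ)⟩, hnorm, inf_le_left, ρ.comp θ,
      { toFun := fun u => Multiplicative.ofAdd (ψ (f u))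
        map_one' := by
          have h := hadd 1 (one_mem _) 1 (one_mem _)
          rw [one_mul] at h
          rw [OneMemClass.coe_one, L.one, show ψ 1 = 0 from add_eq_left.mp h.symm]; rfl
        map_mul' := fun a b => by
          rw [coe_mul, L.mul _ (mem_sup_left (hle0 a.2)) _ (mem_sup_left (hle0 b.2)), hadd _ (himW a) _ (himW b),
            ofAdd_add] }, MonoidHom.range_eq_top.mpr (hρ.comp hθ).2, fun y => ?_, fun u => ?_, fun e u => ?_⟩
    · obtain ⟨w, hw, hwy⟩ := hsurj (Multiplicative.toAdd y)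
      obtain ⟨a, ha, b, hb, rfl⟩ := exists_mul_of_comm
        (fun a (ha : a ∈ ⁅E i, W⁆) b (hb : b ∈ W ⊓ centralizer ((E i : Subgroup Q) : Set Q)) =>
          C.wcomm a (hWc ha) b hb.1) (B.full i hw)
      obtain ⟨c, hc, rfl⟩ := (L.mem_im (hle0.trans le_sup_left)).mp (himc.ge ha)
      refine ⟨⟨c, hc⟩, ?_⟩
      rw [hadd _ (hWc ha) _ hb.1, (hk b hb.1).mpr hb, add_zero] at hwy
      show Multiplicative.ofAdd (ψ (f c)) = y
      rw [hwy, ofAdd_toAdd]
    · show Multiplicative.ofAdd (ψ (f (u : G))) = 1 ↔ _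
      rw [← hker u, ← hk _ (himW u)]
      exact ⟨fun h => Multiplicative.ofAdd.injective h, fun h => by rw [h]; rfl⟩
    · refine ⟨⟨_, (mem_normalizer_iff.mp (hnorm e.2) _).mp u.2⟩, rfl, ?_⟩
      show ψ (f ((e : G) * u * (e : G)⁻¹)) = _ *ᵥ ψ (f u)
      rw [L.conj (mem_sup_right (hEiP e.2)) (mem_sup_left (hle0 u.2))]
      exact hact (θ e) _ (himW u)
  · rintro ⟨hp2, ρ, ψ, hρ, hadd, hsum, hk, hsurj, hact⟩
    refine ⟨hp2, ⟨MulEquiv.ofBijective (ρ.comp θ) (hρ.comp hθ)⟩, hnorm, inf_le_left, ρ.comp θ,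
      { toFun := fun u => Multiplicative.ofAdd (ψ (f u))
        map_one' := by
          have h := hadd 1 (one_mem _) 1 (one_mem _)
          rw [one_mul] at h
          rw [OneMemClass.coe_one, L.one, show ψ 1 = 0 from add_eq_left.mp h.symm]; rfl
        map_mul' := fun a b => by
          rw [coe_mul, L.mul _ (mem_sup_left (hle0 a.2)) _ (mem_sup_left (hle0 b.2)), hadd _ (himW a) _ (himW b),
            ofAdd_add] }, MonoidHom.range_eq_top.mpr (hρ.comp hθ).2, fun u => hsum _ (himW u), fun y hy => ?_,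
      fun u => ?_, fun e u => ?_⟩
    · obtain ⟨w, hw, hwy⟩ := hsurj y hy
      obtain ⟨a, ha, b, hb, rfl⟩ := exists_mul_of_comm
        (fun a (ha : a ∈ ⁅E i, W⁆) b (hb : b ∈ W ⊓ centralizer ((E i : Subgroup Q) : Set Q)) =>
          C.wcomm a (hWc ha) b hb.1) (B.full i hw)
      obtain ⟨c, hc, rfl⟩ := (L.mem_im (hle0.trans le_sup_left)).mp (himc.ge ha)
      refine ⟨⟨c, hc⟩, ?_⟩
      rw [hadd _ (hWc ha) _ hb.1, (hk b hb.1).mpr hb, add_zero] at hwy
      exact hwy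
    · show Multiplicative.ofAdd (ψ (f (u : G))) = 1 ↔ _
      rw [← hker u, ← hk _ (himW u)]
      exact ⟨fun h => Multiplicative.ofAdd.injective h, fun h => by rw [h]; rfl⟩
    · refine ⟨⟨_, (mem_normalizer_iff.mp (hnorm e.2) _).mp u.2⟩, rfl, fun j => ?_⟩
      show ψ (f ((e : G) * u * (e : G)⁻¹)) j = ψ (f u) _
      rw [L.conj (mem_sup_right (hEiP e.2)) (mem_sup_left (hle0 u.2))]
      exact hact (θ e) _ (himW u) j

/-- The blocks of the section lift. -/
theorem Link.vblk : ∃ F : Fin r → Subgroup G, (∀ i x, x ∈ F i ↔ x ∈ P ∧ f x ∈ E i) ∧ VBlk p V P T r F := by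
  classical
  choose F hF hFP himF hFc using fun i => L.exists_lift D H A C B hX0 hX0T (B.le i)
  have hex := fun i => L.block_exact D H A C B hX0 hX0T i (hF i)
  have hinj := fun {a b : G} => L.injective D H A C B hX0 hX0T (a := a) (b := b)
  have hsupP : (⨆ i, F i) ≤ P := iSup_le hFP
  have himsup : (⨆ i, E i) ≤ im f (⨆ i, F i) := iSup_le fun i => (himF i).ge.trans (L.im_mono (le_iSup F i))
  have hfixj : ∀ i j, i ≠ j → ⁅V, F i⁆ ≤ V ⊓ centralizer ((F j : Subgroup G) : Set G) := by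
    intro i j hij v hv
    obtain ⟨-, -, hle0, himc, -⟩ := hex i
    refine mem_inf.mpr ⟨D.le (hle0 hv), (hex j).2.1 v (hle0 hv) ?_⟩
    exact ((commutator_le.mpr fun l hl w hw => B.fix i j hij l hl w hw :
      ⁅E i, W⁆ ≤ W ⊓ centralizer ((E j : Subgroup Q) : Set Q)) (himc.le (mem_im_of hv))).2
  have hperm : ∀ t ∈ T, ∀ i j, cj (f t) (E i) = E j → cj t (F i) = F j := by
    intro t ht i j hsE
    have hcj : cj t (F i) ≤ P := RootPair.cj_le.mpr fun x hx =>
      mul_mem (mul_mem (H.syl.1 ht) (hFP i hx)) (inv_mem (H.syl.1 ht))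
    have he : im f (cj t (F i)) = E j := by
      rw [L.im_cj (mem_sup_right (H.syl.1 ht)) ((hFP i).trans le_sup_right), himF i, hsE]
    ext x
    rw [hF j x]
    refine ⟨fun hx => ⟨hcj hx, he ▸ mem_im_of hx⟩, fun ⟨hx, hfx⟩ => ?_⟩
    obtain ⟨z, hz, hzx⟩ := (L.mem_im (hcj.trans le_sup_right)).mp (he.ge hfx)
    rwa [← hinj (hcj hz) hx hzx]
  refine ⟨F, hF, ⟨B.pos, hFP, fun i j hij => ?_, fun i => ?_, le_antisymm (sup_le hsupP H.syl.1) fun g hg => ?_,
    fun i j => ?_, ?_, fun i j hij => ?_, fun i => L.block_acts D H A C B hX0 hX0T i (hF i),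
    fun X hXT hXc hX => ?_, fun t ht i => ?_, fun N hNP hNn ⟨X, hXT, hX1, hXN, hXc, hX⟩ i => ?_⟩⟩
  · refine eq_bot_iff.mpr (commutator_le.mpr fun a ha b hb => mem_bot.mpr (hinj ?_ (one_mem _) ?_))
    · exact mul_mem (mul_mem (mul_mem (hFP i ha) (hFP j hb)) (inv_mem (hFP i ha))) (inv_mem (hFP j hb))
    · rw [L.comm (mem_sup_right (hFP i ha)) (mem_sup_right (hFP j hb)), L.one,
        commutatorElement_eq_one_iff_mul_comm]
      exact B.comm i j hij _ ((hF i a).mp ha).2 _ ((hF j b).mp hb).2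
  · refine eq_bot_iff.mpr fun z hz => ?_
    rw [← A.faith]
    obtain ⟨hz1, hz2⟩ := mem_inf.mp hz
    refine mem_inf.mpr ⟨hFP i hz1, ?_⟩
    have hc : (⨆ j ∈ {j | j ≠ i}, F j) ≤ centralizer ((⁅V, F i⁆ : Subgroup G) : Set G) :=
      iSup₂_le fun j hj a ha => mem_centralizer_iff.mpr fun v hv =>
        (mem_centralizer_iff.mp (hfixj i j (Ne.symm hj) hv).2 a ha).symm
    have hV : V ≤ centralizer ({z} : Set G) := (hex i).2.2.2.2.trans (sup_le
      (fun v hv => mem_centralizer_singleton_iff.mpr (mem_centralizer_iff.mp (hc hz2) v hv))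
      fun v hv => mem_centralizer_singleton_iff.mpr (mem_centralizer_iff.mp hv.2 z hz1).symm)
    exact mem_centralizer_iff.mpr fun v hv => mem_centralizer_singleton_iff.mp (hV hv)
  · have h2 : Γ ≤ im f ((⨆ i, F i) ⊔ T) := by
      rw [L.im_sup (hsupP.trans le_sup_right) (H.syl.1.trans le_sup_right), L.im_T H.syl.1]
      exact B.sup.trans (sup_le_sup_right himsup _)
    have hle : (⨆ i, F i) ⊔ T ≤ P := sup_le hsupP H.syl.1
    obtain ⟨z, hz, hzx⟩ := (L.mem_im (hle.trans le_sup_right)).mp (h2 ((L.memΓ _).mpr ⟨g, hg, rfl⟩))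
    rwa [← hinj (hle hz) hg hzx]
  · obtain ⟨s, hs, hsE⟩ := B.trans i j
    obtain ⟨t, ht, rfl⟩ := (L.memS s).mp hs
    exact ⟨t, ht, hperm t ht i j hsE⟩
  · refine le_antisymm (sup_le inf_le_left (iSup_le fun i => (hex i).2.2.1.trans D.le)) ?_
    have key : ∀ s : Finset (Fin r),
        V ≤ (⨆ i ∈ s, ⁅V, F i⁆) ⊔ (V ⊓ centralizer ((⨆ i ∈ s, F i : Subgroup G) : Set G)) := by
      intro s
      induction s using Finset.induction_on with
      | empty =>
        refine le_sup_of_le_right (le_inf le_rfl fun v _ => mem_centralizer_iff.mpr fun b hb => ?_)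
        have : b = 1 := by simpa using hb
        rw [this, one_mul, mul_one]
      | insert a s ha ih =>
        have hsU : (⨆ i ∈ s, ⁅V, F i⁆) ≤ ⨆ i ∈ insert a s, ⁅V, F i⁆ :=
          iSup₂_le fun i hi => le_iSup₂ (f := fun i (_ : i ∈ insert a s) => ⁅V, F i⁆) i (Finset.mem_insert_of_mem hi)
        refine ih.trans (sup_le (hsU.trans le_sup_left) fun z hz => ?_)
        obtain ⟨y, hy, z', hz', e⟩ := exists_mul_of_comm
          (fun a' (ha' : a' ∈ ⁅V, F a⁆) b (hb : b ∈ V ⊓ centralizer ((F a : Subgroup G) : Set G)) =>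
            A.vcomm a' (D.le ((hex a).2.2.1 ha')) b hb.1) ((hex a).2.2.2.2 hz.1)
        rw [← e]
        refine mul_mem_sup
          (le_iSup₂ (f := fun i (_ : i ∈ insert a s) => ⁅V, F i⁆) a (Finset.mem_insert_self a s) hy)
          (mem_inf.mpr ⟨hz'.1, ?_⟩)
        rw [Finset.iSup_insert]
        refine centralizer_sup_ge (mem_inf.mpr ⟨hz'.2, ?_⟩)
        have hyc : y ∈ centralizer ((⨆ i ∈ s, F i : Subgroup G) : Set G) := by
          have hle : (⨆ i ∈ s, F i) ≤ centralizer ({y} : Set G) := iSup₂_le fun i hi b hb =>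
            mem_centralizer_singleton_iff.mpr (mem_centralizer_iff.mp
              (hfixj a i (fun h => ha (h ▸ hi)) hy).2 b hb)
          exact mem_centralizer_iff.mpr fun b hb => mem_centralizer_singleton_iff.mp (hle hb)
        rw [show z' = y⁻¹ * z by rw [← e]; group]
        exact Subgroup.mul_mem _ (Subgroup.inv_mem _ hyc) hz.2
    refine (key Finset.univ).trans (sup_le (le_sup_of_le_right (iSup₂_le fun i _ => le_iSup (fun i => ⁅V, F i⁆) i))
      (le_sup_of_le_left (inf_le_inf le_rfl (centralizer_le (SetLike.coe_subset_coe.mpr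
        (iSup_le fun i => le_iSup₂ (f := fun i (_ : i ∈ (Finset.univ : Finset (Fin r))) => F i) i (Finset.mem_univ i)))))))
  · exact eq_bot_iff.mpr (commutator_le.mpr fun v hv b hb => mem_bot.mpr
      (commutatorElement_eq_one_iff_mul_comm.mpr (mem_centralizer_iff.mp (hfixj i j hij hv).2 b hb).symm))
  · have hXP : X ≤ P := hXT.trans H.syl.1
    have hoff := L.image_offender D A hXP (H.syl.2.1.to_le hXT) hX
    have hXS : im f X ≤ S := (L.im_mono hXT).trans (L.im_T H.syl.1).le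
    have hXX : X ≤ V0 ⊔ P := hXP.trans le_sup_right
    have h := (B.le_sup C.wcomm C.norm C.syl.1 C.syl.2.1 _ hXS (fun a ha b hb => by
      obtain ⟨x, hx, rfl⟩ := (L.mem_im hXX).mp ha
      obtain ⟨y, hy, rfl⟩ := (L.mem_im hXX).mp hb
      rw [← L.mul x (hXX hx) y (hXX hy), ← L.mul y (hXX hy) x (hXX hx), hXc x hx y hy]) hoff).trans himsup
    intro x hx
    obtain ⟨z, hz, hzx⟩ := (L.mem_im (hsupP.trans le_sup_right)).mp (h (mem_im_of hx))
    rwa [← hinj (hsupP hz) (hXP hx) hzx]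
  · obtain ⟨j, hj⟩ := B.perm (f t) ((L.memS _).mpr ⟨t, ht, rfl⟩) i
    exact ⟨j, hperm t ht i j hj⟩
  · have hXP : X ≤ P := hXT.trans H.syl.1
    obtain ⟨Y, hYX, hY⟩ := exists_member (W := V) (Γ := P) hXP hX1 (H.syl.2.1.to_le hXT) hXc hX
    have hYT : Y ≤ T := hYX.trans hXT
    have hm := L.member_image D H A C B hY hYT
    obtain ⟨k, g, hg, hgen, -⟩ := B.gens i
    have hgN : ∀ l, g l ≤ im f N := fun l => by
      obtain ⟨q, hq, hqY⟩ := B.conj _ _ hm (hg l).1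
      obtain ⟨a, ha, rfl⟩ := (L.memΓ q).mp hq
      rw [← hqY, ← L.im_cj (mem_sup_right ha) (hY.le.trans le_sup_right)]
      exact L.im_mono (RootPair.cj_le.mpr fun y hy => hNn a ha y (hXN (hYX hy)))
    intro x hx
    obtain ⟨z, hz, hzx⟩ := (L.mem_im (hNP.trans le_sup_right)).mp ((hgen.trans (iSup_le hgN)) ((hF i x).mp hx).2)
    rwa [← hinj (hNP hz) (hFP i hx) hzx]

end Cfsg.Agent.Fus.MinModule
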