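import Cfsg.Agent.Lib.Fus.PMinFF.LinkBasic

/-!
# A minimal offender on the module is one on the section

A member for `V` in the Sylow subgroup maps onto a member of the section and acts only inside the minimal invariant
subgroup; hence the map of `P` onto its image is injective.
-/

set_option autoImplicit false
set_option linter.unusedSectionVars false
set_option linter.style.haveILetI false

open scoped commutatorElement

namespace Cfsg.Agent.Fus.MinModule

open Subgroup Cfsg.Agent.Grp Cfsg.Agent.Grp.OffenderSL2 Cfsg.Agent.Fus.RootPair Cfsg.Agent.Fus.FFBlocks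

universe u

variable {G Q : Type u} [Group G] [Group Q] [Finite G] [Finite Q] {p : ℕ} [Fact p.Prime]
  {V P T M V0 U C0 : Subgroup G} {f : G → Q} {W Γ S M' : Subgroup Q} {r : ℕ} {E : Fin r → Subgroup Q}

/-- A `p`-subgroup meets the kernel trivially. -/
theorem Sec.inf_eq_bot (D : Sec p V P T M V0 U C0) {X : Subgroup G} (hX : IsPGroup p X) : X ⊓ C0 = ⊥ := by
  refine eq_bot_iff.mpr fun x hx => ?_
  obtain ⟨k, hk⟩ := hX ⟨x, hx.1⟩
  exact mem_bot.mpr (coprime_pgroup_eq_one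
    (Nat.Coprime.coprime_dvd_left (orderOf_dvd_natCard C0 hx.2) D.Ccop) (congrArg Subtype.val hk))

variable (D : Sec p V P T M V0 U C0) (L : Link V0 U P C0 T f W Γ S)
include D L

theorem Link.inj_on {X : Subgroup G} (hXP : X ≤ P) (hX : IsPGroup p X) {a : G} (ha : a ∈ X) (h : f a = 1) : a = 1 :=
  mem_bot.mp ((D.inf_eq_bot hX).le (mem_inf.mpr ⟨ha, (L.kerP a (hXP ha)).mp h⟩))

theorem Link.card_im_pgroup {X : Subgroup G} (hXP : X ≤ P) (hX : IsPGroup p X) :
    Nat.card ↥(im f X) = Nat.card X := by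
  have h := L.card_im (K := C0) (hXP.trans le_sup_right) fun x hx => L.kerP x (hXP hx)
  rwa [D.inf_eq_bot hX, card_bot, mul_one] at h

omit D L in
/-- The product formula inside the module. -/
theorem card_split (A : VHyp p V P) {H K : Subgroup G} (hH : H ≤ V) (hK : K ≤ V) :
    Nat.card ↥(H ⊔ K) * Nat.card ↥(H ⊓ K) = Nat.card H * Nat.card K :=
  Grp.card_sup_mul_card_inf fun h hh => centralizer_le_normalizer _
    (mem_centralizer_iff.mpr fun k hk => A.vcomm k (hK hk) h (hH hh))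

/-- The counting along the section. -/
theorem Link.offender (A : VHyp p V P) {X : Subgroup G} (hX : X ≤ P)
    (hv : Nat.card V ≤ Nat.card X * Nat.card ↥(V ⊓ centralizer (X : Set G))) :
    Nat.card V0 ≤ Nat.card X * Nat.card ↥(V0 ⊓ centralizer (X : Set G)) ∧
      Nat.card ↥(V0 ⊓ centralizer (X : Set G)) ≤
        Nat.card ↥(W ⊓ centralizer ((im f X : Subgroup Q) : Set Q)) * Nat.card U ∧
      Nat.card V0 = Nat.card W * Nat.card U := by
  refine ⟨?_, ?_, ?_⟩
  · obtain ⟨C, hC⟩ : ∃ C, C = V ⊓ centralizer (X : Set G) := ⟨_, rfl⟩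
    have e := card_split A D.le (hC.le.trans inf_le_left)
    have hinf : V0 ⊓ C = V0 ⊓ centralizer (X : Set G) := by
      rw [hC, ← inf_assoc, inf_eq_left.mpr D.le]
    rw [hinf] at e
    rw [← hC] at hv
    refine Nat.le_of_mul_le_mul_right ?_ (Nat.card_pos : 0 < Nat.card C)
    calc Nat.card V0 * Nat.card C = Nat.card ↥(V0 ⊔ C) * Nat.card ↥(V0 ⊓ centralizer (X : Set G)) := e.symm
      _ ≤ Nat.card V * Nat.card ↥(V0 ⊓ centralizer (X : Set G)) :=
          Nat.mul_le_mul_right _ (card_le_of_le (sup_le D.le (hC.le.trans inf_le_left)))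
      _ ≤ (Nat.card X * Nat.card C) * Nat.card ↥(V0 ⊓ centralizer (X : Set G)) := Nat.mul_le_mul_right _ hv
      _ = _ := by ring
  · have h := L.card_im (X := V0 ⊓ centralizer (X : Set G)) (K := U) (inf_le_left.trans le_sup_left)
      fun x hx => L.kerV x hx.1
    rw [← h]
    exact Nat.mul_le_mul (card_le_of_le (L.im_fix hX)) (card_le_of_le inf_le_right)
  · have h := L.card_im (X := V0) (K := U) le_sup_left fun x hx => L.kerV x hx
    rw [L.im_V0, inf_eq_right.mpr D.Ule] at h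
    exact h.symm

theorem Link.image_offender (A : VHyp p V P) {X : Subgroup G} (hX : X ≤ P) (hXp : IsPGroup p X)
    (hv : Nat.card V ≤ Nat.card X * Nat.card ↥(V ⊓ centralizer (X : Set G))) :
    Nat.card W ≤ meas W (im f X) := by
  obtain ⟨h1, h2, h3⟩ := L.offender D A hX hv
  rw [meas, L.card_im_pgroup D hX hXp]
  refine Nat.le_of_mul_le_mul_right ?_ (Nat.card_pos : 0 < Nat.card U)
  calc Nat.card W * Nat.card U = Nat.card V0 := h3.symm
    _ ≤ _ := h1.trans (Nat.mul_le_mul_left _ h2)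
    _ = _ := by ring

/-- An element commuting with `X` in the image lifts to one commuting with `X`. -/
theorem Link.exists_comm_lift {X : Subgroup G} (hXP : X ≤ P) (hX : IsPGroup p X) {q : Q} (hq : q ∈ Γ)
    (hc : ∀ a ∈ X, f a * q = q * f a) : ∃ x ∈ P, f x = q ∧ ∀ a ∈ X, x * a = a * x := by
  obtain ⟨x, hx, rfl⟩ := (L.memΓ q).mp hq
  obtain ⟨K, hK⟩ : ∃ K, K = C0 ⊔ X := ⟨_, rfl⟩
  have hKP : K ≤ P := hK ▸ sup_le D.CP hXP
  have hnX : X ≤ normalizer (C0 : Set G) := fun a ha => norm_of_cj (eq_of_le_of_card_ge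
    (RootPair.cj_le.mpr fun c hc' => D.Cinv a (hXP ha) c hc') (card_cj _ _).ge)
  have hXK : X ≤ K := hK ▸ le_sup_right
  have hsyl : Grp.IsSylowIn p X K := by
    refine ⟨hXK, hX, fun h => ?_⟩
    have e := Grp.card_sup_mul_card_inf (H := X) (N := C0) hnX
    rw [sup_comm, ← hK, D.inf_eq_bot hX, card_bot, mul_one] at e
    have e2 := relIndex_mul_relIndex ⊥ X K bot_le hXK
    rw [relIndex_bot_left, relIndex_bot_left, e] at e2
    rw [Nat.eq_of_mul_eq_mul_left Nat.card_pos e2] at h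
    exact (Nat.Prime.coprime_iff_not_dvd Fact.out).mp (Nat.coprime_comm.mp D.Ccop) h
  have hkey : ∀ a ∈ X, ⁅x, a⁆ ∈ C0 := fun a ha => by
    refine (L.kerP _ (mul_mem (mul_mem (mul_mem hx (hXP ha)) (inv_mem hx)) (inv_mem (hXP ha)))).mp ?_
    rw [← commutatorElement_def, L.comm (mem_sup_right hx) (mem_sup_right (hXP ha)),
      commutatorElement_eq_one_iff_mul_comm]
    exact (hc a ha).symm
  have hcj : cj x X ≤ K := RootPair.cj_le.mpr fun a ha => by
    rw [show x * a * x⁻¹ = ⁅x, a⁆ * a by rw [commutatorElement_def]; group]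
    exact hK ▸ mul_mem_sup (hkey a ha) ha
  have hsyl2 : Grp.IsSylowIn p (cj x X) K := by
    refine ⟨hcj, hX.map _, ?_⟩
    have e1 := relIndex_mul_relIndex ⊥ (cj x X) K bot_le hcj
    have e2 := relIndex_mul_relIndex ⊥ X K bot_le hXK
    rw [relIndex_bot_left, relIndex_bot_left, card_cj] at e1
    rw [relIndex_bot_left, relIndex_bot_left, ← e1] at e2
    rw [← Nat.eq_of_mul_eq_mul_left Nat.card_pos e2]
    exact hsyl.2.2
  obtain ⟨k, hk, he⟩ := hsyl.conj hsyl2
  rw [← map_conj_eq_smul] at he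
  obtain ⟨a0, ha0, c0, hc0, e0⟩ : ∃ a ∈ X, ∃ c ∈ C0, c * a = k := by
    have h1 : k ∈ ((C0 ⊔ X : Subgroup G) : Set G) := hK ▸ hk
    rw [coe_mul_of_right_le_normalizer_left C0 X hnX] at h1
    obtain ⟨c, hc', a, ha, e⟩ := h1
    exact ⟨a, ha, c, hc', e⟩
  have hy : cj (c0⁻¹ * x) X = X := by
    rw [← cj_cj, show cj x X = cj k X from he.symm, cj_cj, ← e0, inv_mul_cancel_left]
    exact cj_eq_of_norm (le_normalizer ha0)
  have hyP : c0⁻¹ * x ∈ P := mul_mem (inv_mem (D.CP hc0)) hx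
  have hfy : f (c0⁻¹ * x) = f x := by
    rw [L.mul _ (mem_sup_right (inv_mem (D.CP hc0))) _ (mem_sup_right hx), L.inv _ (mem_sup_right (D.CP hc0)),
      (L.kerP _ (D.CP hc0)).mpr hc0, inv_one, one_mul]
  refine ⟨c0⁻¹ * x, hyP, hfy, fun a ha => ?_⟩
  have h2 : ⁅c0⁻¹ * x, a⁆ = 1 := L.inj_on D hXP hX
    (mul_mem (hy.le (conj_mem_cj _ ha)) (inv_mem ha)) (by
      rw [L.comm (mem_sup_right hyP) (mem_sup_right (hXP ha)), commutatorElement_eq_one_iff_mul_comm, hfy]
      exact (hc a ha).symm)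
  exact commutatorElement_eq_one_iff_mul_comm.mp h2

variable (H : PHyp p P T M) (A : VHyp p V P) (C : Sit p W Γ S M') (B : Blk p W Γ S r E)
include H A C B

/-- A member for `V` maps onto a member of the section. -/
theorem Link.member_image {X : Subgroup G} (hX : Member p V P X) (hXT : X ≤ T) : Member p W Γ (im f X) := by
  have hXP : X ≤ V0 ⊔ P := hX.le.trans le_sup_right
  have hoff := L.image_offender D A hX.le hX.pg hX.meas_ge
  have hne : im f X ≠ ⊥ := fun e => hX.ne (eq_bot_iff.mpr fun a ha =>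
    mem_bot.mpr (L.inj_on D hX.le hX.pg ha (mem_bot.mp (e.le (mem_im_of ha)))))
  have hcomm : ∀ a ∈ im f X, ∀ b ∈ im f X, a * b = b * a := by
    intro a ha b hb
    obtain ⟨x, hx, rfl⟩ := (L.mem_im hXP).mp ha
    obtain ⟨y, hy, rfl⟩ := (L.mem_im hXP).mp hb
    rw [← L.mul x (hXP hx) y (hXP hy), ← L.mul y (hXP hy) x (hXP hx), hX.comm x hx y hy]
  have hXS : im f X ≤ S := (L.im_mono hXT).trans (L.im_T H.syl.1).le
  obtain ⟨Y1, hY1le, hY1⟩ := exists_member (hXS.trans C.syl.1) hne (C.syl.2.1.to_le hXS) hcomm hoff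
  obtain ⟨A1, hA1⟩ := L.exists_pre hXP Y1
  have hA1X : A1 ≤ X := fun a ha => ((hA1 a).mp ha).1
  have hA1P : A1 ≤ P := hA1X.trans hX.le
  have himA1 : im f A1 = Y1 := L.im_pre hXP hA1 hY1le
  by_cases hXA : X ≤ A1
  · rw [show im f X = Y1 from le_antisymm ((L.im_mono hXA).trans himA1.le) hY1le]
    exact hY1
  exfalso
  obtain ⟨q, hq, hcard, hsplit⟩ := B.partner Y1 hY1 (hY1le.trans hXS)
  obtain ⟨X', hX'⟩ : ∃ X' : Subgroup G, ∀ a, a ∈ X' ↔ a ∈ X ∧ f a * q = q * f a := by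
    obtain ⟨Z, hZ⟩ := L.exists_pre hXP (centralizer ({q} : Set Q))
    exact ⟨Z, fun a => by rw [hZ, mem_centralizer_singleton_iff]⟩
  have hX'X : X' ≤ X := fun a ha => ((hX' a).mp ha).1
  obtain ⟨x, hxP, rfl, hxc⟩ := L.exists_comm_lift D (hX'X.trans hX.le) (hX.pg.to_le hX'X) hq
    fun a ha => ((hX' a).mp ha).2
  have hle : X ≤ A1 ⊔ X' := by
    intro e he
    obtain ⟨b, hb, hbx, -⟩ := hsplit (f e) (hXS (mem_im_of he)) fun b hb => hcomm _ (mem_im_of he) _ (hY1le hb)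
    obtain ⟨a, ha, rfl⟩ := (L.mem_im (hA1P.trans le_sup_right)).mp (himA1.ge hb)
    rw [show e = a * (a⁻¹ * e) by group]
    refine mul_mem_sup ha ((hX' _).mpr ⟨X.mul_mem (X.inv_mem (hA1X ha)) he, ?_⟩)
    rwa [L.mul _ (hXP (X.inv_mem (hA1X ha))) _ (hXP he), L.inv _ (hXP (hA1X ha))]
  have hquad := FFEmb.quadratic_of_member A.vcomm A.vexp A.norm hX
  obtain ⟨Y, hY⟩ : ∃ Y, Y = cj x ⁅A1, V0⁆ := ⟨_, rfl⟩
  have hA1V0 : ⁅A1, V0⁆ ≤ V0 :=
    commutator_le.mpr fun a ha v hv => V0.mul_mem (D.inv a (hA1P ha) v hv) (V0.inv_mem hv)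
  have hYV0 : Y ≤ V0 := hY ▸ RootPair.cj_le.mpr fun v hv => D.inv x hxP v (hA1V0 hv)
  have hYfix : Y ≤ centralizer (X' : Set G) := hY ▸ RootPair.cj_le.mpr fun v hv =>
    mem_centralizer_iff.mpr fun a ha => by
      have h1 : v ∈ V ⊓ centralizer (X : Set G) :=
        (commutator_le.mpr fun b hb w hw => hquad b (hA1X hb) w (D.le hw) :
          ⁅A1, V0⁆ ≤ V ⊓ centralizer (X : Set G)) hv
      have e1 : a * v = v * a := mem_centralizer_iff.mp h1.2 a (hX'X ha)
      have e2 : x * a = a * x := hxc a ha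
      calc a * (x * v * x⁻¹) = (a * x) * v * x⁻¹ := by group
        _ = x * (a * v) * x⁻¹ := by rw [← e2]; group
        _ = x * v * (a * x⁻¹) := by rw [e1]; group
        _ = x * v * x⁻¹ * a := by
          rw [show a * x⁻¹ = x⁻¹ * a from (Commute.inv_right (show Commute a x from e2.symm)).eq]; group
  have himY : im f Y = cj (f x) ⁅Y1, W⁆ := by
    rw [hY, L.im_cj (mem_sup_right hxP) (hA1V0.trans le_sup_left),
      L.im_commutator (hA1P.trans le_sup_right) le_sup_left, himA1, L.im_V0]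
  have hYcard : Nat.card A1 * Nat.card ↥(Y ⊓ centralizer (A1 : Set G)) ≤ Nat.card Y := by
    have e1 := L.card_im (X := Y) (K := U) (hYV0.trans le_sup_left) fun z hz => L.kerV z (hYV0 hz)
    have e2 := L.card_im (X := Y ⊓ centralizer (A1 : Set G)) (K := U) (inf_le_left.trans (hYV0.trans le_sup_left))
      fun z hz => L.kerV z (hYV0 hz.1)
    have h3 : im f (Y ⊓ centralizer (A1 : Set G)) ≤ im f Y ⊓ centralizer (Y1 : Set Q) := by
      refine le_inf (L.im_mono inf_le_left) ?_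
      refine le_trans ?_ ((L.im_fix hA1P).trans (inf_le_right.trans (by rw [himA1])))
      exact L.im_mono (inf_le_inf hYV0 le_rfl)
    rw [← e1, ← e2, ← L.card_im_pgroup D hA1P (hX.pg.to_le hA1X), himA1]
    calc Nat.card Y1 * (Nat.card ↥(im f (Y ⊓ centralizer (A1 : Set G))) *
          Nat.card ↥(Y ⊓ centralizer (A1 : Set G) ⊓ U))
        ≤ Nat.card Y1 * (Nat.card ↥(im f Y ⊓ centralizer (Y1 : Set Q)) * Nat.card ↥(Y ⊓ U)) :=
          Nat.mul_le_mul_left _ (Nat.mul_le_mul (card_le_of_le h3)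
            (card_le_of_le (inf_le_inf inf_le_left le_rfl)))
      _ = (Nat.card Y1 * Nat.card ↥(cj (f x) ⁅Y1, W⁆ ⊓ centralizer (Y1 : Set Q))) * Nat.card ↥(Y ⊓ U) := by
          rw [himY]; ring
      _ ≤ _ := by
          refine Nat.mul_le_mul_right _ ?_
          rw [himY, card_cj]; exact hcard
  have hA1ne : A1 ≠ ⊥ := fun e => hY1.ne (by
    rw [← himA1, e]
    refine eq_bot_iff.mpr ((closure_le _).mpr ?_)
    rintro _ ⟨z, hz, rfl⟩
    rw [mem_bot.mp hz, L.one]; exact one_mem _)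
  have hX'ne : X' ≠ X := fun e => not_fix_partner hA1ne hYcard
    (hYfix.trans (centralizer_le (SetLike.coe_subset_coe.mpr (e ▸ hA1X))))
  have hX'bot : X' ≠ ⊥ := fun e => hXA (by rwa [e, sup_bot_eq] at hle)
  exact absurd (meas_split A.vcomm hA1X hX'X hX.comm hle (hYV0.trans D.le) hYfix hYcard)
    (not_le.mpr (hX.strict X' hX'X hX'bot hX'ne))

/-- A member for `V` acts only inside `V0`, and fixes there the preimage of the fixed points of its image. -/
theorem Link.member_exact {X : Subgroup G} (hX : Member p V P X) (hXT : X ≤ T) :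
    V ≤ V0 ⊔ (V ⊓ centralizer (X : Set G)) ∧
      ∀ v ∈ V0, f v ∈ centralizer ((im f X : Subgroup Q) : Set Q) → v ∈ centralizer (X : Set G) := by
  have hm := L.member_image D H A C B hX hXT
  obtain ⟨h1, h2, h3⟩ := L.offender D A hX.le hX.meas_ge
  have hex := B.exact _ hm
  rw [meas, L.card_im_pgroup D hX.le hX.pg] at hex
  have h4 : Nat.card X * Nat.card ↥(V0 ⊓ centralizer (X : Set G)) = Nat.card V0 := by
    refine le_antisymm ?_ h1
    rw [h3, ← hex, mul_assoc]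
    exact Nat.mul_le_mul_left _ h2
  constructor
  · have e := card_split A D.le (inf_le_left : V ⊓ centralizer (X : Set G) ≤ V)
    rw [← inf_assoc, inf_eq_left.mpr D.le] at e
    refine (eq_of_le_of_card_ge (sup_le D.le inf_le_left) ?_).ge
    refine Nat.le_of_mul_le_mul_right ?_ (Nat.card_pos : 0 < Nat.card ↥(V0 ⊓ centralizer (X : Set G)))
    rw [e, ← h4]
    calc Nat.card V * Nat.card ↥(V0 ⊓ centralizer (X : Set G))
        ≤ (Nat.card X * Nat.card ↥(V ⊓ centralizer (X : Set G))) * Nat.card ↥(V0 ⊓ centralizer (X : Set G)) :=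
          Nat.mul_le_mul_right _ hX.meas_ge
      _ = _ := by ring
  · obtain ⟨Z, hZ⟩ := L.exists_pre (X := V0) le_sup_left (centralizer ((im f X : Subgroup Q) : Set Q))
    intro v hv hvc
    have hle : V0 ⊓ centralizer (X : Set G) ≤ Z := fun z hz =>
      (hZ z).mpr ⟨hz.1, ((L.im_fix hX.le) (mem_im_of hz)).2⟩
    have hcard : Nat.card Z ≤ Nat.card ↥(V0 ⊓ centralizer (X : Set G)) := by
      have hZV : Z ≤ V0 := fun z hz => ((hZ z).mp hz).1
      have e := L.card_im (X := Z) (K := U) (hZV.trans le_sup_left) fun z hz => L.kerV z (hZV hz)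
      refine Nat.le_of_mul_le_mul_left ?_ (Nat.card_pos : 0 < Nat.card X)
      rw [h4, h3, ← hex, ← e, mul_assoc]
      refine Nat.mul_le_mul_left _ (Nat.mul_le_mul (card_le_of_le ((closure_le _).mpr ?_))
        (card_le_of_le inf_le_right))
      rintro _ ⟨z, hz, rfl⟩
      exact mem_inf.mpr ⟨(L.memW _).mpr ⟨z, hZV hz, rfl⟩, ((hZ z).mp hz).2⟩
    exact ((eq_of_le_of_card_ge hle hcard).ge ((hZ v).mpr ⟨hv, hvc⟩)).2

/-- The map on `P` is injective. -/
theorem Link.kernel_trivial {X : Subgroup G} (hX : Member p V P X) (hXT : X ≤ T) : C0 = ⊥ := by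
  obtain ⟨hfull, hpre⟩ := L.member_exact D H A C B hX hXT
  have hUX : U ≤ centralizer (X : Set G) := fun v hv =>
    hpre v (D.Ule hv) (by rw [(L.kerV v (D.Ule hv)).mpr hv]; exact one_mem _)
  let R : Subgroup G :=
    { carrier := {g | g ∈ P ∧ (∀ v ∈ V, ⁅g, v⁆ ∈ V0) ∧ ∀ v ∈ U, g * v = v * g}
      one_mem' := ⟨one_mem _, fun v _ => by rw [commutatorElement_one_left]; exact one_mem _,
        fun v _ => by rw [one_mul, mul_one]⟩
      mul_mem' := fun {a b} ha hb => ⟨mul_mem ha.1 hb.1, fun v hv => by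
        rw [show ⁅a * b, v⁆ = a * ⁅b, v⁆ * a⁻¹ * ⁅a, v⁆ by simp only [commutatorElement_def]; group]
        exact mul_mem (D.inv a ha.1 _ (hb.2.1 v hv)) (ha.2.1 v hv),
        fun v hv => by rw [mul_assoc, hb.2.2 v hv, ← mul_assoc, ha.2.2 v hv, mul_assoc]⟩
      inv_mem' := fun {a} ha => ⟨inv_mem ha.1, fun v hv => by
        rw [show ⁅a⁻¹, v⁆ = a⁻¹ * ⁅a, v⁆⁻¹ * a⁻¹⁻¹ by simp only [commutatorElement_def]; group]
        exact D.inv _ (inv_mem ha.1) _ (inv_mem (ha.2.1 v hv)),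
        fun v hv => (Commute.inv_left (show Commute a v from ha.2.2 v hv)).eq⟩ }
  obtain ⟨K, hK⟩ : ∃ K, K = closure {y | ∃ g ∈ P, ∃ a ∈ X, y = g * a * g⁻¹} := ⟨_, rfl⟩
  have hKP : K ≤ P := hK ▸ (closure_le _).mpr (by
    rintro _ ⟨g, hg, a, ha, rfl⟩
    exact mul_mem (mul_mem hg (hX.le ha)) (inv_mem hg))
  have hKinv : ∀ g ∈ P, ∀ n ∈ K, g * n * g⁻¹ ∈ K := hK ▸ conj_closure (by
    rintro g hg _ ⟨h, hh, a, ha, rfl⟩
    exact ⟨g * h, mul_mem hg hh, a, ha, by group⟩)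
  have hKR : K ≤ R := hK ▸ (closure_le _).mpr (by
    rintro _ ⟨g, hg, a, ha, rfl⟩
    refine ⟨mul_mem (mul_mem hg (hX.le ha)) (inv_mem hg), fun v hv => ?_, fun v hv => ?_⟩
    · have hw : g⁻¹ * v * g ∈ V := by simpa using A.norm g⁻¹ (inv_mem hg) v hv
      obtain ⟨v0, hv0, z, hz, hvz⟩ := exists_mul_of_comm
        (fun a (ha : a ∈ V0) b (hb : b ∈ V ⊓ centralizer (X : Set G)) => A.vcomm a (D.le ha) b hb.1) (hfull hw)
      have e : ⁅g * a * g⁻¹, v⁆ = g * ⁅a, v0⁆ * g⁻¹ := by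
        have e1 : ⁅g * a * g⁻¹, v⁆ = g * ⁅a, g⁻¹ * v * g⁆ * g⁻¹ := by simp only [commutatorElement_def]; group
        rw [e1, ← hvz, show ⁅a, v0 * z⁆ = ⁅a, v0⁆ * (v0 * ⁅a, z⁆ * v0⁻¹) by
          simp only [commutatorElement_def]; group,
          commutatorElement_eq_one_iff_mul_comm.mpr (mem_centralizer_iff.mp hz.2 a ha), mul_one, mul_inv_cancel,
          mul_one]
      rw [e]
      exact D.inv g hg _ (V0.mul_mem (D.inv a (hX.le ha) v0 hv0) (V0.inv_mem hv0))
    · have hw : g⁻¹ * v * g ∈ U := by simpa using D.Uinv g⁻¹ (inv_mem hg) v hv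
      have h := mem_centralizer_iff.mp (hUX hw) a ha
      calc g * a * g⁻¹ * v = g * (a * (g⁻¹ * v * g)) * g⁻¹ := by group
        _ = g * ((g⁻¹ * v * g) * a) * g⁻¹ := by rw [h]
        _ = _ := by group)
  rcases H.cases hKP hKinv with h | ⟨-, h⟩
  · have hres := (H.res_le_of hKinv hKP h).trans hKR
    refine eq_bot_iff.mpr fun c hc => ?_
    rw [← A.faith]
    refine mem_inf.mpr ⟨D.CP hc, mem_centralizer_iff.mpr fun v hv => ?_⟩
    have hcop : (orderOf c).Coprime p := Nat.Coprime.coprime_dvd_left (orderOf_dvd_natCard C0 hc) D.Ccop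
    have h1 : ⁅c, v⁆ ∈ V0 := (hres (mem_res (D.CP hc) hcop)).2.1 v hv
    exact (mul_inv_eq_iff_eq_mul.mp (fix_of_coprime hcop
      (mul_inv_eq_iff_eq_mul.mpr (mem_centralizer_iff.mp (D.Cfix hc) _ h1).symm) (A.vexp _ (D.le h1)))).symm
  · refine absurd (eq_bot_iff.mpr fun a ha => ?_) hX.ne
    obtain ⟨k, hk⟩ := hX.pg ⟨a, ha⟩
    exact mem_bot.mpr (coprime_pgroup_eq_one (Nat.Coprime.coprime_dvd_left
      (orderOf_dvd_natCard K (hK ▸ subset_closure ⟨1, one_mem _, a, ha, by group⟩)) h) (congrArg Subtype.val hk))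

end Cfsg.Agent.Fus.MinModule
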