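import Cfsg.Agent.Lib.Fus.PMinFF.MinModule

/-!
# Images and preimages along the map onto the section
-/

set_option autoImplicit false
set_option linter.unusedSectionVars false
set_option linter.style.haveILetI false

open scoped commutatorElement

namespace Cfsg.Agent.Fus.MinModule

open Subgroup Cfsg.Agent.Grp Cfsg.Agent.Grp.OffenderSL2 Cfsg.Agent.Fus.RootPair

universe u

variable {G Q : Type u} [Group G] [Group Q]

/-- The image of a subgroup under a map of sets. -/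
def im (f : G → Q) (X : Subgroup G) : Subgroup Q := closure (f '' (X : Set G))

theorem mem_im_of {f : G → Q} {X : Subgroup G} {x : G} (h : x ∈ X) : f x ∈ im f X := subset_closure ⟨x, h, rfl⟩

variable {V0 U P C0 T : Subgroup G} {f : G → Q} {W Γ S : Subgroup Q} (L : Link V0 U P C0 T f W Γ S)
include L

theorem Link.one : f 1 = 1 := by
  have h := L.mul 1 (one_mem _) 1 (one_mem _)
  rw [one_mul] at h
  exact mul_eq_left.mp h.symm

theorem Link.conj {a b : G} (ha : a ∈ V0 ⊔ P) (hb : b ∈ V0 ⊔ P) : f (a * b * a⁻¹) = f a * f b * (f a)⁻¹ := by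
  rw [L.mul _ (mul_mem ha hb) _ (inv_mem ha), L.mul a ha b hb, L.inv a ha]

theorem Link.comm {a b : G} (ha : a ∈ V0 ⊔ P) (hb : b ∈ V0 ⊔ P) : f ⁅a, b⁆ = ⁅f a, f b⁆ := by
  rw [commutatorElement_def, L.mul _ (mul_mem (mul_mem ha hb) (inv_mem ha)) _ (inv_mem hb), L.conj ha hb,
    L.inv b hb, commutatorElement_def]

theorem Link.eq_iff {a b : G} (ha : a ∈ V0 ⊔ P) (hb : b ∈ V0 ⊔ P) : f a = f b ↔ f (a⁻¹ * b) = 1 := by
  rw [L.mul _ (inv_mem ha) _ hb, L.inv a ha, inv_mul_eq_one]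

theorem Link.mem_im {X : Subgroup G} (hX : X ≤ V0 ⊔ P) {q : Q} : q ∈ im f X ↔ ∃ x ∈ X, f x = q := by
  refine ⟨fun h => ?_, fun ⟨x, hx, e⟩ => e ▸ mem_im_of hx⟩
  induction h using closure_induction with
  | mem q hq => exact hq
  | one => exact ⟨1, one_mem _, L.one⟩
  | mul a b _ _ iha ihb =>
    obtain ⟨x, hx, rfl⟩ := iha
    obtain ⟨y, hy, rfl⟩ := ihb
    exact ⟨x * y, mul_mem hx hy, L.mul x (hX hx) y (hX hy)⟩
  | inv a _ iha =>
    obtain ⟨x, hx, rfl⟩ := iha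
    exact ⟨x⁻¹, inv_mem hx, L.inv x (hX hx)⟩

theorem Link.exists_pre {X : Subgroup G} (hX : X ≤ V0 ⊔ P) (Y : Subgroup Q) :
    ∃ Z : Subgroup G, ∀ x, x ∈ Z ↔ x ∈ X ∧ f x ∈ Y :=
  ⟨{ carrier := {x | x ∈ X ∧ f x ∈ Y}
     one_mem' := ⟨one_mem _, by rw [L.one]; exact one_mem _⟩
     mul_mem' := fun {a b} ha hb =>
       ⟨mul_mem ha.1 hb.1, by rw [L.mul a (hX ha.1) b (hX hb.1)]; exact mul_mem ha.2 hb.2⟩
     inv_mem' := fun {a} ha => ⟨inv_mem ha.1, by rw [L.inv a (hX ha.1)]; exact inv_mem ha.2⟩ }, fun _ => Iff.rfl⟩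

theorem Link.im_pre {X Z : Subgroup G} {Y : Subgroup Q} (hX : X ≤ V0 ⊔ P) (hZ : ∀ x, x ∈ Z ↔ x ∈ X ∧ f x ∈ Y)
    (hY : Y ≤ im f X) : im f Z = Y := by
  refine le_antisymm ((closure_le _).mpr ?_) fun y hy => ?_
  · rintro _ ⟨z, hz, rfl⟩
    exact ((hZ z).mp hz).2
  · obtain ⟨x, hx, rfl⟩ := (L.mem_im hX).mp (hY hy)
    exact mem_im_of ((hZ x).mpr ⟨hx, hy⟩)

theorem Link.card_im {X K : Subgroup G} (hX : X ≤ V0 ⊔ P) (hK : ∀ x ∈ X, (f x = 1 ↔ x ∈ K)) :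
    Nat.card ↥(im f X) * Nat.card ↥(X ⊓ K) = Nat.card X := by
  let φ : ↥X →* Q :=
    { toFun := fun x => f x
      map_one' := by rw [OneMemClass.coe_one]; exact L.one
      map_mul' := fun a b => L.mul a (hX a.2) b (hX b.2) }
  have h := φ.ker.index_mul_card
  have hk : φ.ker.map X.subtype = X ⊓ K := by
    ext x
    exact ⟨fun ⟨y, hy, e⟩ => e ▸ ⟨y.2, (hK y y.2).mp hy⟩, fun ⟨h1, h2⟩ => ⟨⟨x, h1⟩, (hK x h1).mpr h2, rfl⟩⟩
  have hr : φ.range = im f X := by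
    ext q
    rw [L.mem_im hX]
    exact ⟨fun ⟨y, e⟩ => ⟨y, y.2, e⟩, fun ⟨y, hy, e⟩ => ⟨⟨y, hy⟩, e⟩⟩
  rwa [index_ker, ← card_map_of_injective X.subtype_injective, hk, hr] at h

theorem Link.im_V0 : im f V0 = W := by
  ext w
  rw [L.mem_im le_sup_left, L.memW]

theorem Link.im_P : im f P = Γ := by
  ext w
  rw [L.mem_im le_sup_right, L.memΓ]

theorem Link.im_T (hTP : T ≤ P) : im f T = S := by
  ext w
  rw [L.mem_im (hTP.trans le_sup_right), L.memS]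

theorem Link.im_mono {X Y : Subgroup G} (h : X ≤ Y) : im f X ≤ im f Y := closure_mono (Set.image_mono h)

theorem Link.im_cj {g : G} (hg : g ∈ V0 ⊔ P) {X : Subgroup G} (hX : X ≤ V0 ⊔ P) :
    im f (cj g X) = cj (f g) (im f X) := by
  have hX' : cj g X ≤ V0 ⊔ P := RootPair.cj_le.mpr fun x hx => mul_mem (mul_mem hg (hX hx)) (inv_mem hg)
  ext q
  rw [L.mem_im hX']
  constructor
  · rintro ⟨_, ⟨x, hx, rfl⟩, rfl⟩
    show f (g * x * g⁻¹) ∈ _
    rw [L.conj hg (hX hx)]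
    exact conj_mem_cj _ (mem_im_of hx)
  · intro hq
    obtain ⟨x, hx, e⟩ := (L.mem_im hX).mp (mem_cj.mp hq)
    exact ⟨g * x * g⁻¹, conj_mem_cj g hx, by rw [L.conj hg (hX hx), e]; group⟩

theorem Link.im_commutator {X Y : Subgroup G} (hX : X ≤ V0 ⊔ P) (hY : Y ≤ V0 ⊔ P) :
    im f ⁅X, Y⁆ = ⁅im f X, im f Y⁆ := by
  have hle : ⁅X, Y⁆ ≤ V0 ⊔ P := commutator_le.mpr fun a ha b hb =>
    mul_mem (mul_mem (mul_mem (hX ha) (hY hb)) (inv_mem (hX ha))) (inv_mem (hY hb))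
  refine le_antisymm ?_ (commutator_le.mpr fun a ha b hb => ?_)
  · obtain ⟨Z, hZ⟩ := L.exists_pre (X := V0 ⊔ P) le_rfl ⁅im f X, im f Y⁆
    have h : ⁅X, Y⁆ ≤ Z := commutator_le.mpr fun a ha b hb => (hZ _).mpr ⟨hle (commutator_mem_commutator ha hb), by
      rw [L.comm (hX ha) (hY hb)]; exact commutator_mem_commutator (mem_im_of ha) (mem_im_of hb)⟩
    refine (closure_le _).mpr ?_
    rintro _ ⟨z, hz, rfl⟩
    exact ((hZ z).mp (h hz)).2
  · obtain ⟨x, hx, rfl⟩ := (L.mem_im hX).mp ha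
    obtain ⟨y, hy, rfl⟩ := (L.mem_im hY).mp hb
    rw [← L.comm (hX hx) (hY hy)]
    exact mem_im_of (commutator_mem_commutator hx hy)

theorem Link.im_sup {X Y : Subgroup G} (hX : X ≤ V0 ⊔ P) (hY : Y ≤ V0 ⊔ P) :
    im f (X ⊔ Y) = im f X ⊔ im f Y := by
  refine le_antisymm ?_ (sup_le (L.im_mono le_sup_left) (L.im_mono le_sup_right))
  obtain ⟨Z, hZ⟩ := L.exists_pre (X := V0 ⊔ P) le_rfl (im f X ⊔ im f Y)
  have h : X ⊔ Y ≤ Z := sup_le (fun x hx => (hZ x).mpr ⟨hX hx, mem_sup_left (mem_im_of hx)⟩)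
    fun y hy => (hZ y).mpr ⟨hY hy, mem_sup_right (mem_im_of hy)⟩
  refine (closure_le _).mpr ?_
  rintro _ ⟨z, hz, rfl⟩
  exact ((hZ z).mp (h hz)).2

/-- The image of a fixed space is fixed by the image. -/
theorem Link.im_fix {X : Subgroup G} (hX : X ≤ P) :
    im f (V0 ⊓ centralizer (X : Set G)) ≤ W ⊓ centralizer ((im f X : Subgroup Q) : Set Q) := by
  refine (closure_le _).mpr ?_
  rintro _ ⟨v, ⟨hv, hvc⟩, rfl⟩
  refine mem_inf.mpr ⟨(L.memW _).mpr ⟨v, hv, rfl⟩, mem_centralizer_iff.mpr fun q hq => ?_⟩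
  obtain ⟨x, hx, rfl⟩ := (L.mem_im (hX.trans le_sup_right)).mp hq
  rw [← L.mul x (mem_sup_right (hX hx)) v (mem_sup_left hv), ← L.mul v (mem_sup_left hv) x (mem_sup_right (hX hx)),
    mem_centralizer_iff.mp hvc x hx]

end Cfsg.Agent.Fus.MinModule
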