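import Cfsg.Agent.Lib.Fus.RootPairBasic
import Cfsg.Agent.Lib.Fus.FailGlobal
import Cfsg.Agent.Lib.Fus.PMinFF.Blocks

/-!
# An irreducible section for a group with one maximal overgroup of a Sylow subgroup

For such a group `P` acting faithfully on an elementary abelian `p`-group `V` a minimal invariant subgroup not
centralised by the `p'`-elements has a unique maximal invariant subgroup; the quotient is an irreducible module in
the sense of `RootPair.Sit` for the image of `P`.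
-/

set_option autoImplicit false
set_option linter.unusedSectionVars false
set_option linter.style.haveILetI false

open scoped commutatorElement

namespace Cfsg.Agent.Fus.MinModule

open Subgroup Cfsg.Agent.Grp Cfsg.Agent.Grp.OffenderSL2 Cfsg.Agent.Fus.RootPair

universe u

variable {G : Type u} [Group G]

/-- A group with trivial core and one maximal overgroup of its Sylow subgroup. -/
structure PHyp (p : ℕ) (P T M : Subgroup G) : Prop where
  syl : Grp.IsSylowIn p T P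
  TM : T ≤ M
  MP : M ≤ P
  Mne : M ≠ P
  uniq : ∀ H : Subgroup G, T ≤ H → H ≤ P → H ≠ P → H ≤ M
  core : ∀ Q : Subgroup G, Q ≤ P → IsPGroup p Q → P ≤ normalizer (Q : Set G) → Q = ⊥

/-- The module hypotheses. -/
structure VHyp (p : ℕ) (V P : Subgroup G) : Prop where
  vcomm : ∀ v ∈ V, ∀ w ∈ V, v * w = w * v
  vexp : ∀ v ∈ V, v ^ p = 1
  norm : ∀ g ∈ P, ∀ v ∈ V, g * v * g⁻¹ ∈ V
  faith : P ⊓ centralizer (V : Set G) = ⊥

/-- The subgroup generated by the `p'`-elements. -/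
def res (p : ℕ) (P : Subgroup G) : Subgroup G := closure {g : G | g ∈ P ∧ (orderOf g).Coprime p}

theorem res_le (p : ℕ) (P : Subgroup G) : res p P ≤ P := (closure_le _).mpr fun _ h => h.1

theorem mem_res {p : ℕ} {P : Subgroup G} {g : G} (hg : g ∈ P) (h : (orderOf g).Coprime p) : g ∈ res p P :=
  subset_closure ⟨hg, h⟩

/-- A conjugation invariant set gives a normalised subgroup. -/
theorem conj_closure {P : Subgroup G} {s : Set G} (hs : ∀ g ∈ P, ∀ x ∈ s, g * x * g⁻¹ ∈ s) :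
    ∀ g ∈ P, ∀ x ∈ closure s, g * x * g⁻¹ ∈ closure s := fun g hg x hx =>
  ((closure_le _).mpr fun y hy => subset_closure (hs g hg y hy) :
    closure s ≤ (closure s).comap (MulAut.conj g).toMonoidHom) hx

theorem res_conj (p : ℕ) (P : Subgroup G) : ∀ g ∈ P, ∀ x ∈ res p P, g * x * g⁻¹ ∈ res p P :=
  conj_closure fun g hg x hx => ⟨mul_mem (mul_mem hg hx.1) (inv_mem hg), by
    show (orderOf ((MulAut.conj g).toMonoidHom x)).Coprime p
    rw [orderOf_injective (MulAut.conj g).toMonoidHom (MulAut.conj g).injective]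
    exact hx.2⟩

variable [Finite G] {p : ℕ} [Fact p.Prime] {P T M V : Subgroup G}

theorem coprime_pgroup_eq_one {g : G} (h : (orderOf g).Coprime p) {k : ℕ} (hk : g ^ p ^ k = 1) : g = 1 := by
  refine orderOf_eq_one_iff.mp (Nat.eq_one_of_dvd_coprimes (h.pow_right k) dvd_rfl ?_)
  exact orderOf_dvd_of_pow_eq_one hk

/-- A coprime element fixing `e` and moving `d` by `e` fixes `d`. -/
theorem fix_of_coprime {g d : G} (hg : (orderOf g).Coprime p) (h : g * ⁅g, d⁆ * g⁻¹ = ⁅g, d⁆)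
    (hexp : ⁅g, d⁆ ^ p = 1) : g * d * g⁻¹ = d := by
  have h1 : ⁅g, d⁆ = 1 := Fail.fixed_of_coprime (p := p) hg (d := d)
    (by rw [commutatorElement_def]; group) (mul_inv_eq_iff_eq_mul.mp h) ⟨1, by rw [pow_one]; exact hexp⟩
  exact mul_inv_eq_iff_eq_mul.mpr (commutatorElement_eq_one_iff_mul_comm.mp h1)

/-- What contains the `p'`-elements generates with the Sylow subgroup, and conversely. -/
theorem PHyp.res_le_of (H : PHyp p P T M) {N : Subgroup G} (hN : ∀ g ∈ P, ∀ n ∈ N, g * n * g⁻¹ ∈ N)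
    (hNP : N ≤ P) (h : P ≤ N ⊔ T) : res p P ≤ N := by
  refine (closure_le _).mpr fun g hg => ?_
  haveI : (N.subgroupOf P).Normal := ⟨fun n hn x => mem_subgroupOf.mpr (hN x x.2 n (mem_subgroupOf.mp hn))⟩
  obtain ⟨π, hπ⟩ : ∃ π, π = QuotientGroup.mk' (N.subgroupOf P) := ⟨_, rfl⟩
  have hp : IsPGroup p (↥P ⧸ N.subgroupOf P) := by
    refine (H.syl.2.1.of_equiv (Subgroup.subgroupOfEquivOfLe H.syl.1).symm).of_surjective
      (π.domRestrict (T.subgroupOf P)) fun q => ?_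
    obtain ⟨x, rfl⟩ := QuotientGroup.mk'_surjective _ q
    obtain ⟨n, hn, t, ht, hx⟩ := Subgroup.mem_sup_of_normal_left.mp
      (show x ∈ N.subgroupOf P ⊔ T.subgroupOf P by
        rw [← subgroupOf_sup hNP H.syl.1]; exact mem_subgroupOf.mpr (h x.2))
    refine ⟨⟨t, ht⟩, ?_⟩
    rw [hπ, ← hx, MonoidHom.domRestrict_apply, map_mul,
      show QuotientGroup.mk' (N.subgroupOf P) n = 1 from (QuotientGroup.eq_one_iff n).mpr hn, one_mul]
  obtain ⟨k, hk⟩ := hp (π ⟨g, hg.1⟩)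
  have h2 : π ⟨g, hg.1⟩ = 1 := by
    refine coprime_pgroup_eq_one (Nat.Coprime.coprime_dvd_left (orderOf_map_dvd π _) ?_) hk
    rw [← orderOf_injective P.subtype P.subtype_injective]
    exact hg.2
  rw [hπ, QuotientGroup.mk'_apply, QuotientGroup.eq_one_iff] at h2
  exact mem_subgroupOf.mp h2

/-- A normal subgroup is everything modulo the Sylow subgroup or a `p'`-group inside `M`. -/
theorem PHyp.cases (H : PHyp p P T M) {N : Subgroup G} (hNP : N ≤ P) (hN : ∀ g ∈ P, ∀ n ∈ N, g * n * g⁻¹ ∈ N) :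
    P ≤ N ⊔ T ∨ (N ≤ M ∧ (Nat.card N).Coprime p) := by
  refine or_iff_not_imp_left.mpr fun h => ?_
  have hNTM : N ⊔ T ≤ M := H.uniq _ le_sup_right (sup_le hNP H.syl.1) fun e => h e.ge
  obtain ⟨Q, hQ⟩ : ∃ Q, Q = T ⊓ N := ⟨_, rfl⟩
  have hsyl : Grp.IsSylowIn p Q N := hQ ▸ Fail.sylow_inf_normal H.syl hNP hN
  have hQ1 : Q = ⊥ := by
    refine H.core Q (hQ ▸ inf_le_right.trans hNP) hsyl.2.1 (le_of_eq_of_le (b := P ⊓ normalizer (Q : Set G)) ?_ inf_le_right)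
    by_contra hne
    have hTQ : T ≤ P ⊓ normalizer (Q : Set G) := fun t ht => mem_inf.mpr ⟨H.syl.1 ht, norm_of_cj
      (eq_of_le_of_card_ge (RootPair.cj_le.mpr fun q hq => by
        rw [hQ] at hq ⊢
        exact ⟨T.mul_mem (T.mul_mem ht hq.1) (T.inv_mem ht), hN t (H.syl.1 ht) q hq.2⟩) (card_cj _ _).ge)⟩
    have hle := H.uniq _ hTQ inf_le_left (Ne.symm hne)
    refine H.Mne (le_antisymm H.MP fun g hg => ?_)
    have hQN : Q ≤ N := hsyl.1
    have hcj : Grp.IsSylowIn p (cj g Q) N := by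
      have hle' : cj g Q ≤ N := RootPair.cj_le.mpr fun q hq => hN g hg q (hQN hq)
      refine ⟨hle', hsyl.2.1.map _, ?_⟩
      have e1 := relIndex_mul_relIndex ⊥ (cj g Q) N bot_le hle'
      have e2 := relIndex_mul_relIndex ⊥ Q N bot_le hQN
      rw [relIndex_bot_left, relIndex_bot_left, card_cj] at e1
      rw [relIndex_bot_left, relIndex_bot_left, ← e1] at e2
      rw [← Nat.eq_of_mul_eq_mul_left Nat.card_pos e2]
      exact hsyl.2.2
    obtain ⟨n, hn, he⟩ := hsyl.conj hcj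
    rw [← map_conj_eq_smul] at he
    have h1 : n⁻¹ * g ∈ M := hle (mem_inf.mpr ⟨P.mul_mem (P.inv_mem (hNP hn)) hg, norm_of_cj (by
      rw [← cj_cj, show cj g Q = cj n Q from he.symm, cj_cj, inv_mul_cancel, cj_one])⟩)
    simpa using M.mul_mem (hNTM (mem_sup_left hn)) h1
  refine ⟨le_sup_left.trans hNTM, Nat.coprime_comm.mp ((Nat.Prime.coprime_iff_not_dvd Fact.out).mpr ?_)⟩
  have h2 := hsyl.2.2
  rwa [hQ1, relIndex_bot_left] at h2

theorem PHyp.res_ne (H : PHyp p P T M) : res p P ≠ ⊥ := by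
  intro h
  have hp : IsPGroup p P := fun g => by
    obtain ⟨k, m, hm, hkm⟩ := Nat.exists_eq_pow_mul_and_not_dvd (orderOf_pos (g : G)).ne' p
      (Fact.out : p.Prime).ne_one
    refine ⟨k, Subtype.ext ?_⟩
    rw [coe_pow, coe_one]
    refine mem_bot.mp (h.le (mem_res (P.pow_mem g.2 _) ?_))
    rw [orderOf_pow, hkm, Nat.gcd_mul_right_left, Nat.mul_div_cancel_left _ (pow_pos (Fact.out : p.Prime).pos _)]
    exact Nat.coprime_comm.mp ((Nat.Prime.coprime_iff_not_dvd Fact.out).mpr hm)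
  have h1 := H.core P le_rfl hp le_normalizer
  exact H.Mne (le_antisymm H.MP (h1 ▸ bot_le))

/-- The section: a minimal invariant subgroup and its largest proper invariant subgroup. -/
structure Sec (p : ℕ) (V P T M V0 U C0 : Subgroup G) : Prop where
  le : V0 ≤ V
  Ule : U ≤ V0
  inv : ∀ g ∈ P, ∀ v ∈ V0, g * v * g⁻¹ ∈ V0
  Uinv : ∀ g ∈ P, ∀ v ∈ U, g * v * g⁻¹ ∈ U
  Ures : U ≤ centralizer (res p P : Set G)
  Cres : C0 ≤ res p P
  Cfix : C0 ≤ centralizer (V0 : Set G)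
  CP : C0 ≤ P
  CM : C0 ≤ M
  Cinv : ∀ g ∈ P, ∀ c ∈ C0, g * c * g⁻¹ ∈ C0
  Ccop : (Nat.card C0).Coprime p
  kernel : ∀ g ∈ P, (∀ v ∈ V0, ⁅g, v⁆ ∈ U) → g ∈ C0
  irr : ∀ U' : Subgroup G, U' ≤ V0 → (∀ g ∈ P, ∀ v ∈ U', g * v * g⁻¹ ∈ U') → U' = V0 ∨ U' ≤ U

theorem exists_sec (H : PHyp p P T M) (A : VHyp p V P) : ∃ V0 U C0, Sec p V P T M V0 U C0 := by
  obtain ⟨V0, ⟨hle, hinv, hmov⟩, hmin⟩ := Set.exists_min_image
    {X : Subgroup G | X ≤ V ∧ (∀ g ∈ P, ∀ v ∈ X, g * v * g⁻¹ ∈ X) ∧ ¬ res p P ≤ centralizer (X : Set G)}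
    (fun X => Nat.card X) (Set.toFinite _) ⟨V, le_rfl, A.norm, fun h => H.res_ne (eq_bot_iff.mpr
      ((le_inf (res_le p P) h).trans A.faith.le))⟩
  obtain ⟨U, hU⟩ : ∃ U, U = V0 ⊓ centralizer (res p P : Set G) := ⟨_, rfl⟩
  have hUinv : ∀ g ∈ P, ∀ v ∈ U, g * v * g⁻¹ ∈ U := fun g hg v hv => by
    rw [hU] at hv ⊢
    refine ⟨hinv g hg v hv.1, mem_centralizer_iff.mpr fun r hr => ?_⟩
    have h := mem_centralizer_iff.mp hv.2 _ (res_conj p P g⁻¹ (inv_mem hg) r hr)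
    rw [inv_inv] at h
    calc r * (g * v * g⁻¹) = g * ((g⁻¹ * r * g) * v) * g⁻¹ := by group
      _ = g * (v * (g⁻¹ * r * g)) * g⁻¹ := by rw [h]
      _ = _ := by group
  let K : Subgroup G :=
    { carrier := {g | g ∈ P ∧ ∀ v ∈ V0, ⁅g, v⁆ ∈ U}
      one_mem' := ⟨one_mem _, fun v _ => by rw [commutatorElement_one_left]; exact one_mem _⟩
      mul_mem' := fun {a b} ha hb => ⟨mul_mem ha.1 hb.1, fun v hv => by
        rw [show ⁅a * b, v⁆ = a * ⁅b, v⁆ * a⁻¹ * ⁅a, v⁆ by simp only [commutatorElement_def]; group]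
        exact mul_mem (hUinv a ha.1 _ (hb.2 v hv)) (ha.2 v hv)⟩
      inv_mem' := fun {a} ha => ⟨inv_mem ha.1, fun v hv => by
        rw [show ⁅a⁻¹, v⁆ = a⁻¹ * ⁅a, v⁆⁻¹ * a⁻¹⁻¹ by simp only [commutatorElement_def]; group]
        exact hUinv _ (inv_mem ha.1) _ (inv_mem (ha.2 v hv))⟩ }
  have hKinv : ∀ g ∈ P, ∀ c ∈ K, g * c * g⁻¹ ∈ K := fun g hg c hc =>
    ⟨mul_mem (mul_mem hg hc.1) (inv_mem hg), fun v hv => by
      rw [show ⁅g * c * g⁻¹, v⁆ = g * ⁅c, g⁻¹ * v * g⁆ * g⁻¹ by simp only [commutatorElement_def]; group]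
      exact hUinv g hg _ (hc.2 _ (by simpa using hinv g⁻¹ (inv_mem hg) v hv))⟩
  have hKfix : ∀ k ∈ K, (orderOf k).Coprime p → ∀ v ∈ V0, k * v * k⁻¹ = v := fun k hk hkc v hv => by
    obtain ⟨h1, h2⟩ := mem_inf.mp (hU.le (hk.2 v hv))
    exact fix_of_coprime hkc (mul_inv_eq_iff_eq_mul.mpr (mem_centralizer_iff.mp h2 k (mem_res hk.1 hkc)))
      (A.vexp _ (hle h1))
  rcases H.cases (N := K) (fun g hg => hg.1) hKinv with hK | ⟨hKM, hKc⟩
  · refine absurd (fun g hg => ?_) hmov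
    have hgK := H.res_le_of hKinv (fun g hg => hg.1) hK
    refine (closure_le (centralizer (V0 : Set G))).mpr (fun r hr => mem_centralizer_iff.mpr fun v hv => ?_) hg
    exact (mul_inv_eq_iff_eq_mul.mp (hKfix r (hgK (subset_closure hr)) hr.2 v hv)).symm
  have hKcop : ∀ k ∈ K, (orderOf k).Coprime p := fun k hk =>
    Nat.Coprime.coprime_dvd_left (orderOf_dvd_natCard K hk) hKc
  refine ⟨V0, U, K, ⟨hle, hU ▸ inf_le_left, hinv, hUinv, hU ▸ inf_le_right, fun k hk => mem_res hk.1 (hKcop k hk),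
    fun k hk => mem_centralizer_iff.mpr fun v hv => (mul_inv_eq_iff_eq_mul.mp (hKfix k hk (hKcop k hk) v hv)).symm,
    fun k hk => hk.1, hKM, hKinv, hKc, fun g hg h => ⟨hg, h⟩, fun U' hU' hinv' => ?_⟩⟩
  refine or_iff_not_imp_left.mpr fun hne => hU ▸ le_inf hU' ?_
  intro v hv
  by_contra hn
  refine hne (eq_of_le_of_card_ge hU' (hmin U' ⟨hU'.trans hle, hinv', fun h => hn ?_⟩))
  exact mem_centralizer_iff.mpr fun r hr => (mem_centralizer_iff.mp (h hr) v hv).symm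

/-- A map on `G` that is multiplicative on `V0 ⊔ P` and identifies the section. -/
structure Link {Q : Type u} [Group Q] (V0 U P C0 T : Subgroup G) (f : G → Q) (W Γ S : Subgroup Q) : Prop where
  mul : ∀ a ∈ V0 ⊔ P, ∀ b ∈ V0 ⊔ P, f (a * b) = f a * f b
  inv : ∀ a ∈ V0 ⊔ P, f a⁻¹ = (f a)⁻¹
  memW : ∀ w, w ∈ W ↔ ∃ v ∈ V0, f v = w
  memΓ : ∀ g, g ∈ Γ ↔ ∃ a ∈ P, f a = g
  memS : ∀ s, s ∈ S ↔ ∃ t ∈ T, f t = s
  kerP : ∀ a ∈ P, (f a = 1 ↔ a ∈ C0)
  kerV : ∀ v ∈ V0, (f v = 1 ↔ v ∈ U)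

/-- The irreducible situation on the section. -/
theorem exists_link (H : PHyp p P T M) (A : VHyp p V P) {V0 U C0 : Subgroup G} (D : Sec p V P T M V0 U C0) :
    ∃ (Q : Type u) (_ : Group Q) (_ : Finite Q) (f : G → Q) (W Γ S M' : Subgroup Q),
      Link V0 U P C0 T f W Γ S ∧ Sit p W Γ S M' ∧
        ∀ U' : Subgroup Q, U' ≤ W → (∀ h ∈ Γ, ∀ w ∈ U', h * w * h⁻¹ ∈ U') → U' = ⊥ ∨ U' = W := by
  classical
  obtain ⟨N, hN⟩ : ∃ N, N = U ⊔ C0 := ⟨_, rfl⟩
  have hUC : ∀ a ∈ U, ∀ c ∈ C0, a * c = c * a := fun a ha c hc => mem_centralizer_iff.mp (D.Cfix hc) a (D.Ule ha)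
  have hNmem : ∀ x, x ∈ N → ∃ a ∈ U, ∃ c ∈ C0, a * c = x := fun x hx =>
    exists_mul_of_comm hUC (hN ▸ hx)
  have hPV : ∀ x ∈ P, x ∈ V → x = 1 := fun x hx hxV =>
    mem_bot.mp (A.faith.le (mem_inf.mpr ⟨hx, mem_centralizer_iff.mpr fun v hv => A.vcomm v hv x hxV⟩))
  have hnorm : V0 ⊔ P ≤ normalizer (N : Set G) := by
    refine sup_le (fun v hv => norm_of_cj (eq_of_le_of_card_ge (RootPair.cj_le.mpr fun x hx => ?_) (card_cj _ _).ge))
      (fun g hg => norm_of_cj (eq_of_le_of_card_ge (RootPair.cj_le.mpr fun x hx => ?_) (card_cj _ _).ge)) <;>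
      obtain ⟨a, ha, c, hc, rfl⟩ := hNmem x hx
    · rw [show v * (a * c) * v⁻¹ = a * c by
        rw [← mul_assoc, A.vcomm v (D.le hv) a (D.le (D.Ule ha)), mul_assoc a,
          mem_centralizer_iff.mp (D.Cfix hc) v hv]
        group]
      exact hN ▸ mul_mem_sup ha hc
    · rw [show g * (a * c) * g⁻¹ = (g * a * g⁻¹) * (g * c * g⁻¹) by group]
      exact hN ▸ mul_mem_sup (D.Uinv g hg a ha) (D.Cinv g hg c hc)
  haveI : (N.subgroupOf (V0 ⊔ P)).Normal := normal_subgroupOf_of_le_normalizer hnorm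
  obtain ⟨f, hf⟩ : ∃ f : G → ↥(V0 ⊔ P) ⧸ N.subgroupOf (V0 ⊔ P),
      ∀ a (ha : a ∈ V0 ⊔ P), f a = QuotientGroup.mk' _ ⟨a, ha⟩ :=
    ⟨fun a => if ha : a ∈ V0 ⊔ P then QuotientGroup.mk' _ ⟨a, ha⟩ else 1, fun a ha => dif_pos ha⟩
  have hmul : ∀ a ∈ V0 ⊔ P, ∀ b ∈ V0 ⊔ P, f (a * b) = f a * f b := fun a ha b hb => by
    rw [hf a ha, hf b hb, hf _ (mul_mem ha hb), ← map_mul]; rfl
  have hinv : ∀ a ∈ V0 ⊔ P, f a⁻¹ = (f a)⁻¹ := fun a ha => by
    rw [hf a ha, hf _ (inv_mem ha), ← map_inv]; rfl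
  have hker : ∀ a ∈ V0 ⊔ P, (f a = 1 ↔ a ∈ N) := fun a ha => by
    rw [hf a ha, QuotientGroup.mk'_apply, QuotientGroup.eq_one_iff, mem_subgroupOf]
  have hkerP : ∀ a ∈ P, (f a = 1 ↔ a ∈ C0) := fun a ha => by
    rw [hker a (mem_sup_right ha)]
    refine ⟨fun h => ?_, fun h => hN ▸ mem_sup_right h⟩
    obtain ⟨b, hb, c, hc, e⟩ := hNmem a h
    have : b = 1 := hPV b (by rw [show b = a * c⁻¹ by rw [← e]; group]; exact P.mul_mem ha (P.inv_mem (D.CP hc)))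
      (D.le (D.Ule hb))
    rwa [← e, this, one_mul]
  have hkerV : ∀ v ∈ V0, (f v = 1 ↔ v ∈ U) := fun v hv => by
    rw [hker v (mem_sup_left hv)]
    refine ⟨fun h => ?_, fun h => hN ▸ mem_sup_left h⟩
    obtain ⟨b, hb, c, hc, e⟩ := hNmem v h
    have : c = 1 := hPV c (D.CP hc) (D.le (by
      rw [show c = b⁻¹ * v by rw [← e]; group]; exact V0.mul_mem (V0.inv_mem (D.Ule hb)) hv))
    rwa [← e, this, mul_one]
  let φP : ↥P →* ↥(V0 ⊔ P) ⧸ N.subgroupOf (V0 ⊔ P) :=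
    { toFun := fun a => f a
      map_one' := by rw [OneMemClass.coe_one]; exact (hkerP 1 (one_mem _)).mpr (one_mem _)
      map_mul' := fun a b => hmul _ (mem_sup_right a.2) _ (mem_sup_right b.2) }
  let φV : ↥V0 →* ↥(V0 ⊔ P) ⧸ N.subgroupOf (V0 ⊔ P) :=
    { toFun := fun a => f a
      map_one' := by rw [OneMemClass.coe_one]; exact (hkerV 1 (one_mem _)).mpr (one_mem _)
      map_mul' := fun a b => hmul _ (mem_sup_left a.2) _ (mem_sup_left b.2) }
  have hmemW : ∀ w, w ∈ φV.range ↔ ∃ v ∈ V0, f v = w := fun w =>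
    ⟨fun ⟨v, hv⟩ => ⟨v, v.2, hv⟩, fun ⟨v, hv, e⟩ => ⟨⟨v, hv⟩, e⟩⟩
  have hmemΓ : ∀ w, w ∈ φP.range ↔ ∃ v ∈ P, f v = w := fun w =>
    ⟨fun ⟨v, hv⟩ => ⟨v, v.2, hv⟩, fun ⟨v, hv, e⟩ => ⟨⟨v, hv⟩, e⟩⟩
  have hmemS : ∀ w, w ∈ (T.subgroupOf P).map φP ↔ ∃ v ∈ T, f v = w := fun w =>
    ⟨fun ⟨v, hv, e⟩ => ⟨v, hv, e⟩, fun ⟨v, hv, e⟩ => ⟨⟨v, H.syl.1 hv⟩, hv, e⟩⟩
  have hconj : ∀ a ∈ P, ∀ v ∈ V0, f (a * v * a⁻¹) = f a * f v * (f a)⁻¹ := fun a ha v hv => by
    rw [hmul _ (mul_mem (mem_sup_right ha) (mem_sup_left hv)) _ (inv_mem (mem_sup_right ha)),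
      hmul a (mem_sup_right ha) v (mem_sup_left hv), hinv a (mem_sup_right ha)]
  have hWc : ∀ x ∈ φV.range, ∀ y ∈ φV.range, x * y = y * x := by
    rintro _ ⟨a, rfl⟩ _ ⟨b, rfl⟩
    rw [← map_mul, ← map_mul, show a * b = b * a from Subtype.ext (A.vcomm a (D.le a.2) b (D.le b.2))]
  have hWexp : ∀ x ∈ φV.range, x ^ p = 1 := by
    rintro _ ⟨a, rfl⟩
    rw [← map_pow, show a ^ p = 1 from Subtype.ext (by rw [coe_pow, coe_one]; exact A.vexp a (D.le a.2)), map_one]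
  have hWn : ∀ g ∈ φP.range, ∀ x ∈ φV.range, g * x * g⁻¹ ∈ φV.range := by
    rintro _ ⟨a, rfl⟩ _ ⟨v, rfl⟩
    exact ⟨⟨_, D.inv a a.2 v v.2⟩, hconj a a.2 v v.2⟩
  have hfaith : φP.range ⊓ centralizer (φV.range : Set _) = ⊥ := by
    refine eq_bot_iff.mpr fun g hg => ?_
    obtain ⟨⟨a, rfl⟩, hc⟩ := mem_inf.mp hg
    refine mem_bot.mpr ((hkerP a a.2).mpr (D.kernel a a.2 fun v hv => (hkerV _ ?_).mp ?_))
    · exact V0.mul_mem (D.inv a a.2 v hv) (V0.inv_mem hv)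
    · rw [commutatorElement_def, hmul _ (mem_sup_left (D.inv a a.2 v hv)) _ (inv_mem (mem_sup_left hv)),
        hconj a a.2 v hv, hinv v (mem_sup_left hv), mul_inv_eq_one, mul_inv_eq_iff_eq_mul]
      exact (mem_centralizer_iff.mp hc (f v) ⟨⟨v, hv⟩, rfl⟩).symm
  have hirr : ∀ U' : Subgroup _, U' ≤ φV.range → (∀ h ∈ φP.range, ∀ w ∈ U', h * w * h⁻¹ ∈ U') →
      U' = ⊥ ∨ U' = φV.range := by
    intro U' hle hinv'
    rcases D.irr ((U'.comap φV).map V0.subtype) (map_subtype_le _) (fun g hg v hv => by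
      obtain ⟨w, hw, rfl⟩ := hv
      refine ⟨⟨_, D.inv g hg w w.2⟩, ?_, rfl⟩
      show f (g * w * g⁻¹) ∈ U'
      rw [hconj g hg w w.2]
      exact hinv' _ ⟨⟨g, hg⟩, rfl⟩ _ hw) with h | h
    · refine Or.inr (le_antisymm hle ?_)
      rintro _ ⟨v, rfl⟩
      have h1 : (v : G) ∈ (U'.comap φV).map V0.subtype := h.ge v.2
      exact (mem_map_iff_mem V0.subtype_injective).mp h1
    · refine Or.inl (eq_bot_iff.mpr fun w hw => ?_)
      obtain ⟨v, rfl⟩ := hle hw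
      exact mem_bot.mpr ((hkerV v v.2).mpr (h ⟨v, hw, rfl⟩))
  have hSΓ : (T.subgroupOf P).map φP ≤ φP.range := map_le_range _ _
  have hSp : IsPGroup p ↥((T.subgroupOf P).map φP) :=
    (H.syl.2.1.of_equiv (Subgroup.subgroupOfEquivOfLe H.syl.1).symm).map φP
  have hsyl : Grp.IsSylowIn p ((T.subgroupOf P).map φP) φP.range := by
    refine ⟨hSΓ, hSp, fun h => H.syl.2.2 (h.trans ?_)⟩
    rw [MonoidHom.range_eq_map, relIndex_map_map, top_sup_eq, relIndex_top_right]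
    exact index_dvd_of_le le_sup_left
  have hMne : M.subgroupOf P |>.map φP |> (· ≠ φP.range) := by
    intro e
    refine H.Mne (le_antisymm H.MP fun g hg => ?_)
    obtain ⟨m, hm, hme⟩ := e.ge ⟨⟨g, hg⟩, rfl⟩
    have h1 : m⁻¹ * ⟨g, hg⟩ ∈ φP.ker := by rw [MonoidHom.mem_ker, map_mul, map_inv, hme, inv_mul_cancel]
    have h2 : (m : G)⁻¹ * g ∈ M := D.CM ((hkerP _ (P.mul_mem (P.inv_mem m.2) hg)).mp (MonoidHom.mem_ker.mp h1))
    simpa using M.mul_mem (mem_subgroupOf.mp hm) h2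
  have hex : ∃ w ∈ φV.range ⊓ centralizer ((((T.subgroupOf P).map φP) : Subgroup _) : Set _),
      w ∉ centralizer (φP.range : Set _) := by
    by_contra hc
    push Not at hc
    obtain ⟨Z, hZ⟩ : ∃ Z, Z = φV.range ⊓ centralizer (φP.range : Set _) := ⟨_, rfl⟩
    have hWne : φV.range ≠ ⊥ := by
      intro e
      refine hMne (le_antisymm (map_le_range _ _) fun g hg => ?_)
      have : g = 1 := mem_bot.mp (hfaith.le (mem_inf.mpr ⟨hg, by
        rw [e]; exact mem_centralizer_iff.mpr fun w hw => by rw [mem_bot.mp hw, one_mul, mul_one]⟩))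
      exact this ▸ one_mem _
    rcases hirr Z (hZ ▸ inf_le_left) (fun h hh w hw => by
      rw [hZ] at hw ⊢
      have e : h * w * h⁻¹ = w := mul_inv_eq_iff_eq_mul.mpr (mem_centralizer_iff.mp hw.2 h hh)
      rw [e]; exact hw) with h0 | h0
    · obtain ⟨J, hJ⟩ : ∃ J, J = (T.subgroupOf P).map φP ⊔ φV.range := ⟨_, rfl⟩
      have hnW : (T.subgroupOf P).map φP ≤ normalizer (φV.range : Set _) := fun s hs => norm_of_cj
        (eq_of_le_of_card_ge (RootPair.cj_le.mpr (hWn s (hSΓ hs))) (card_cj _ _).ge)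
      have hJp : IsPGroup p ↥J := hJ ▸ hSp.to_sup_of_normal_right'
        (fun w => ⟨1, Subtype.ext (by rw [pow_one, coe_pow, coe_one]; exact hWexp _ w.2)⟩) hnW
      have : Group.IsNilpotent ↥J := hJp.isNilpotent
      have : (φV.range.subgroupOf J).Normal :=
        normal_subgroupOf_of_le_normalizer (hJ ▸ sup_le hnW le_normalizer)
      obtain ⟨z, hz, hz1⟩ := (bot_or_exists_ne_one _).resolve_left (Grp.inf_center_ne_bot (φV.range.subgroupOf J)
        fun e => hWne (by rwa [subgroupOf_eq_bot, disjoint_iff, inf_eq_left.mpr (hJ ▸ le_sup_right)] at e))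
      refine hz1 (Subtype.ext (mem_bot.mp (h0.le (hZ ▸ ⟨mem_subgroupOf.mp hz.1, hc _ ⟨mem_subgroupOf.mp hz.1, ?_⟩⟩))))
      exact mem_centralizer_iff.mpr fun s hs =>
        congrArg Subtype.val (Subgroup.mem_center_iff.mp hz.2 ⟨s, hJ ▸ mem_sup_left hs⟩)
    · refine hMne (le_antisymm (map_le_range _ _) fun g hg => ?_)
      have : g = 1 := mem_bot.mp (hfaith.le (mem_inf.mpr ⟨hg, mem_centralizer_iff.mpr fun w hw =>
        (mem_centralizer_iff.mp ((hZ.le (h0.ge hw)).2) g hg).symm⟩))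
      exact this ▸ one_mem _
  refine ⟨_, inferInstance, inferInstance, f, φV.range, φP.range, (T.subgroupOf P).map φP, (M.subgroupOf P).map φP,
    ⟨hmul, hinv, hmemW, hmemΓ, hmemS, hkerP, hkerV⟩, ?_, hirr⟩
  refine ⟨hWc, hWexp, hWn, hfaith, hsyl, map_mono fun x hx => H.TM hx, map_le_range _ _, hMne,
    fun K hK1 hK2 hK3 => ?_, fun Q hQ hQp hQn => ?_, ?_, fun h => ?_⟩
  · intro k hk
    obtain ⟨g, rfl⟩ := hK2 hk
    have hle : (K.comap φP).map P.subtype ≤ M := H.uniq _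
      (fun t ht => ⟨⟨t, H.syl.1 ht⟩, hK1 ⟨⟨t, H.syl.1 ht⟩, ht, rfl⟩, rfl⟩) (map_subtype_le _) fun e => hK3
        (le_antisymm hK2 fun x hx => by
          obtain ⟨y, rfl⟩ := hx
          exact (mem_map_iff_mem P.subtype_injective).mp (e.ge y.2))
    exact ⟨g, hle ⟨g, hk, rfl⟩, rfl⟩
  · obtain ⟨N', hN'⟩ : ∃ N', N' = (Q.comap φP).map P.subtype := ⟨_, rfl⟩
    have hN'inv : ∀ g ∈ P, ∀ n ∈ N', g * n * g⁻¹ ∈ N' := by
      intro g hg n hn
      rw [hN'] at hn ⊢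
      obtain ⟨m, hm, rfl⟩ := hn
      refine ⟨⟨g, hg⟩ * m * ⟨g, hg⟩⁻¹, ?_, rfl⟩
      show φP _ ∈ Q
      rw [map_mul, map_mul, map_inv]
      exact (mem_normalizer_iff.mp (hQn ⟨⟨g, hg⟩, rfl⟩) _).mp hm
    rcases H.cases (hN' ▸ map_subtype_le _) hN'inv with h | ⟨-, h⟩
    · exfalso
      refine hMne (le_antisymm (map_le_range _ _) ?_)
      have hJp : IsPGroup p ↥(Q ⊔ (T.subgroupOf P).map φP) := by
        exact (hSp.to_sup_of_normal_right' hQp (hSΓ.trans hQn)).of_equiv (MulEquiv.subgroupCongr (sup_comm _ _))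
      have he := hsyl.eq_of_le le_sup_right (sup_le hQ hSΓ) hJp
      have hPle : φP.range ≤ Q ⊔ (T.subgroupOf P).map φP := by
        rintro _ ⟨x, rfl⟩
        have h1 : x ∈ Q.comap φP ⊔ T.subgroupOf P := by
          have h2 : (x : G) ∈ N' ⊔ T := h x.2
          rw [hN', show T = (T.subgroupOf P).map P.subtype from (map_subgroupOf_eq_of_le H.syl.1).symm,
            ← Subgroup.map_sup] at h2
          exact (mem_map_iff_mem P.subtype_injective).mp h2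
        have h3 := mem_map_of_mem φP h1
        rw [Subgroup.map_sup] at h3
        exact sup_le_sup_right (map_comap_le _ _) _ h3
      exact hPle.trans (he.ge.trans (map_mono fun x hx => H.TM hx))
    · refine eq_bot_iff.mpr fun q hq => ?_
      obtain ⟨x, rfl⟩ := hQ hq
      obtain ⟨k, hk⟩ := hQp ⟨φP x, hq⟩
      refine mem_bot.mpr (coprime_pgroup_eq_one (Nat.Coprime.coprime_dvd_left (orderOf_map_dvd φP x) ?_)
        (congrArg Subtype.val hk))
      rw [← orderOf_injective P.subtype P.subtype_injective]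
      exact Nat.Coprime.coprime_dvd_left (orderOf_dvd_natCard N' (hN' ▸ ⟨x, hq, rfl⟩)) h
  · obtain ⟨Y, hY⟩ : ∃ Y, Y = closure {w | ∃ g ∈ φP.range,
        ∃ u ∈ φV.range ⊓ centralizer ((((T.subgroupOf P).map φP) : Subgroup _) : Set _), w = g * u * g⁻¹} := ⟨_, rfl⟩
    rw [← hY]
    have hYW : Y ≤ φV.range := hY ▸ (closure_le _).mpr (by
      rintro _ ⟨g, hg, u, hu, rfl⟩
      exact hWn g hg u hu.1)
    rcases hirr Y hYW (hY ▸ conj_closure (by
      rintro g hg _ ⟨h, hh, u, hu, rfl⟩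
      exact ⟨g * h, mul_mem hg hh, u, hu, by group⟩)) with h0 | h0
    · obtain ⟨w, hw, hwG⟩ := hex
      refine absurd (?_ : w ∈ centralizer (φP.range : Set _)) hwG
      have : w = 1 := mem_bot.mp (h0.le (hY ▸ subset_closure ⟨1, one_mem _, w, hw, by group⟩))
      exact this ▸ one_mem _
    · exact h0.ge
  · obtain ⟨w, hw, hwG⟩ := hex
    exact hwG (h hw)

end Cfsg.Agent.Fus.MinModule
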