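import Cfsg.Agent.Lib.Fus.PMinFF.Frame
import Cfsg.Agent.Lib.Fus.FFEmbeddedPair

/-!
# A member outside a maximal intersection is normal in its local stabiliser

The complement of the fixed space covered by a torus of the pair consists of exact commutators of conjugate
members, so it meets the first point in a subgroup invariant under the local stabiliser; the members then act on
a series stabilised by a single `p`-group.
-/

set_option autoImplicit false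
set_option linter.unusedSectionVars false
set_option linter.style.haveILetI false

open scoped commutatorElement Matrix

namespace Cfsg.Agent.Fus.RootPair

open Subgroup Matrix Cfsg.Agent.Grp Cfsg.Agent.Grp.OffenderSL2

universe u

/-- An element carrying the first basis vector to a given one. -/
theorem exists_map {F : Type} [Field F] {y : Fin 2 → F} (hy : y ≠ 0) :
    ∃ k : Matrix.SpecialLinearGroup (Fin 2) F, (k : Matrix (Fin 2) (Fin 2) F) *ᵥ ![1, 0] = y := by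
  by_cases h0 : y 0 = 0
  · have h1 : y 1 ≠ 0 := fun h1 => hy (funext fun i => by fin_cases i <;> simp [h0, h1])
    refine ⟨⟨!![0, -(y 1)⁻¹; y 1, 0], by rw [Matrix.det_fin_two_of]; field_simp; ring⟩, funext fun i => ?_⟩
    fin_cases i <;> simp [Matrix.mulVec, dotProduct, Fin.sum_univ_two, h0]
  · refine ⟨⟨!![y 0, 0; y 1, (y 0)⁻¹], by rw [Matrix.det_fin_two_of]; field_simp; ring⟩, funext fun i => ?_⟩
    fin_cases i <;> simp [Matrix.mulVec, dotProduct, Fin.sum_univ_two]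

variable {G : Type u} [Group G]

/-- The coordinates of a commutator. -/
theorem Frame.comm {W L A B : Subgroup G} {F : Type} [Field F] [Fintype F] (Φ : Frame W L A B F)
    (hn : ∀ e ∈ L, ∀ v ∈ W, ⁅e, v⁆ ∈ W) (e : ↥L) {v : G} (hv : v ∈ W) :
    Φ.lam ⁅(e : G), v⁆ = (Φ.rho e : Matrix (Fin 2) (Fin 2) F) *ᵥ Φ.lam v - Φ.lam v := by
  have h1 := Φ.add _ (hn e e.2 v hv) v hv
  rw [show ⁅(e : G), v⁆ * v = e * v * (e : G)⁻¹ by rw [commutatorElement_def]; group, Φ.act e v hv] at h1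
  exact eq_sub_of_add_eq h1.symm

variable [Finite G] {p : ℕ} [Fact p.Prime] {W Γ S M : Subgroup G} (C : Sit p W Γ S M)
  {g : G} {A : Subgroup G} (E : Ext p W Γ S M g A)
include C E

/-- A commutator of `A` in another point of the local group is trivial. -/
theorem Ext.disj {z a v : G} (hz : z ∈ loc p W Γ S g) (hzM : z ∉ M) (ha : a ∈ A) (hv : v ∈ W)
    (h : ⁅a, v⁆ ∈ cj z (W ⊓ centralizer (A : Set G))) : ⁅a, v⁆ = 1 := by
  obtain ⟨N', hN'⟩ : ∃ N', N' = A ⊔ cj z A := ⟨_, rfl⟩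
  have hAz : cj z A ≤ loc p W Γ S g := (cj_mono z E.leLoc).trans (cj_eq_of_norm (le_normalizer hz)).le
  have hAN : A ≤ N' := hN' ▸ le_sup_left
  obtain ⟨z', T', hz'N, Q'⟩ := E.exists_pr C (hN' ▸ sup_le E.leLoc hAz) hAN
    fun hle => hzM (E.conj_mem C hz ((hN' ▸ le_sup_right : cj z A ≤ N').trans hle))
  by_cases ha1 : a = 1
  · rw [ha1, commutatorElement_one_left]
  have hle : A ⊔ cj z' A ≤ centralizer ({⁅a, v⁆} : Set G) := by
    have hN : N' ≤ centralizer ({⁅a, v⁆} : Set G) := hN' ▸ sup_le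
      (fun c hc => mem_centralizer_singleton_iff.mpr (mul_inv_eq_iff_eq_mul.mp
        ((mem_fix.mp (FFEmb.quadratic_of_member C.wcomm C.wexp C.norm E.mem a ha v hv)).2 c hc)))
      (fun c hc => mem_centralizer_singleton_iff.mpr (mul_inv_eq_iff_eq_mul.mp
        ((mem_fix.mp ((C.cj_fix hz.1 A).le h)).2 c hc)))
    exact (sup_le hAN ((cj_mono z' hAN).trans (cj_eq_of_norm (le_normalizer hz'N)).le)).trans hN
  have hz' : ⁅a, v⁆ ∈ W ⊓ centralizer ((A ⊔ cj z' A : Subgroup G) : Set G) :=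
    ⟨(FFEmb.quadratic_of_member C.wcomm C.wexp C.norm E.mem a ha v hv).1, mem_centralizer_iff.mpr fun c hc =>
      mem_centralizer_singleton_iff.mp (hle hc)⟩
  rw [commutatorElement_def, (mem_fix.mp (Q'.reg C E ha ha1 hv hz')).2 a ha, mul_inv_cancel]

variable {x : G} {T : Subgroup G} (Q : Pr p W Γ S M g A x T) {F : Type} [Field F] [Fintype F]
  (Φ : Frame W (A ⊔ cj x A) A (cj x A) F)
include Q Φ

theorem Pr.P_loc : A ⊔ cj x A ≤ loc p W Γ S g :=
  sup_le E.leLoc ((cj_mono x E.leLoc).trans (cj_eq_of_norm (le_normalizer Q.xloc)).le)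

/-- The elements of the pair inside `M` preserve the first point. -/
theorem Frame.stab {k : ↥(A ⊔ cj x A)} (hk : (k : G) ∈ M) :
    (Φ.rho k : Matrix (Fin 2) (Fin 2) F) 1 0 = 0 ∧
      cj (k : G) (W ⊓ centralizer (A : Set G)) = W ⊓ centralizer (A : Set G) := by
  obtain ⟨u, hu, huG⟩ := C.exists_vec
  have huH : u ∈ W ⊓ centralizer (A : Set G) := mem_fix.mpr ⟨hu.1, fun b hb => (mem_fix.mp hu).2 b (E.leS hb)⟩
  have h1 := (Φ.lineA u hu.1).mp huH
  have h0 : Φ.lam u 0 ≠ 0 := by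
    intro h0
    have hz : u ∈ W ⊓ centralizer ((A ⊔ cj x A : Subgroup G) : Set G) :=
      (Φ.ker u hu.1).mp (funext fun i => by fin_cases i <;> simp [h0, h1])
    have h := Q.vec_notZ C E (one_mem _) hu huG
    rw [one_mul, inv_one, mul_one] at h
    exact h hz
  have hku := Q.point_mem C E hu huG (Pr.P_loc C E Q Φ k.2) hk
  have h2 := (Φ.lineA _ hku.1).mp hku
  rw [Φ.act k u hu.1] at h2
  have h10 : (Φ.rho k : Matrix (Fin 2) (Fin 2) F) 1 0 = 0 := by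
    have h3 : (Φ.rho k : Matrix (Fin 2) (Fin 2) F) 1 0 * Φ.lam u 0 = 0 := by
      simpa [Matrix.mulVec, dotProduct, Fin.sum_univ_two, h1] using h2
    exact (mul_eq_zero.mp h3).resolve_right h0
  refine ⟨h10, eq_of_le_of_card_ge (cj_le.mpr fun v hv => ?_) (card_cj _ _).ge⟩
  have hw : (k : G) * v * (k : G)⁻¹ ∈ W := Q.conf.norm k k.2 v hv.1
  refine (Φ.lineA _ hw).mpr ?_
  rw [Φ.act k v hv.1]
  simp [Matrix.mulVec, dotProduct, Fin.sum_univ_two, h10, (Φ.lineA v hv.1).mp hv]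

/-- The diagonal elements lie in `M`. -/
theorem Frame.dg_mem {k : ↥(A ⊔ cj x A)} {c : Fˣ} (hk : Φ.rho k = dg c) : (k : G) ∈ M := by
  by_contra hkM
  obtain ⟨u, hu, huG⟩ := C.exists_vec
  have huH : u ∈ W ⊓ centralizer (A : Set G) := mem_fix.mpr ⟨hu.1, fun b hb => (mem_fix.mp hu).2 b (E.leS hb)⟩
  have hl : (k : G) ∈ loc p W Γ S g := Pr.P_loc C E Q Φ k.2
  refine hkM (E.fix_coset C hu huG hl.1 ((cj_eq_of_norm hl.2).ge.trans (cj_mono _ (C.delta_le g))) fun a ha => ?_)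
  have hw : (k : G) * u * (k : G)⁻¹ ∈ W := Q.conf.norm k k.2 u hu.1
  refine (mem_fix.mp ((Φ.lineA _ hw).mpr ?_)).2 a ha
  rw [Φ.act k u hu.1, hk, dg_mulVec]
  simp [(Φ.lineA u hu.1).mp huH]

/-- The covered complement. -/
theorem Frame.exists_comp : ∃ U : Subgroup G, U ≤ W ∧
    (∀ y ∈ U, Φ.lam y = 0 → y = 1) ∧ (∀ z, ∃ y ∈ U, Φ.lam y = z) ∧
    (∀ y ∈ U, y ≠ 1 → ∃ k ∈ A ⊔ cj x A, ∃ a ∈ A, ∃ v ∈ W, y = k * ⁅a, v⁆ * k⁻¹) ∧
    ∃ a ∈ A, a ≠ 1 ∧ ∀ v ∈ W, ⁅a, v⁆ ∈ U := by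
  classical
  obtain ⟨n, hn⟩ := IsPGroup.iff_card.mp E.mem.pg
  haveI : CharP F p := Invol.Nat2.charP_of_card (F := F) (Φ.card.trans hn)
  obtain ⟨t0, ht0, htor⟩ := FFEmb.exists_torus (F := F) (p := p)
  obtain ⟨t, ht⟩ := Φ.bij.2 t0
  have hnm : ∀ e ∈ A ⊔ cj x A, ∀ v ∈ W, ⁅e, v⁆ ∈ W := fun e he v hv => Q.conf.comm_mem he hv
  let φ : ↥W →* G :=
    { toFun := fun v => ⁅(t : G), (v : G)⁆
      map_one' := by simp
      map_mul' := fun v w => Q.conf.comm_mul_right t.2 v.2 w.2 }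
  obtain ⟨U, hU⟩ : ∃ U, U = φ.range := ⟨_, rfl⟩
  have hUW : U ≤ W := by
    rw [hU]; rintro _ ⟨v, rfl⟩; exact hnm t t.2 v v.2
  have hinj : ∀ y, (t0 : Matrix (Fin 2) (Fin 2) F) *ᵥ y - y = 0 → y = 0 := fun y h => ht0 y (sub_eq_zero.mp h)
  have hU0 : ∀ y ∈ U, Φ.lam y = 0 → y = 1 := by
    intro y hy h0
    rw [hU] at hy
    obtain ⟨v, rfl⟩ := hy
    have h1 : Φ.lam ⁅(t : G), (v : G)⁆ = 0 := h0
    rw [Φ.comm hnm t v.2, ht] at h1
    have h2 := (mem_fix.mp ((Φ.ker _ v.2).mp (hinj _ h1))).2 t t.2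
    show ⁅(t : G), (v : G)⁆ = 1
    rw [commutatorElement_def, h2, mul_inv_cancel]
  have hsurj : ∀ z, ∃ y ∈ U, Φ.lam y = z := by
    intro z
    have hb : Function.Bijective fun y : Fin 2 → F => (t0 : Matrix (Fin 2) (Fin 2) F) *ᵥ y - y := by
      refine (Finite.injective_iff_bijective).mp fun y y' h => sub_eq_zero.mp (hinj _ ?_)
      have h' : (t0 : Matrix (Fin 2) (Fin 2) F) *ᵥ y - y = (t0 : Matrix (Fin 2) (Fin 2) F) *ᵥ y' - y' := h
      rw [Matrix.mulVec_sub, sub_sub_sub_comm, h', sub_self]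
    obtain ⟨y, hy⟩ := hb.2 z
    obtain ⟨v, hv, rfl⟩ := Φ.surj y
    refine ⟨φ ⟨v, hv⟩, hU ▸ ⟨_, rfl⟩, ?_⟩
    show Φ.lam ⁅(t : G), v⁆ = z
    rw [Φ.comm hnm t hv, ht]
    exact hy
  -- the element for one vector
  have hkey : ∀ y ∈ U, y ≠ 1 → ∃ d : ↥(A ⊔ cj x A),
      (Φ.rho d : Matrix (Fin 2) (Fin 2) F) *ᵥ Φ.lam y = Φ.lam y ∧
      (∀ v ∈ W, ⁅(d : G), v⁆ ∈ U) ∧ ∃ v ∈ W, ⁅(d : G), v⁆ = y := by
    intro y hy hy1
    have hne : Φ.lam y ≠ 0 := fun h => hy1 (hU0 y hy h)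
    obtain ⟨d0, -, hdy, hdt, x0, hx0⟩ := htor _ hne
    obtain ⟨d, hd⟩ := Φ.bij.2 d0
    have hnorm : ∀ w ∈ U, ⁅(d : G), w⁆ ∈ U := by
      intro w hw
      refine U.mul_mem ?_ (U.inv_mem hw)
      rw [hU] at hw
      obtain ⟨v, rfl⟩ := hw
      have hdv : (d : G) * v * (d : G)⁻¹ ∈ W := Q.conf.norm d d.2 v v.2
      have e : (d : G) * φ v * (d : G)⁻¹ = ⁅(d : G) * t * (d : G)⁻¹, (d : G) * v * (d : G)⁻¹⁆ := by
        show (d : G) * ⁅(t : G), (v : G)⁆ * _ = _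
        simp only [commutatorElement_def]; group
      rw [e, hU]
      rcases hdt with h | h
      · have h' : d * t = t * d := Φ.bij.1 (by rw [map_mul, map_mul, hd, ht, h])
        rw [show (d : G) * t * (d : G)⁻¹ = t by rw [mul_inv_eq_iff_eq_mul]; exact congrArg Subtype.val h']
        exact ⟨⟨_, hdv⟩, rfl⟩
      · have h' : d * t = t⁻¹ * d := Φ.bij.1 (by rw [map_mul, map_mul, map_inv, hd, ht, h])
        rw [show (d : G) * t * (d : G)⁻¹ = (t : G)⁻¹ by rw [mul_inv_eq_iff_eq_mul]; exact congrArg Subtype.val h',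
          show ∀ z : G, ⁅(t : G)⁻¹, z⁆ = ⁅(t : G), (t : G)⁻¹ * z * t⁆⁻¹ from fun z => by
            simp only [commutatorElement_def]; group]
        exact inv_mem ⟨⟨_, by simpa using Q.conf.norm _ (inv_mem t.2) _ hdv⟩, rfl⟩
    have hall : ∀ v ∈ W, ⁅(d : G), v⁆ ∈ U := by
      intro v hv
      obtain ⟨w, hw, he⟩ := hsurj (Φ.lam v)
      have hz : w⁻¹ * v ∈ W ⊓ centralizer ((A ⊔ cj x A : Subgroup G) : Set G) := by
        refine (Φ.ker _ (W.mul_mem (W.inv_mem (hUW hw)) hv)).mp ?_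
        have h1 := Φ.add w (hUW hw) _ (W.mul_mem (W.inv_mem (hUW hw)) hv)
        rw [mul_inv_cancel_left, ← he] at h1
        exact left_eq_add.mp h1
      rw [show v = w * (w⁻¹ * v) by group, Q.conf.comm_mul_right d.2 (hUW hw) hz.1,
        show ⁅(d : G), w⁻¹ * v⁆ = 1 by rw [commutatorElement_def, (mem_fix.mp hz).2 _ d.2, mul_inv_cancel],
        mul_one]
      exact hnorm w hw
    refine ⟨d, by rw [hd, hdy], hall, ?_⟩
    obtain ⟨v, hv, hvx⟩ := Φ.surj x0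
    refine ⟨v, hv, mul_inv_eq_one.mp (hU0 _ (U.mul_mem (hall v hv) (U.inv_mem hy)) ?_)⟩
    have h1 := Φ.add _ (W.mul_mem (hnm d d.2 v hv) (W.inv_mem (hUW hy))) _ (hUW hy)
    rw [inv_mul_cancel_right, Φ.comm hnm d hv, hd, hvx, hx0] at h1
    exact left_eq_add.mp (h1.trans (add_comm _ _))
  refine ⟨U, hUW, hU0, hsurj, fun y hy hy1 => ?_, ?_⟩
  · obtain ⟨d, hdy, -, v, hv, hdv⟩ := hkey y hy hy1
    obtain ⟨k0, hk0⟩ := exists_map (fun h => hy1 (hU0 y hy h) : Φ.lam y ≠ 0)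
    obtain ⟨k, hk⟩ := Φ.bij.2 k0
    have hm : ((k⁻¹ * d * k : ↥(A ⊔ cj x A)) : G) ∈ A := by
      refine (Φ.memA _).mpr ?_
      rw [map_mul, map_mul, map_inv, hk, Matrix.SpecialLinearGroup.coe_mul, Matrix.SpecialLinearGroup.coe_mul,
        ← Matrix.mulVec_mulVec, hk0, ← Matrix.mulVec_mulVec, hdy, ← hk0, Matrix.mulVec_mulVec,
        ← Matrix.SpecialLinearGroup.coe_mul, inv_mul_cancel, Matrix.SpecialLinearGroup.coe_one, Matrix.one_mulVec]
    refine ⟨k, k.2, _, hm, (k : G)⁻¹ * v * k, by simpa using Q.conf.norm _ (inv_mem k.2) v hv, ?_⟩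
    rw [← hdv]
    simp only [coe_mul, coe_inv, commutatorElement_def]
    group
  · obtain ⟨y, hy, hye⟩ := hsurj ![1, 0]
    have hy1 : y ≠ 1 := fun h => by
      rw [h, (Φ.ker 1 (one_mem _)).mpr (one_mem _)] at hye
      exact one_ne_zero (congrFun hye 0).symm
    obtain ⟨d, hdy, hall, v, hv, hdv⟩ := hkey y hy hy1
    exact ⟨d, (Φ.memA d).mpr (hye ▸ hdy), fun h => hy1 (by rw [← hdv, h, commutatorElement_one_left]), hall⟩

/-- The member is normal in the local stabiliser. -/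
theorem Ext.normal_of_frame {m : G} (hm : m ∈ loc p W Γ S g) (hmM : m ∈ M) : cj m A = A := by
  classical
  obtain ⟨n, hn⟩ := IsPGroup.iff_card.mp E.mem.pg
  haveI : CharP F p := Invol.Nat2.charP_of_card (F := F) (Φ.card.trans hn)
  obtain ⟨U, hUW, hU0, hUs, hUy, a0, ha0, ha01, ha0U⟩ := Frame.exists_comp C E Q Φ
  obtain ⟨H, hH⟩ : ∃ H, H = W ⊓ centralizer (A : Set G) := ⟨_, rfl⟩
  have hHW : H ≤ W := hH ▸ inf_le_left
  have hquad : ∀ a ∈ A, ∀ v ∈ W, ⁅a, v⁆ ∈ H := fun a ha v hv =>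
    hH ▸ FFEmb.quadratic_of_member C.wcomm C.wexp C.norm E.mem a ha v hv
  have hle1 : Nat.card ↥(U ⊓ H) ≤ Nat.card A := by
    rw [← Φ.card, ← Nat.card_eq_fintype_card]
    refine Nat.card_le_card_of_injective (fun y : ↥(U ⊓ H) => Φ.lam y 0) fun y y' h => ?_
    have hyH : ∀ z : ↥(U ⊓ H), Φ.lam z 1 = 0 := fun z => (Φ.lineA _ (hUW z.2.1)).mp (hH.le z.2.2)
    have h1 : Φ.lam y = Φ.lam y' := funext fun i => by fin_cases i; exacts [h, (hyH y).trans (hyH y').symm]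
    refine Subtype.ext (mul_inv_eq_one.mp (hU0 _ (U.mul_mem y.2.1 (U.inv_mem y'.2.1)) ?_))
    have h2 := Φ.add _ (W.mul_mem (hUW y.2.1) (W.inv_mem (hUW y'.2.1))) _ (hUW y'.2.1)
    rw [inv_mul_cancel_right, h1] at h2
    exact left_eq_add.mp (h2.trans (add_comm _ _))
  have hge : ∀ k ∈ Γ, Nat.card A ≤ Nat.card ↥(U ⊓ cj k H) := by
    intro k hk
    have hkW : cj k H ≤ W := (cj_mono k hHW).trans (C.cj_W hk).le
    have e := Grp.card_sup_mul_card_inf (H := U) (N := cj k H) fun w hw => centralizer_le_normalizer _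
      (mem_centralizer_iff.mpr fun c hc => C.wcomm c (hkW hc) w (hUW hw))
    have hle := Nat.mul_le_mul_right (Nat.card ↥(U ⊓ cj k H)) (card_le_of_le (sup_le hUW hkW))
    have hUc : Nat.card A * Nat.card A ≤ Nat.card U := by
      choose f hfU hf using hUs
      refine le_of_eq_of_le ?_ (Nat.card_le_card_of_injective (fun z => (⟨f z, hfU z⟩ : U)) fun z z' h => ?_)
      · rw [Nat.card_fun, Nat.card_fin, Nat.card_eq_fintype_card (α := F), Φ.card, pow_two]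
      · rw [← hf z, show f z = f z' from congrArg Subtype.val h, hf z']
    rw [e, card_cj, (Q.cards C E).2, ← hH] at hle
    refine Nat.le_of_mul_le_mul_left (?_ : Nat.card A * Nat.card H * _ ≤ Nat.card A * Nat.card H * _)
      (Nat.mul_pos Nat.card_pos Nat.card_pos)
    calc Nat.card A * Nat.card H * Nat.card A = Nat.card A * Nat.card A * Nat.card H := by ring
      _ ≤ _ := (Nat.mul_le_mul_right _ hUc).trans hle
  have hline : ∀ k ∈ loc p W Γ S g ⊓ M, U ⊓ H ≤ cj k H := by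
    intro k hk
    have hle : U ⊓ cj k H ≤ U ⊓ H := by
      intro y hy
      refine ⟨hy.1, ?_⟩
      by_cases hy1 : y = 1
      · exact hy1 ▸ one_mem _
      obtain ⟨j, hj, a, ha, v, hv, rfl⟩ := hUy y hy.1 hy1
      have hjl : j ∈ loc p W Γ S g := Pr.P_loc C E Q Φ hj
      have hjM : j ∈ M := by
        by_contra hn
        refine hy1 ?_
        rw [E.disj C (z := j⁻¹ * k) (mul_mem (inv_mem hjl) hk.1)
          (fun h => hn (by simpa using M.mul_mem hk.2 (M.inv_mem h))) ha hv ?_]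
        · group
        · have := mem_cj.mp hy.2
          rw [← hH, mem_cj, show (j⁻¹ * k)⁻¹ * ⁅a, v⁆ * (j⁻¹ * k) = k⁻¹ * (j * ⁅a, v⁆ * j⁻¹) * k by group]
          exact this
      have hfix := (Frame.stab C E Q Φ (k := ⟨j, hj⟩) hjM).2
      rw [← hH] at hfix
      exact hfix.le (conj_mem_cj j (hquad a ha v hv))
    exact (eq_of_le_of_card_ge hle (hle1.trans (hge k hk.1.1))).ge.trans inf_le_right
  -- the invariant part of the first point
  obtain ⟨L0, hL0⟩ : ∃ L0 : Subgroup G, L0 = ⨅ k ∈ loc p W Γ S g ⊓ M, cj k H := ⟨_, rfl⟩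
  have hL0H : L0 ≤ H := by
    intro y hy
    rw [hL0, mem_iInf] at hy
    simpa using mem_cj.mp (mem_iInf.mp (hy 1) (one_mem _))
  have hL0n : ∀ k ∈ loc p W Γ S g ⊓ M, ∀ y ∈ L0, k * y * k⁻¹ ∈ L0 := by
    intro k hk y hy
    rw [hL0, mem_iInf] at hy ⊢
    intro j
    refine mem_iInf.mpr fun hj => ?_
    have h1 := mem_iInf.mp (hy (k⁻¹ * j)) (mul_mem (inv_mem hk) hj)
    rw [mem_cj] at h1 ⊢
    convert h1 using 1
    group
  have hlL : U ⊓ H ≤ L0 := hL0 ▸ le_iInf₂ hline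
  -- the stabiliser of the series
  obtain ⟨K, hK⟩ : ∃ K : Subgroup G, ∀ k, k ∈ K ↔ k ∈ loc p W Γ S g ⊓ M ∧ (∀ w ∈ L0, k * w * k⁻¹ = w) ∧
      ∀ v ∈ W, ⁅k, v⁆ ∈ L0 :=
    ⟨{ carrier := {k | k ∈ loc p W Γ S g ⊓ M ∧ (∀ w ∈ L0, k * w * k⁻¹ = w) ∧ ∀ v ∈ W, ⁅k, v⁆ ∈ L0}
       one_mem' := ⟨one_mem _, fun w _ => by simp, fun v _ => by rw [commutatorElement_one_left]; exact one_mem _⟩
       mul_mem' := fun {a b} ha hb => ⟨mul_mem ha.1 hb.1, fun w hw => by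
          rw [show a * b * w * (a * b)⁻¹ = a * (b * w * b⁻¹) * a⁻¹ by group, hb.2.1 w hw, ha.2.1 w hw],
        fun v hv => by
          rw [show ⁅a * b, v⁆ = (a * ⁅b, v⁆ * a⁻¹) * ⁅a, v⁆ by simp only [commutatorElement_def]; group,
            ha.2.1 _ (hb.2.2 v hv)]
          exact mul_mem (hb.2.2 v hv) (ha.2.2 v hv)⟩
       inv_mem' := fun {a} ha => ⟨inv_mem ha.1, fun w hw => by
          calc a⁻¹ * w * a⁻¹⁻¹ = a⁻¹ * (a * w * a⁻¹) * a := by rw [ha.2.1 w hw]; group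
            _ = w := by group,
        fun v hv => by
          have e1 : a⁻¹ * ⁅a, v⁆ * a = ⁅a, v⁆ := by
            calc a⁻¹ * ⁅a, v⁆ * a = a⁻¹ * (a * ⁅a, v⁆ * a⁻¹) * a := by rw [ha.2.1 _ (ha.2.2 v hv)]
              _ = _ := by group
          rw [show ⁅a⁻¹, v⁆ = (a⁻¹ * ⁅a, v⁆ * a)⁻¹ by simp only [commutatorElement_def]; group, e1]
          exact inv_mem (ha.2.2 v hv)⟩ }, fun _ => Iff.rfl⟩
  have hKp : IsPGroup p K := fun k => ⟨1, Subtype.ext (by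
    rw [pow_one, coe_pow, coe_one, ← mem_bot, ← C.faith]
    obtain ⟨hk1, hk2, hk3⟩ := (hK _).mp k.2
    refine mem_inf.mpr ⟨pow_mem hk1.1.1 p, mem_centralizer_iff.mpr fun v hv => ?_⟩
    have hind : ∀ i : ℕ, (k : G) ^ i * v * ((k : G) ^ i)⁻¹ = ⁅(k : G), v⁆ ^ i * v := by
      intro i
      induction i with
      | zero => simp
      | succ i ih =>
        calc (k : G) ^ (i + 1) * v * ((k : G) ^ (i + 1))⁻¹
            = (k : G) * ((k : G) ^ i * v * ((k : G) ^ i)⁻¹) * (k : G)⁻¹ := by rw [pow_succ']; group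
          _ = ((k : G) * ⁅(k : G), v⁆ ^ i * (k : G)⁻¹) * (⁅(k : G), v⁆ * v) := by
            rw [ih, commutatorElement_def]; group
          _ = _ := by rw [hk2 _ (pow_mem (hk3 v hv) i), pow_succ, mul_assoc]
    have h := hind p
    rw [C.wexp _ (hHW (hL0H (hk3 v hv))), one_mul] at h
    exact (mul_inv_eq_iff_eq_mul.mp h).symm)⟩
  have hKn : ∀ j ∈ loc p W Γ S g ⊓ M, ∀ k ∈ K, j * k * j⁻¹ ∈ K := by
    intro j hj k hk
    obtain ⟨hk1, hk2, hk3⟩ := (hK k).mp hk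
    refine (hK _).mpr ⟨mul_mem (mul_mem hj hk1) (inv_mem hj), fun w hw => ?_, fun v hv => ?_⟩
    · have h1 := hL0n j⁻¹ (inv_mem hj) w hw
      rw [inv_inv] at h1
      calc j * k * j⁻¹ * w * (j * k * j⁻¹)⁻¹ = j * (k * (j⁻¹ * w * j) * k⁻¹) * j⁻¹ := by group
        _ = w := by rw [hk2 _ h1]; group
    · have h1 := hL0n j hj _ (hk3 (j⁻¹ * v * j) (by simpa using C.norm j⁻¹ (inv_mem hj.1.1) v hv))
      rw [show ⁅j * k * j⁻¹, v⁆ = j * ⁅k, j⁻¹ * v * j⁆ * j⁻¹ by simp only [commutatorElement_def]; group]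
      exact h1
  have hAK' : ∀ a ∈ A, (∀ v ∈ W, ⁅a, v⁆ ∈ L0) → a ∈ K := fun a ha h =>
    (hK a).mpr ⟨⟨E.leLoc ha, C.SM (E.leS ha)⟩, fun w hw => (mem_fix.mp (hH.le (hL0H hw))).2 a ha, h⟩
  -- all of `A` stabilises the series
  obtain ⟨e0, he0⟩ : ∃ e0 : ↥(A ⊔ cj x A), (e0 : G) = a0 := ⟨⟨a0, le_sup_left (b := cj x A) ha0⟩, rfl⟩
  obtain ⟨c0, hc0⟩ : ∃ c0, Φ.rho e0 = SL2.up c0 := ⟨_, eq_up_of_fix _ ((Φ.memA e0).mp (he0 ▸ ha0))⟩
  have hc00 : c0 ≠ 0 := fun h => ha01 (by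
    rw [← he0, show e0 = 1 from Φ.bij.1 (by rw [hc0, h, SL2.up_zero, map_one])]; rfl)
  let B0 : AddSubgroup F :=
    { carrier := {c | ∃ e : ↥(A ⊔ cj x A), Φ.rho e = SL2.up c ∧ (e : G) ∈ K}
      zero_mem' := ⟨1, by rw [map_one, SL2.up_zero], one_mem _⟩
      add_mem' := fun {c c'} ⟨e, he, hk⟩ ⟨e', he', hk'⟩ =>
        ⟨e * e', by rw [map_mul, he, he', SL2.up_mul], K.mul_mem hk hk'⟩
      neg_mem' := fun {c} ⟨e, he, hk⟩ => ⟨e⁻¹, by
        rw [map_inv, he, inv_eq_of_mul_eq_one_right]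
        rw [SL2.up_mul, add_neg_cancel, SL2.up_zero], K.inv_mem hk⟩ }
  have hsq : ∀ s : F, s * s * c0 ∈ B0 := by
    intro s
    by_cases hs : s = 0
    · rw [hs, mul_zero, zero_mul]; exact B0.zero_mem
    obtain ⟨j, hj⟩ := Φ.bij.2 (dg (Units.mk0 s hs))
    have hjl : (j : G) ∈ loc p W Γ S g ⊓ M := ⟨Pr.P_loc C E Q Φ j.2, Frame.dg_mem C E Q Φ hj⟩
    refine ⟨j * e0 * j⁻¹, ?_, hKn j hjl a0 (hAK' a0 ha0 fun v hv => hlL ⟨ha0U v hv, hquad a0 ha0 v hv⟩) |> fun h => by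
      simpa [he0] using h⟩
    rw [map_mul, map_mul, map_inv, hj, hc0, mul_inv_eq_iff_eq_mul]
    refine Matrix.SpecialLinearGroup.ext _ _ fun i j => ?_
    rw [Matrix.SpecialLinearGroup.coe_mul, Matrix.SpecialLinearGroup.coe_mul]
    fin_cases i <;> fin_cases j <;> simp [dg, SL2.up, Matrix.mul_apply, Fin.sum_univ_two] <;> field_simp
  have hB0 : ∀ c, c ∈ B0 := by
    intro c
    by_cases h2 : p = 2
    · haveI : CharP F 2 := CharP.congr p h2
      obtain ⟨s, hs⟩ := (Finite.injective_iff_surjective).mp (frobenius_inj F 2) (c / c0)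
      have := hsq s
      rwa [← pow_two, show s ^ 2 = c / c0 from hs, div_mul_cancel₀ _ hc00] at this
    · have h20 : (2 : F) ≠ 0 := Ring.two_ne_zero (by rw [ringChar.eq F p]; exact h2)
      have := B0.sub_mem (hsq ((c / c0 + 1) / 2)) (hsq ((c / c0 - 1) / 2))
      convert this using 1
      field_simp
      ring
  have hAK : A ≤ K := by
    intro a ha
    obtain ⟨e, he⟩ : ∃ e : ↥(A ⊔ cj x A), (e : G) = a := ⟨⟨a, le_sup_left (b := cj x A) ha⟩, rfl⟩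
    obtain ⟨e', he', hk'⟩ := hB0 ((Φ.rho e : Matrix (Fin 2) (Fin 2) F) 0 1)
    rw [← eq_up_of_fix _ ((Φ.memA e).mp (he ▸ ha))] at he'
    rw [← he, ← Φ.bij.1 he']
    exact hk'
  have hmA : cj m A ≤ K := cj_le.mpr fun a ha => hKn m ⟨hm, hmM⟩ a (hAK ha)
  -- one Sylow subgroup contains both
  have hKl : K ≤ loc p W Γ S g := fun k hk => ((hK k).mp hk).1.1
  obtain ⟨m', hm', hle⟩ := C.into_sylow (g := 1) (Q := delta p W Γ S g ⊔ K)
    (by rw [cj_one]; exact sup_le ((C.delta_le g).trans C.SM) fun k hk => ((hK k).mp hk).1.2)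
    (C.pgroup_delta_sup hKp hKl)
  rw [one_mul] at hle
  have hm'Γ : m'⁻¹ ∈ Γ := inv_mem (C.MG hm')
  obtain ⟨g', hg'⟩ : ∃ g', g' = m'⁻¹ * g := ⟨_, rfl⟩
  have hg'Γ : g' ∈ Γ := hg' ▸ mul_mem hm'Γ E.top.mem
  have hg'M : g' ∉ M := fun h => E.top.notM (by simpa [hg'] using M.mul_mem hm' h)
  have hsub : cj m'⁻¹ '' inter p W Γ S g ⊆ inter p W Γ S g' := by
    rintro _ ⟨B, hB, rfl⟩
    refine ⟨⟨C.member_cj hm'Γ hB.1.1, cj_inv_le ((le_jn hB).trans (le_sup_left.trans hle))⟩,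
      C.member_cj hm'Γ hB.1.1, ?_⟩
    rw [hg', ← cj_cj]
    exact cj_mono _ hB.2.2
  have heq : inter p W Γ S g' = cj m'⁻¹ '' inter p W Γ S g :=
    (Set.eq_of_subset_of_ncard_le hsub ((E.top.max g' hg'Γ hg'M).trans
      (Set.ncard_image_of_injective _ (cj_inj _)).ge) (Set.toFinite _)).symm
  have hT : Top p W Γ S M g' := ⟨hg'Γ, hg'M, fun h h1 h2 => (E.top.max h h1 h2).trans
    (by rw [heq, Set.ncard_image_of_injective _ (cj_inj _)])⟩
  have hext : ∀ B : Subgroup G, Member p W Γ B → B ∉ inter p W Γ S g → B ≤ K →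
      Ext p W Γ S M g' (cj m'⁻¹ B) := fun B hB hn hBK =>
    { top := hT
      mem := C.member_cj hm'Γ hB
      leS := cj_inv_le (hBK.trans (le_sup_right.trans hle))
      notin := fun h => by
        rw [heq] at h
        obtain ⟨D, hD, he⟩ := h
        exact hn (cj_inj _ he ▸ hD)
      leLoc := cj_le.mpr fun b hb => mem_inf.mpr ⟨mul_mem (mul_mem hm'Γ (hB.le hb)) (inv_mem hm'Γ), by
        have h1 := cj_normalizer (g := m'⁻¹) (hKl (hBK hb)).2
        rwa [delta, cj_jn, ← heq] at h1⟩ }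
  have hnA : cj m A ∉ inter p W Γ S g := fun h => E.notin (by
    have := C.inter_conj (inv_mem hm) h
    rwa [cj_cj, inv_mul_cancel, cj_one] at this)
  exact cj_inj m'⁻¹ ((hext A E.mem E.notin hAK).unique C (hext _ (C.member_cj hm.1 E.mem) hnA hmA))

omit Q Φ in
/-- The member is normal in the local stabiliser. -/
theorem Ext.normal {m : G} (hm : m ∈ loc p W Γ S g) (hmM : m ∈ M) : cj m A = A := by
  obtain ⟨x, T, Q⟩ := E.exists_pair C
  obtain ⟨F, _, _, ⟨Φ⟩⟩ := frame C E Q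
  exact Ext.normal_of_frame C E Q Φ hm hmM

end Cfsg.Agent.Fus.RootPair
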