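import Cfsg.Agent.Lib.Fus.PMinFF.Pair

/-!
# Every member is omitted, in every characteristic

For members of order at least three a torus of the pair cuts out of the first point a complement of the fixed
space invariant under the stabiliser of the member; this replaces the central involution of the odd case.
-/

set_option autoImplicit false
set_option linter.unusedSectionVars false
set_option linter.style.haveILetI false

open scoped commutatorElement Matrix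

namespace Cfsg.Agent.Fus.RootPair

open Subgroup Matrix Cfsg.Agent.Grp Cfsg.Agent.Grp.OffenderSL2

universe u

variable {G : Type u} [Group G] [Finite G] {p : ℕ} [Fact p.Prime] {W Γ S M : Subgroup G} (C : Sit p W Γ S M)
  {g : G} {A : Subgroup G} (E : Ext p W Γ S M g A)
include C E

/-- A complement in the first point invariant under the stabiliser of the member. -/
theorem Frame.exists_line {x : G} {T : Subgroup G} (Q : Pr p W Γ S M g A x T) {F : Type} [Field F] [Fintype F]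
    (Φ : Frame W (A ⊔ cj x A) A (cj x A) F) (hq : 2 < Nat.card A) :
    ∃ Y : Subgroup G, Y ≤ W ∧ Y ≤ ⁅A, W⁆ ∧
      Y ⊓ (W ⊓ centralizer ((A ⊔ cj x A : Subgroup G) : Set G)) = ⊥ ∧ 2 < Nat.card Y ∧
      ∀ e ∈ S ⊓ loc p W Γ S g, ∀ y ∈ Y, e * y * e⁻¹ ∈ Y := by
  classical
  obtain ⟨n, hn⟩ := IsPGroup.iff_card.mp E.mem.pg
  haveI : CharP F p := Invol.Nat2.charP_of_card (F := F) (Φ.card.trans hn)
  obtain ⟨L, hL⟩ : ∃ L, L = A ⊔ cj x A := ⟨_, rfl⟩
  obtain ⟨H, hH⟩ : ∃ H, H = W ⊓ centralizer (A : Set G) := ⟨_, rfl⟩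
  obtain ⟨Z, hZ⟩ : ∃ Z, Z = W ⊓ centralizer ((A ⊔ cj x A : Subgroup G) : Set G) := ⟨_, rfl⟩
  rw [← hZ]
  have hHW : H ≤ W := hH ▸ inf_le_left
  have hLl : A ⊔ cj x A ≤ loc p W Γ S g := Pr.P_loc C E Q Φ
  obtain ⟨K, hK⟩ : ∃ K, K = (A ⊔ cj x A) ⊓ M := ⟨_, rfl⟩
  have hKA : ∀ k ∈ K, cj k A = A := fun k hk => by
    rw [hK] at hk; exact E.normal C (hLl hk.1) hk.2
  have hKH : ∀ k ∈ K, ∀ h ∈ H, k * h * k⁻¹ ∈ H := fun k hk h hh => by
    have := conj_mem_cj k hh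
    rw [hH, C.cj_fix (hLl (hK.le hk).1).1, hKA k hk] at this
    exact hH ▸ this
  obtain ⟨d, hd⟩ : ∃ d : Fˣ → ↥(A ⊔ cj x A), ∀ c, Φ.rho (d c) = dg c :=
    ⟨fun c => (Φ.bij.2 (dg c)).choose, fun c => (Φ.bij.2 (dg c)).choose_spec⟩
  have hdK : ∀ c, (d c : G) ∈ K := fun c => hK ▸ ⟨(d c).2, Frame.dg_mem C E Q Φ (hd c)⟩
  have hdmul : ∀ c c', d c * d c' = d (c * c') := fun c c' =>
    Φ.bij.1 (by rw [map_mul, hd, hd, hd, dg_mul])
  obtain ⟨Y, hY⟩ : ∃ Y, Y = ⁅K, H⁆ := ⟨_, rfl⟩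
  have hYH : Y ≤ H := hY ▸ commutator_le.mpr fun k hk h hh => H.mul_mem (hKH k hk h hh) (H.inv_mem hh)
  -- the generators come from the diagonal
  have hgen : ∀ k ∈ K, ∀ h ∈ H, ∃ c, ⁅k, h⁆ = ⁅(d c : G), h⁆ := by
    intro k hk h hh
    obtain ⟨e, he⟩ : ∃ e : ↥(A ⊔ cj x A), (e : G) = k := ⟨⟨k, (hK.le hk).1⟩, rfl⟩
    have h10 := (Frame.stab C E Q Φ (k := e) (he ▸ (hK.le hk).2)).1
    have hdet := (Φ.rho e).2
    rw [Matrix.det_fin_two, h10, mul_zero, sub_zero] at hdet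
    obtain ⟨c, hc⟩ : ∃ c : Fˣ, (c : F) = (Φ.rho e : Matrix (Fin 2) (Fin 2) F) 0 0 :=
      ⟨Units.mk0 _ (left_ne_zero_of_mul_eq_one hdet), rfl⟩
    have ha : ((e * (d c)⁻¹ : ↥(A ⊔ cj x A)) : G) ∈ A := by
      refine (Φ.memA _).mpr ?_
      have hci : (dg c)⁻¹ = dg c⁻¹ := inv_eq_of_mul_eq_one_right (by rw [dg_mul, mul_inv_cancel, dg_one])
      rw [map_mul, map_inv, hd, hci, Matrix.SpecialLinearGroup.coe_mul, ← Matrix.mulVec_mulVec, dg_mulVec]
      funext i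
      fin_cases i <;> simp [Matrix.mulVec, dotProduct, Fin.sum_univ_two, h10, ← hc]
    refine ⟨c, ?_⟩
    obtain ⟨a, hadef⟩ : ∃ a, a = k * (d c : G)⁻¹ := ⟨_, rfl⟩
    have haA : a ∈ A := by
      rw [hadef, ← he]; simpa using ha
    have hfix : ∀ z ∈ H, a * z * a⁻¹ = z := fun z hz => (mem_fix.mp (hH.le hz)).2 a haA
    have hdh : (d c : G) * h * (d c : G)⁻¹ ∈ H := hKH _ (hdK c) h hh
    rw [commutatorElement_def, commutatorElement_def, show k = a * d c by rw [hadef]; group,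
      show a * (d c : G) * h * (a * d c)⁻¹ = a * ((d c : G) * h * (d c : G)⁻¹) * a⁻¹ by group, hfix _ hdh]
  -- the norm map
  letI : CommGroup ↥W :=
    { (inferInstance : Group ↥W) with mul_comm := fun a b => Subtype.ext (C.wcomm _ a.2 _ b.2) }
  let cg : Fˣ → (↥W →* ↥W) := fun c =>
    { toFun := fun w => ⟨(d c : G) * w * (d c : G)⁻¹, C.norm _ (hLl (d c).2).1 w w.2⟩
      map_one' := Subtype.ext (by simp)
      map_mul' := fun a b => Subtype.ext (by simp [mul_assoc]) }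
  let Nm : ↥W →* ↥W := ∏ c : Fˣ, cg c
  have hcg : ∀ c c' w, cg c (cg c' w) = cg (c * c') w := fun c c' w => Subtype.ext (by
    show (d c : G) * ((d c' : G) * w * (d c' : G)⁻¹) * (d c : G)⁻¹ = _
    rw [show ((cg (c * c')) w : G) = (d (c * c') : G) * w * (d (c * c') : G)⁻¹ from rfl, ← hdmul, coe_mul]
    group)
  have hNm : ∀ w, Nm w = ∏ c : Fˣ, cg c w := fun w => MonoidHom.finsetProd_apply _ _ w
  have hNmcg : ∀ c w, Nm (cg c w) = Nm w := fun c w => by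
    rw [hNm, hNm, Finset.prod_congr rfl fun c' _ => hcg c' c w]
    exact Fintype.prod_equiv (Equiv.mulRight c) _ _ fun c' => rfl
  have hYker : Y ≤ Nm.ker.map W.subtype := by
    rw [hY]
    refine commutator_le.mpr fun k hk h hh => ?_
    obtain ⟨c, hc⟩ := hgen k hk h hh
    refine ⟨cg c ⟨h, hHW hh⟩ * ⟨h, hHW hh⟩⁻¹, ?_, ?_⟩
    · show Nm _ = 1
      rw [map_mul, map_inv, hNmcg, mul_inv_cancel]
    · rw [hc, commutatorElement_def]; rfl
  refine ⟨Y, hYH.trans hHW, ?_, eq_bot_iff.mpr fun y hy => ?_, ?_, ?_⟩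
  · -- inside the commutator space
    obtain ⟨u, hu, huG⟩ := C.exists_vec
    have hxu : x * u * x⁻¹ ∈ cj x (W ⊓ centralizer (A : Set G)) :=
      conj_mem_cj x (mem_fix.mpr ⟨hu.1, fun b hb => (mem_fix.mp hu).2 b (E.leS hb)⟩)
    have hxuZ : x * u * x⁻¹ ∉ W ⊓ centralizer ((A ⊔ cj x A : Subgroup G) : Set G) := fun h => by
      have h2 := Q.conf.z_le (inv_mem Q.xP) h
      have h3 := Q.vec_notZ C E (one_mem _) hu huG
      rw [one_mul, inv_one, mul_one] at h3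
      rw [show x⁻¹ * (x * u * x⁻¹) * x⁻¹⁻¹ = u by group] at h2
      exact h3 (h2.symm ▸ h)
    obtain ⟨-, -, -, hev⟩ := Q.conf.cards Q.xP (Q.xnot C E)
    rw [hY]
    refine commutator_le.mpr fun k hk h hh => ?_
    obtain ⟨a, ha, z, hz, rfl⟩ := hev _ hxu hxuZ h (hH.le hh)
    have hkP : k ∈ A ⊔ cj x A := (hK.le hk).1
    rw [Q.conf.comm_mul_right hkP (Q.conf.comm_mem (le_sup_left (b := cj x A) ha) (Q.conf.point_le Q.xP hxu)) hz.1,
      show ⁅k, z⁆ = 1 by rw [commutatorElement_def, Q.conf.z_le hkP hz, mul_inv_cancel], mul_one,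
      commutatorElement_def]
    refine mul_mem ?_ (inv_mem (commutator_mem_commutator ha (Q.conf.point_le Q.xP hxu)))
    have h1 : k * ⁅a, x * u * x⁻¹⁆ * k⁻¹ ∈ cj k ⁅A, W⁆ :=
      conj_mem_cj k (commutator_mem_commutator ha (Q.conf.point_le Q.xP hxu))
    rwa [C.cj_commW (hLl hkP).1, hKA k hk] at h1
  · obtain ⟨w, hw, rfl⟩ := hYker hy.1
    have hwz : ∀ c, cg c w = w := fun c => Subtype.ext (Q.conf.z_le (d c).2 (hZ ▸ hy.2))
    have h1 : (w : ↥W) ^ Fintype.card Fˣ = 1 := by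
      have h := hw
      rw [SetLike.mem_coe, MonoidHom.mem_ker, hNm, Finset.prod_congr rfl fun c _ => hwz c, Finset.prod_const, Finset.card_univ] at h
      exact h
    have h2 : (w : ↥W) ^ p = 1 := Subtype.ext (by rw [coe_pow, coe_one]; exact C.wexp _ w.2)
    have hcop : Nat.Coprime p (Fintype.card Fˣ) := by
      refine (Nat.Prime.coprime_iff_not_dvd Fact.out).mpr fun hdv => ?_
      rw [Fintype.card_units, Φ.card, hn] at hdv
      have hn0 : n ≠ 0 := fun h => E.mem.ne (Subgroup.card_eq_one.mp (by rw [hn, h, pow_zero]))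
      have h3 : p ∣ p ^ n - (p ^ n - 1) := Nat.dvd_sub (dvd_pow_self p hn0) hdv
      rw [Nat.sub_sub_self (Nat.one_le_pow _ _ (Fact.out : p.Prime).pos)] at h3
      exact (Fact.out : p.Prime).not_dvd_one h3
    have : w = 1 := by
      have := pow_gcd_eq_one.mpr ⟨h2, h1⟩
      rwa [hcop.gcd_eq_one, pow_one] at this
    rw [this]; rfl
  · obtain ⟨c, hc⟩ : ∃ c : Fˣ, c ≠ 1 := Fintype.exists_ne_of_one_lt_card (by
      rw [Fintype.card_units, Φ.card]; omega) 1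
    have hsur : ∀ s : F, ∃ y ∈ Y, Φ.lam y 0 = s := by
      intro s
      have hc1 : (c : F) - 1 ≠ 0 := sub_ne_zero.mpr fun h => hc (Units.ext h)
      obtain ⟨v, hv, hvs⟩ := Φ.surj ![s / ((c : F) - 1), 0]
      have hvH : v ∈ H := hH ▸ (Φ.lineA v hv).mpr (by rw [hvs]; simp)
      refine ⟨⁅(d c : G), v⁆, hY ▸ commutator_mem_commutator (hdK c) hvH, ?_⟩
      rw [Φ.comm (fun e he w hw => Q.conf.comm_mem he hw) (d c) hv, hd, hvs, dg_mulVec]
      simp only [Pi.sub_apply, Matrix.cons_val_zero]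
      field_simp
    choose f hfY hf using hsur
    refine lt_of_lt_of_le hq ?_
    rw [← Φ.card, ← Nat.card_eq_fintype_card]
    exact Nat.card_le_card_of_injective (fun s => (⟨f s, hfY s⟩ : Y)) fun s t h => by
      rw [← hf s, show f s = f t from congrArg Subtype.val h, hf t]
  · intro e he y hy
    have heK : cj e K = K := by
      refine eq_of_le_of_card_ge (cj_le.mpr fun k hk => ?_) (card_cj _ _).ge
      rw [hK] at hk ⊢
      exact ⟨(E.norm_pair C Q he.2).le (conj_mem_cj e hk.1),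
        M.mul_mem (M.mul_mem (C.SM he.1) hk.2) (M.inv_mem (C.SM he.1))⟩
    have heH : cj e H = H := by rw [hH, C.cj_fix he.2.1, E.normal C he.2 (C.SM he.1)]
    have h1 : e * y * e⁻¹ ∈ cj e Y := conj_mem_cj e hy
    rw [hY, cj, map_commutator] at h1
    rw [hY]
    convert h1 using 3
    · exact heK.symm
    · exact heH.symm

/-- A member permuting the members above the intersection normalises `A`. -/
theorem Ext.fix_of {U : Subgroup G} (hU : Member p W Γ U) (hUS : U ≤ S)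
    (hperm : ∀ e ∈ U, cj e '' insert A (inter p W Γ S g) ⊆ insert A (inter p W Γ S g))
    (hns : p ≠ 2 ∨ 2 < Nat.card A) : ∀ e ∈ U, cj e A = A := by
  classical
  obtain ⟨x, T, Q⟩ := E.exists_pair C
  obtain ⟨F, _, _, ⟨Φ⟩⟩ := frame C E Q
  obtain ⟨hDW, -, -⟩ := Q.separation C E (m := 1) (one_mem _) (D := delta p W Γ S g)
    (by rw [cj_one]; exact C.delta_le g) (E.leLoc.trans inf_le_right) Q.xloc.2
  have hUΓ : U ≤ Γ := hUS.trans C.syl.1
  obtain ⟨U', hU'⟩ : ∃ U' : Subgroup G, U' = U ⊓ normalizer (A : Set G) := ⟨_, rfl⟩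
  have hU'U : U' ≤ U := hU' ▸ inf_le_left
  obtain ⟨Z, hZ⟩ : ∃ Z, Z = W ⊓ centralizer ((A ⊔ cj x A : Subgroup G) : Set G) := ⟨_, rfl⟩
  have hout : ∀ e ∈ U, e ∉ U' → ∀ v ∈ ⁅A, W⁆, e * v * e⁻¹ ∈ Z := by
    intro e he hn v hv
    have hB : cj e A ∈ inter p W Γ S g :=
      (Set.mem_insert_iff.mp (hperm e he ⟨A, Set.mem_insert _ _, rfl⟩)).resolve_left fun h =>
        hn (hU' ▸ mem_inf.mpr ⟨he, norm_of_cj h⟩)
    have h1 : e * v * e⁻¹ ∈ ⁅cj e A, W⁆ := by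
      rw [← C.cj_commW (hUΓ he)]
      exact conj_mem_cj e hv
    exact (commutator_le.mpr fun b hb w hw => hZ ▸ hDW b (le_jn hB hb) w hw) h1
  intro e0 he0
  by_contra hne
  have he0' : e0 ∉ U' := fun h => hne (cj_eq_of_norm (hU'.le h).2)
  have hquad := FFEmb.quadratic_of_member C.wcomm C.wexp C.norm hU
  obtain ⟨v0, hv0, hv0Z⟩ : ∃ v ∈ ⁅A, W⁆, v ∉ Z := by
    obtain ⟨a, ha, ha1⟩ := (bot_or_exists_ne_one A).resolve_left E.mem.ne
    obtain ⟨w, hw, hw'⟩ := Φ.surj ![0, 1]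
    refine ⟨⁅a, w⁆, commutator_mem_commutator ha hw, fun h => ?_⟩
    have := (Φ.lineA w hw).mp (Q.reg C E ha ha1 hw (hZ ▸ h))
    rw [hw'] at this
    exact one_ne_zero (this : (1 : F) = 0)
  have hprod : ∀ b ∈ U, b ∉ U' → ∀ b' ∈ U, b' ∉ U' → b * b' ∈ U' := by
    intro b hb hbn b' hb' hb'n
    by_contra hn
    refine hv0Z ?_
    have hv0W : v0 ∈ W := E.QA_le C hv0
    have hW : ∀ c ∈ U, c * v0 * c⁻¹ ∈ W := fun c hc => C.norm c (hUΓ hc) v0 hv0W
    have h1 := (mem_fix.mp (hquad b' hb' v0 hv0W)).2 b hb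
    have h2 : (b * b') * v0 * (b * b')⁻¹ * (b * v0 * b⁻¹)⁻¹ = b' * v0 * b'⁻¹ * v0⁻¹ := by
      rw [show (b * b') * v0 * (b * b')⁻¹ * (b * v0 * b⁻¹)⁻¹ = b * ⁅b', v0⁆ * b⁻¹ by
        simp only [commutatorElement_def]; group, h1, commutatorElement_def]
    have h3 : v0 = b' * v0 * b'⁻¹ * (b * v0 * b⁻¹) * ((b * b') * v0 * (b * b')⁻¹)⁻¹ := by
      have hbb := hW _ (U.mul_mem hb hb')
      have e : v0⁻¹ = (b' * v0 * b'⁻¹)⁻¹ * ((b * b') * v0 * (b * b')⁻¹ * (b * v0 * b⁻¹)⁻¹) := by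
        rw [h2]; group
      rw [inv_eq_iff_eq_inv] at e
      obtain ⟨P1, hP1⟩ : ∃ P1, P1 = b' * v0 * b'⁻¹ := ⟨_, rfl⟩
      obtain ⟨P2, hP2⟩ : ∃ P2, P2 = b * v0 * b⁻¹ := ⟨_, rfl⟩
      obtain ⟨P3, hP3⟩ : ∃ P3, P3 = (b * b') * v0 * (b * b')⁻¹ := ⟨_, rfl⟩
      rw [← hP1, ← hP2, ← hP3] at e ⊢
      rw [e, _root_.mul_inv_rev, _root_.mul_inv_rev, inv_inv, inv_inv,
        C.wcomm _ (mul_mem (hP2 ▸ hW b hb) (inv_mem (hP3 ▸ hbb))) _ (hP1 ▸ hW b' hb'), mul_assoc]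
    rw [h3]
    exact mul_mem (mul_mem (hout b' hb' hb'n v0 hv0) (hout b hb hbn v0 hv0))
      (inv_mem (hout _ (U.mul_mem hb hb') hn v0 hv0))
  by_cases hodd : p = 2
  swap
  · refine he0' ?_
    obtain ⟨k, hk⟩ := hU.pg ⟨e0, he0⟩
    have hk' : e0 ^ p ^ k = 1 := congrArg Subtype.val hk
    have h2 : e0 ^ 2 ∈ U' := by rw [pow_two]; exact hprod e0 he0 he0' e0 he0 he0'
    obtain ⟨j, hj⟩ := ((Fact.out : p.Prime).odd_of_ne_two hodd).pow (n := k)
    have : (e0 ^ 2) ^ (j + 1) = e0 := by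
      rw [← pow_mul, show 2 * (j + 1) = p ^ k + 1 by omega, pow_succ, hk', one_mul]
    exact this ▸ U'.pow_mem h2 _
  have hq : 2 < Nat.card A := hns.resolve_left fun h => h hodd
  obtain ⟨Y, hYW, hYA, hYZ, hY2, hYn⟩ := Frame.exists_line C E Q Φ hq
  rw [← hZ] at hYZ
  have hU'Y : ∀ c ∈ U', ∀ y ∈ Y, c * y * c⁻¹ ∈ Y := by
    intro c hc
    rw [hU'] at hc
    exact hYn c (mem_inf.mpr ⟨hUS hc.1, E.conj_inter C (hUΓ hc.1) (hperm c hc.1) (cj_eq_of_norm hc.2)⟩)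
  -- fixed vectors of `U` on the line are trivial
  have hnofix : ∀ y ∈ Y, y ∈ W ⊓ centralizer (U : Set G) → y = 1 := by
    intro y hy hyC
    have h1 := hout e0 he0 he0' y (hYA hy)
    rw [(mem_fix.mp hyC).2 e0 he0] at h1
    exact (mem_bot.mp (hYZ.le ⟨hy, h1⟩))
  have hcard2 : Nat.card U ≤ 2 * Nat.card U' := by
    classical
    let f : ↥U → Bool × ↥U' := fun c => if h : (c : G) ∈ U' then (false, ⟨c, h⟩)
      else (true, ⟨e0 * c, hprod e0 he0 he0' c c.2 h⟩)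
    have hf : Function.Injective f := by
      intro c c' h
      simp only [f] at h
      split_ifs at h with h1 h2
      · exact Subtype.ext (Subtype.mk.inj (Prod.ext_iff.mp h).2)
      · exact absurd (Prod.ext_iff.mp h).1 (by simp)
      · exact absurd (Prod.ext_iff.mp h).1 (by simp)
      · exact Subtype.ext (mul_left_cancel (Subtype.mk.inj (Prod.ext_iff.mp h).2))
    have := Nat.card_le_card_of_injective f hf
    rwa [Nat.card_prod, Nat.card_eq_fintype_card (α := Bool), Fintype.card_bool] at this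
  obtain ⟨CU, hCU⟩ : ∃ CU, CU = W ⊓ centralizer (U : Set G) := ⟨_, rfl⟩
  have hCUW : CU ≤ W := hCU ▸ inf_le_left
  by_cases hbot : U' = ⊥
  · rw [hbot, card_bot, mul_one] at hcard2
    have hm := hU.meas_ge
    rw [meas, ← hCU] at hm
    have hinf : Y ⊓ CU = ⊥ := eq_bot_iff.mpr fun y hy => mem_bot.mpr (hnofix y hy.1 (hCU.le hy.2))
    have e := Grp.card_sup_mul_card_inf (H := Y) (N := CU) fun w hw => centralizer_le_normalizer _
      (mem_centralizer_iff.mpr fun c hc => C.wcomm c (hCUW hc) w (hYW hw))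
    rw [hinf, card_bot, mul_one] at e
    have h1 := (e.ge.trans (card_le_of_le (sup_le hYW hCUW))).trans (hm.trans (Nat.mul_le_mul_right _ hcard2))
    exact absurd (Nat.le_of_mul_le_mul_right h1 Nat.card_pos) (by omega)
  have hstr := hU.strict U' hU'U hbot fun h => he0' (h.ge he0)
  rw [meas, meas, ← hCU] at hstr
  obtain ⟨CU', hCU'⟩ : ∃ CU', CU' = W ⊓ centralizer (U' : Set G) := ⟨_, rfl⟩
  rw [← hCU'] at hstr
  have hle : CU ≤ CU' := hCU ▸ hCU' ▸ inf_le_inf le_rfl (centralizer_le (SetLike.coe_subset_coe.mpr hU'U))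
  have heq : CU = CU' := by
    refine eq_of_le_of_card_ge hle ?_
    have h1 : Nat.card CU' < 2 * Nat.card CU := by
      by_contra h
      push Not at h
      refine absurd hstr (not_lt.mpr ?_)
      calc Nat.card U * Nat.card CU ≤ 2 * Nat.card U' * Nat.card CU := Nat.mul_le_mul_right _ hcard2
        _ = Nat.card U' * (2 * Nat.card CU) := by ring
        _ ≤ _ := Nat.mul_le_mul_left _ h
    obtain ⟨k, hk⟩ := Subgroup.card_dvd_of_le hle
    rw [hk] at h1 ⊢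
    have : k < 2 := by nlinarith [(Nat.card_pos : 0 < Nat.card CU)]
    calc Nat.card CU * k ≤ Nat.card CU * 1 := Nat.mul_le_mul_left _ (by omega)
      _ = _ := mul_one _
  -- a vector of the line fixed by `U'`
  have hYp : IsPGroup p Y := fun w => ⟨1, Subtype.ext (by rw [pow_one, coe_pow, coe_one]; exact C.wexp _ (hYW w.2))⟩
  obtain ⟨J, hJ⟩ : ∃ J, J = U' ⊔ Y := ⟨_, rfl⟩
  have hnorm : U' ≤ normalizer (Y : Set G) := fun c hc => norm_of_cj
    (eq_of_le_of_card_ge (cj_le.mpr (hU'Y c hc)) (card_cj _ _).ge)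
  have hJp : IsPGroup p ↥J := hJ ▸ (hU.pg.to_le hU'U).to_sup_of_normal_right' hYp hnorm
  have : Group.IsNilpotent ↥J := hJp.isNilpotent
  have : (Y.subgroupOf J).Normal := normal_subgroupOf_of_le_normalizer (hJ ▸ sup_le hnorm le_normalizer)
  have hne' : Y.subgroupOf J ≠ ⊥ := fun e => by
    rw [subgroupOf_eq_bot, disjoint_iff, inf_eq_left.mpr (hJ ▸ le_sup_right)] at e
    rw [e, card_bot] at hY2; omega
  obtain ⟨z, hz, hz1⟩ := (bot_or_exists_ne_one _).resolve_left (Grp.inf_center_ne_bot _ hne')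
  refine hz1 (Subtype.ext (hnofix z (mem_subgroupOf.mp hz.1) ?_))
  rw [← hCU, heq, hCU']
  refine mem_fix.mpr ⟨hYW (mem_subgroupOf.mp hz.1), fun c hc => ?_⟩
  have := congrArg Subtype.val (Subgroup.mem_center_iff.mp hz.2 ⟨c, hJ ▸ le_sup_left (b := Y) hc⟩)
  exact mul_inv_eq_iff_eq_mul.mpr this

omit C E in
/-- No member of order two. -/
def Small (p : ℕ) (W Γ : Subgroup G) : Prop := ∀ B : Subgroup G, Member p W Γ B → p ≠ 2 ∨ 2 < Nat.card B

/-- The members of the Sylow subgroup. -/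
theorem Ext.mems_eq_of (hns : Small p W Γ) : mems p W Γ S = insert A (inter p W Γ S g) := by
  refine Set.Subset.antisymm ?_ (Set.insert_subset ⟨E.mem, E.leS⟩ fun B hB => hB.1)
  obtain ⟨E2, hE2⟩ : ∃ E2, E2 = jn (insert A (inter p W Γ S g)) := ⟨_, rfl⟩
  have hE2le : E2 ≤ S ⊓ loc p W Γ S g :=
    hE2 ▸ jn_le fun B hB => ((Set.ext_iff.mp (E.mems_loc C) B).mpr hB).2
  have hperm : ∀ e ∈ S, cj e E2 = E2 → cj e '' insert A (inter p W Γ S g) ⊆ insert A (inter p W Γ S g) := by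
    rintro e he hE _ ⟨B, hB, rfl⟩
    have hBm : Member p W Γ B := ((Set.ext_iff.mp (E.mems_loc C) B).mpr hB).1
    rw [← E.mems_loc C]
    refine ⟨C.member_cj (C.syl.1 he) hBm, ?_⟩
    exact ((cj_mono e (hE2 ▸ le_jn hB)).trans hE.le).trans hE2le
  obtain ⟨Qn, hQn⟩ : ∃ Qn, Qn = S ⊓ normalizer (E2 : Set G) := ⟨_, rfl⟩
  by_contra hnot
  have hex : ∃ B ∈ mems p W Γ Qn, B ∉ insert A (inter p W Γ S g) := by
    by_contra hc
    push Not at hc
    have hset : mems p W Γ Qn = insert A (inter p W Γ S g) := by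
      refine Set.Subset.antisymm hc fun B hB => ?_
      have hB' := (Set.ext_iff.mp (E.mems_loc C) B).mpr hB
      exact ⟨hB'.1, hQn ▸ le_inf (hB'.2.trans inf_le_left) ((le_jn hB).trans (hE2 ▸ le_normalizer))⟩
    have hQS : Qn = S := by
      by_contra hne
      have : Group.IsNilpotent ↥S := C.syl.2.1.isNilpotent
      have hlt : Qn.subgroupOf S < ⊤ := lt_top_iff_ne_top.mpr fun e =>
        hne (le_antisymm (hQn ▸ inf_le_left) (subgroupOf_eq_top.mp e))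
      obtain ⟨r, hr, hrn⟩ := SetLike.exists_of_lt (normalizerCondition_of_isNilpotent (G := ↥S) _ hlt)
      refine hrn (mem_subgroupOf.mpr ?_)
      have hrN : cj (r : G) Qn = Qn := by
        refine eq_of_le_of_card_ge (cj_le.mpr fun x hx => ?_) (card_cj _ _).ge
        have hx' : x ∈ S := (hQn.le hx).1
        exact mem_subgroupOf.mp ((mem_normalizer_iff.mp hr ⟨x, hx'⟩).mp (mem_subgroupOf.mpr hx))
      rw [hQn]
      refine mem_inf.mpr ⟨r.2, norm_of_cj ?_⟩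
      rw [hE2, cj_jn, ← hset, ← C.mems_cj (C.syl.1 r.2), hrN]
    exact hnot (by rw [← hset, hQS])
  obtain ⟨B, ⟨hB, hBle⟩, hBn⟩ := hex
  rw [hQn] at hBle
  have hBS : B ≤ S := hBle.trans inf_le_left
  have hpB : ∀ e ∈ B, cj e '' insert A (inter p W Γ S g) ⊆ insert A (inter p W Γ S g) := fun e he =>
    hperm e (hBS he) (cj_eq_of_norm (hBle he).2)
  have hfix := E.fix_of C hB hBS hpB (hns A E.mem)
  refine hBn ?_
  rw [← E.mems_loc C]
  exact ⟨hB, le_inf hBS fun e he => E.conj_inter C (hB.le he) (hpB e he) (hfix e he)⟩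

omit E in
/-- Every member is omitted. -/
theorem Sit.omitted_of (hns : Small p W Γ) {A0 : Subgroup G} (hA0 : A0 ∈ mems p W Γ S) :
    ∃ g, Ext p W Γ S M g A0 := by
  suffices h : ∃ g, Top p W Γ S M g ∧ A0 ∉ inter p W Γ S g by
    obtain ⟨g, hg, hn⟩ := h
    obtain ⟨A, E⟩ := C.exists_ext hg ⟨A0, hA0⟩
    have := E.mems_eq_of C hns ▸ hA0
    rcases Set.mem_insert_iff.mp this with rfl | h'
    · exact ⟨g, E⟩
    · exact absurd h' hn
  by_contra hc
  push Not at hc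
  obtain ⟨Φ0, hΦ0⟩ : ∃ Φ0, Φ0 = {B | B ∈ mems p W Γ S ∧ ∀ g, Top p W Γ S M g → B ∈ inter p W Γ S g} := ⟨_, rfl⟩
  obtain ⟨g, hg⟩ := C.exists_top
  obtain ⟨A, E⟩ := C.exists_ext hg ⟨A0, hA0⟩
  obtain ⟨x, T, Q⟩ := E.exists_pair C
  obtain ⟨-, -, hcm⟩ := Q.separation C E (m := 1) (one_mem _) (D := delta p W Γ S g)
    (by rw [cj_one]; exact C.delta_le g) (E.leLoc.trans inf_le_right) Q.xloc.2
  have hle : jn Φ0 ≤ delta p W Γ S g := jn_le fun B hB => le_jn ((hΦ0.le hB).2 g hg)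
  have hP : A ⊔ cj x A ≤ centralizer ((jn Φ0 : Subgroup G) : Set G) :=
    sup_le (fun a ha => mem_centralizer_iff.mpr fun d hd => (hcm d (hle hd) a ha).1)
      (cj_le.mpr fun a ha => mem_centralizer_iff.mpr fun d hd => (hcm d (hle hd) a ha).2)
  refine Q.xM (C.norm_le (Q := jn Φ0) (hle.trans (C.delta_gamma g)) (C.syl.2.1.to_le (hle.trans (C.delta_le g)))
    (fun e => hA0.1.ne (le_bot_iff.mp (e ▸ le_jn (hΦ0.ge ⟨hA0, hc⟩)))) ?_
    (mem_inf.mpr ⟨Q.xΓ C E, centralizer_le_normalizer _ (hP Q.xP)⟩))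
  intro s hs
  have hsΓ := C.syl.1 hs
  have hmemsS : ∀ B, B ∈ mems p W Γ S → cj s B ∈ mems p W Γ S := fun B hB =>
    ⟨C.member_cj hsΓ hB.1, (cj_mono s hB.2).trans (cj_eq_of_norm (le_normalizer hs)).le⟩
  have hinter : ∀ h, inter p W Γ S (s * h) = cj s '' inter p W Γ S h := fun h => by
    rw [inter, inter, Set.image_inter (cj_inj s), ← C.mems_cj hsΓ, ← C.mems_cj hsΓ,
      cj_eq_of_norm (le_normalizer hs), cj_cj]
  refine norm_of_cj (eq_of_le_of_card_ge ?_ (card_cj _ _).ge)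
  rw [cj_jn]
  refine jn_le ?_
  rintro _ ⟨B, hB, rfl⟩
  rw [hΦ0] at hB
  refine le_jn (hΦ0.ge ⟨hmemsS B hB.1, fun h hh => ?_⟩)
  have hcard : ∀ k, (inter p W Γ S (s * k)).ncard = (inter p W Γ S k).ncard := fun k => by
    rw [hinter, Set.ncard_image_of_injective _ (cj_inj s)]
  have hT' : Top p W Γ S M (s⁻¹ * h) := by
    refine ⟨mul_mem (inv_mem hsΓ) hh.mem, fun hm => hh.notM (by simpa using M.mul_mem (C.SM hs) hm), fun k hk hkM => ?_⟩
    rw [← hcard (s⁻¹ * h), mul_inv_cancel_left]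
    exact hh.max k hk hkM
  have := (hinter (s⁻¹ * h)).ge ⟨B, hB.2 _ hT', rfl⟩
  rwa [mul_inv_cancel_left] at this


end Cfsg.Agent.Fus.RootPair
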