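import Cfsg.Agent.Lib.Fus.PMinFF.Normal

/-!
# The pair of a member is canonical and has scalar centralising automorphisms
-/

set_option autoImplicit false
set_option linter.unusedSectionVars false
set_option linter.style.haveILetI false

open scoped commutatorElement Matrix

namespace Cfsg.Agent.Fus.RootPair

open Subgroup Matrix Cfsg.Agent.Grp Cfsg.Agent.Grp.OffenderSL2

universe u

variable {G : Type u} [Group G] [Finite G] {p : ℕ} [Fact p.Prime] {W Γ S M : Subgroup G} (C : Sit p W Γ S M)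
  {g : G} {A : Subgroup G} (E : Ext p W Γ S M g A) {x : G} {T : Subgroup G} (Q : Pr p W Γ S M g A x T)
include C E Q

/-- The conjugates of `A` under the local group. -/
theorem Ext.conj_cases {y : G} (hy : y ∈ loc p W Γ S g) :
    cj y A = A ∨ ∃ a ∈ A, cj y A = cj (a * x) A := by
  by_cases hyM : y ∈ M
  · exact Or.inl (E.normal C hy hyM)
  obtain ⟨a, ha, hm⟩ := Q.point C E hy hyM
  have hax : a * x ∈ loc p W Γ S g := mul_mem (E.leLoc ha) Q.xloc
  have h := E.normal C (mul_mem (inv_mem hax) hy) hm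
  refine Or.inr ⟨a, ha, ?_⟩
  calc cj y A = cj (a * x) (cj ((a * x)⁻¹ * y) A) := by rw [cj_cj, mul_inv_cancel_left]
    _ = _ := congrArg (cj (a * x)) h

theorem Ext.conj_le {y : G} (hy : y ∈ loc p W Γ S g) : cj y A ≤ A ⊔ cj x A := by
  rcases E.conj_cases C Q hy with h | ⟨a, ha, h⟩
  · exact h.le.trans le_sup_left
  · rw [h, ← cj_cj]
    exact (cj_mono a le_sup_right).trans (cj_eq_of_norm (le_normalizer (le_sup_left (b := cj x A) ha))).le

/-- The local group normalises the pair. -/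
theorem Ext.norm_pair {y : G} (hy : y ∈ loc p W Γ S g) : cj y (A ⊔ cj x A) = A ⊔ cj x A := by
  refine eq_of_le_of_card_ge ?_ (card_cj _ _).ge
  rw [cj, Subgroup.map_sup]
  refine sup_le (E.conj_le C Q hy) ?_
  exact (cj_cj y x A).le.trans (E.conj_le C Q (mul_mem hy Q.xloc))

variable {F : Type} [Field F] [Fintype F] (Φ : Frame W (A ⊔ cj x A) A (cj x A) F)
include Φ

/-- An element centralising `A` and normalising its partner acts as a scalar. -/
theorem Frame.scalar {k : G} (hk : k ∈ Γ) (hkA : ∀ a ∈ A, k * a = a * k) (hkB : cj k (cj x A) = cj x A) :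
    ∃ r : F, r ≠ 0 ∧ ∀ v ∈ W, Φ.lam (k * v * k⁻¹) = r • Φ.lam v := by
  classical
  obtain ⟨L, hL⟩ : ∃ L, L = A ⊔ cj x A := ⟨_, rfl⟩
  have hkA' : cj k A = A := cj_eq_of_norm (centralizer_le_normalizer _
    (mem_centralizer_iff.mpr fun a ha => (hkA a ha).symm))
  have hkL : cj k (A ⊔ cj x A) = A ⊔ cj x A := by
    rw [cj, Subgroup.map_sup]; exact congrArg₂ (· ⊔ ·) hkA' hkB
  have hkfix : ∀ H : Subgroup G, cj k H = H → ∀ v ∈ W,
      (v ∈ W ⊓ centralizer (H : Set G) ↔ k * v * k⁻¹ ∈ W ⊓ centralizer (H : Set G)) := by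
    intro H hH v hv
    conv_rhs => rw [← hH, ← C.cj_fix hk, mem_cj, show k⁻¹ * (k * v * k⁻¹) * k = v by group]
  choose f hfW hf using Φ.surj
  obtain ⟨σ, hσ⟩ : ∃ σ : (Fin 2 → F) → (Fin 2 → F), ∀ y, σ y = Φ.lam (k * f y * k⁻¹) := ⟨_, fun _ => rfl⟩
  have hW : ∀ v ∈ W, k * v * k⁻¹ ∈ W := C.norm k hk
  have hσv : ∀ v ∈ W, σ (Φ.lam v) = Φ.lam (k * v * k⁻¹) := by
    intro v hv
    rw [hσ]
    obtain ⟨z, hz⟩ : ∃ z, z = f (Φ.lam v) * v⁻¹ := ⟨_, rfl⟩
    have hzW : z ∈ W := hz ▸ mul_mem (hfW _) (inv_mem hv)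
    have h0 : Φ.lam z = 0 := by
      have h1 := Φ.add z hzW v hv
      rw [show z * v = f (Φ.lam v) by rw [hz]; group, hf] at h1
      exact (add_eq_right.mp h1.symm)
    have h1 := (hkfix _ hkL z hzW).mp ((Φ.ker z hzW).mp h0)
    rw [show k * f (Φ.lam v) * k⁻¹ = k * z * k⁻¹ * (k * v * k⁻¹) by rw [hz]; group,
      Φ.add _ (hW z hzW) _ (hW v hv), (Φ.ker _ (hW z hzW)).mpr h1, zero_add]
  have hadd : ∀ y z, σ (y + z) = σ y + σ z := by
    intro y z
    rw [show y + z = Φ.lam (f y * f z) by rw [Φ.add _ (hfW y) _ (hfW z), hf, hf],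
      hσv _ (mul_mem (hfW y) (hfW z)), hσ, hσ, ← Φ.add _ (hW _ (hfW y)) _ (hW _ (hfW z))]
    congr 1
    group
  have hup : ∀ (c : F) y, σ ((SL2.up c : Matrix (Fin 2) (Fin 2) F) *ᵥ y) =
      (SL2.up c : Matrix (Fin 2) (Fin 2) F) *ᵥ σ y := by
    intro c y
    obtain ⟨e, he⟩ := Φ.bij.2 (SL2.up c)
    have heA : (e : G) ∈ A := (Φ.memA e).mpr (by rw [he, up_mulVec]; simp)
    rw [← he, ← hf y, ← Φ.act e _ (hfW y), hσv _ (Q.conf.norm e e.2 _ (hfW y)), hσv _ (hfW y),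
      ← Φ.act e _ (hW _ (hfW y))]
    have h1 := hkA e heA
    rw [show k * ((e : G) * f y * (e : G)⁻¹) * k⁻¹ = (k * e) * f y * (k * e)⁻¹ by group, h1]
    congr 1
    group
  have hl1 : ∀ s : F, (σ ![s, 0]) 1 = 0 := fun s => by
    rw [hσ]
    exact (Φ.lineA _ (hW _ (hfW _))).mp ((hkfix A hkA' _ (hfW _)).mp
      ((Φ.lineA _ (hfW _)).mpr (by rw [hf]; simp)))
  have hl2 : ∀ t : F, (σ ![0, t]) 0 = 0 := fun t => by
    rw [hσ]
    exact (Φ.lineB _ (hW _ (hfW _))).mp ((hkfix _ hkB _ (hfW _)).mp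
      ((Φ.lineB _ (hfW _)).mpr (by rw [hf]; simp)))
  have hct : ∀ c t : F, σ ![c * t, 0] 0 = c * σ ![0, t] 1 := by
    intro c t
    have h1 := congrFun (hup c ![0, t]) 0
    rw [up_mulVec, up_mulVec, show (![(![0, t] : Fin 2 → F) 0 + c * (![0, t] : Fin 2 → F) 1, (![0, t] : Fin 2 → F) 1] :
      Fin 2 → F) = ![c * t, 0] + ![0, t] by funext i; fin_cases i <;> simp, hadd] at h1
    simp [hl2] at h1
    linear_combination h1
  obtain ⟨r, hr⟩ : ∃ r, r = σ ![0, 1] 1 := ⟨_, rfl⟩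
  have h10 : ∀ s, σ ![s, 0] 0 = r * s := fun s => by
    have := hct s 1
    rw [mul_one] at this
    rw [this, hr, mul_comm]
  have h01 : ∀ t, σ ![0, t] 1 = r * t := fun t => by
    have := hct 1 t
    rw [one_mul, one_mul, h10] at this
    exact this.symm
  have hσr : ∀ y, σ y = r • y := by
    intro y
    rw [show y = ![y 0, 0] + ![0, y 1] by funext i; fin_cases i <;> simp, hadd]
    funext i
    fin_cases i <;> simp [h10, h01, hl1, hl2]
  have hr0 : r ≠ 0 := by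
    intro h0
    obtain ⟨v, hv, hv1⟩ := Φ.surj ![1, 0]
    have h1 := hσv v hv
    rw [hσr, h0, zero_smul, eq_comm, Φ.ker _ (hW v hv), ← hkfix _ hkL v hv, ← Φ.ker v hv, hv1] at h1
    exact one_ne_zero (congrFun h1 0)
  exact ⟨r, hr0, fun v hv => by rw [← hσv v hv, hσr]⟩

/-- Such an element centralises the pair. -/
theorem Frame.commute {k : G} (hk : k ∈ Γ) (hkA : ∀ a ∈ A, k * a = a * k) (hkB : cj k (cj x A) = cj x A) :
    ∀ l ∈ A ⊔ cj x A, k * l = l * k := by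
  obtain ⟨r, hr0, hr⟩ := Frame.scalar C E Q Φ hk hkA hkB
  intro l hl
  have hkA' : cj k A = A := cj_eq_of_norm (centralizer_le_normalizer _
    (mem_centralizer_iff.mpr fun a ha => (hkA a ha).symm))
  have hkL : cj k (A ⊔ cj x A) = A ⊔ cj x A := by
    rw [cj, Subgroup.map_sup]; exact congrArg₂ (· ⊔ ·) hkA' hkB
  have hl' : k * l * k⁻¹ ∈ A ⊔ cj x A := hkL.le (conj_mem_cj k hl)
  suffices he : (⟨k * l * k⁻¹, hl'⟩ : ↥(A ⊔ cj x A)) = ⟨l, hl⟩ from
    mul_inv_eq_iff_eq_mul.mp (congrArg Subtype.val he)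
  refine Φ.bij.1 (Subtype.ext (Matrix.ext_of_mulVec_single fun i => ?_))
  obtain ⟨v, hv, hvy⟩ := Φ.surj (Pi.single i 1)
  have h1 := Φ.act ⟨k * l * k⁻¹, hl'⟩ (k * v * k⁻¹) (C.norm k hk v hv)
  have hlv : l * v * l⁻¹ ∈ W := Q.conf.norm l hl v hv
  rw [show (k * l * k⁻¹ : G) * (k * v * k⁻¹) * (k * l * k⁻¹)⁻¹ = k * (l * v * l⁻¹) * k⁻¹ by group,
    hr _ hlv, hr v hv, Φ.act ⟨l, hl⟩ v hv, Matrix.mulVec_smul, hvy] at h1
  exact (smul_right_injective (Fin 2 → F) hr0 h1).symm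

/-- An element of `S` in the local group centralising `A` splits. -/
theorem Frame.split {e : G} (he : e ∈ S) (hel : e ∈ loc p W Γ S g) (heA : ∀ a ∈ A, e * a = a * e) :
    ∃ a ∈ A, a⁻¹ * e ∈ centralizer ((A ⊔ cj x A : Subgroup G) : Set G) := by
  obtain ⟨a, ha, hm⟩ := Q.point C E (h := e * x) (mul_mem hel Q.xloc) fun h =>
    Q.xM (by simpa using M.mul_mem (M.inv_mem (C.SM he)) h)
  have hax : a * x ∈ loc p W Γ S g := mul_mem (E.leLoc ha) Q.xloc
  have hmA := E.normal C (mul_mem (inv_mem hax) (mul_mem hel Q.xloc)) hm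
  refine ⟨a, ha, mem_centralizer_iff.mpr fun l hl => (Frame.commute C E Q Φ ?_ ?_ ?_ l hl).symm⟩
  · exact mul_mem (inv_mem (E.mem.le ha)) hel.1
  · intro b hb
    rw [mul_assoc, heA b hb, ← mul_assoc, E.mem.comm _ (inv_mem ha) b hb, mul_assoc]
  · calc cj (a⁻¹ * e) (cj x A) = cj x (cj ((a * x)⁻¹ * (e * x)) A) := by
          rw [cj_cj, cj_cj]; exact congrArg (fun z => cj z A) (by group)
      _ = _ := congrArg (cj x) hmA

/-- An element of `S` centralising the pair fixes the commutator space of the member. -/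
theorem Frame.cent_fix {c : G} (hc : c ∈ S) (hcL : c ∈ centralizer ((A ⊔ cj x A : Subgroup G) : Set G)) :
    (∀ v ∈ W, ⁅c, v⁆ ∈ W ⊓ centralizer ((A ⊔ cj x A : Subgroup G) : Set G)) ∧
    ∀ a ∈ A, ∀ v ∈ W, c * ⁅a, v⁆ * c⁻¹ = ⁅a, v⁆ := by
  have hcc : ∀ l ∈ A ⊔ cj x A, c * l = l * c := fun l hl => (mem_centralizer_iff.mp hcL l hl).symm
  obtain ⟨r, -, hr⟩ := Frame.scalar C E Q Φ (C.syl.1 hc) (fun a ha => hcc a (le_sup_left (b := cj x A) ha))
    (cj_eq_of_norm (centralizer_le_normalizer _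
      (centralizer_le (SetLike.coe_subset_coe.mpr le_sup_right) hcL)))
  obtain ⟨u, hu, huG⟩ := C.exists_vec
  have hr1 : r = 1 := by
    have h := hr u hu.1
    rw [(mem_fix.mp hu).2 c hc] at h
    by_contra hne
    have h0 : Φ.lam u = 0 := by
      have h' : (r - 1) • Φ.lam u = 0 := by rw [sub_smul, ← h, one_smul, sub_self]
      exact (smul_eq_zero.mp h').resolve_left (sub_ne_zero.mpr hne)
    have h1 := Q.vec_notZ C E (one_mem _) hu huG
    rw [one_mul, inv_one, mul_one] at h1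
    exact h1 ((Φ.ker u hu.1).mp h0)
  have hcv : ∀ v ∈ W, ⁅c, v⁆ ∈ W ⊓ centralizer ((A ⊔ cj x A : Subgroup G) : Set G) := by
    intro v hv
    have hw : ⁅c, v⁆ ∈ W := W.mul_mem (C.norm c (C.syl.1 hc) v hv) (W.inv_mem hv)
    refine (Φ.ker _ hw).mp ?_
    have h1 := Φ.add _ hw v hv
    rw [show ⁅c, v⁆ * v = c * v * c⁻¹ by rw [commutatorElement_def]; group, hr v hv, hr1, one_smul] at h1
    exact add_eq_right.mp h1.symm
  refine ⟨hcv, fun a ha v hv => ?_⟩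
  have haP : a ∈ A ⊔ cj x A := le_sup_left (b := cj x A) ha
  have hca := hcc a haP
  rw [show c * ⁅a, v⁆ * c⁻¹ = ⁅c * a * c⁻¹, c * v * c⁻¹⁆ by simp only [commutatorElement_def]; group,
    show c * a * c⁻¹ = a from mul_inv_eq_iff_eq_mul.mpr hca,
    show c * v * c⁻¹ = ⁅c, v⁆ * v by rw [commutatorElement_def]; group,
    Q.conf.comm_mul_right haP (hcv v hv).1 hv,
    show ⁅a, ⁅c, v⁆⁆ = 1 by rw [commutatorElement_def a, Q.conf.z_le haP (hcv v hv), mul_inv_cancel], one_mul]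

end Cfsg.Agent.Fus.RootPair
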