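import Mathlib

/-!
# Abelian permutation groups as offenders on the permutation module over the field with two elements

An abelian group `X` acting faithfully on `Ω` satisfies `|X| · 2 ^ (number of orbits) ≤ 2 ^ |Ω|`; if equality
holds and `X` is not trivial it contains a transposition.
-/

set_option autoImplicit false

namespace Cfsg.Agent.Fus.PermOffender

open MulAction

theorem two_mul_le_two_pow : ∀ m : ℕ, 1 ≤ m → 2 * m ≤ 2 ^ m ∧ (3 ≤ m → 2 * m < 2 ^ m)
  | 0, h => absurd h (by omega)
  | 1, _ => by simp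
  | 2, _ => by simp
  | n + 3, _ => by
    have h := (two_mul_le_two_pow (n + 2) (by omega)).1
    refine ⟨?_, fun _ => ?_⟩ <;> rw [pow_succ] <;> omega

variable {X Ω : Type*} [Group X] [Finite X] [Finite Ω] [MulAction X Ω] [FaithfulSMul X Ω]

/-- An abelian group fixing a representative of each orbit is trivial. -/
theorem eq_of_reps (hc : ∀ a b : X, a * b = b * a) {a b : X}
    (h : ∀ q : Quotient (orbitRel X Ω), a • q.out = b • q.out) : a = b := by
  refine eq_of_smul_eq_smul (α := Ω) fun ω => ?_
  have hq : (orbitRel X Ω).r ω (Quotient.mk (orbitRel X Ω) ω).out :=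
    (orbitRel X Ω).symm (Quotient.mk_out (s := orbitRel X Ω) ω)
  obtain ⟨c, hc'⟩ := hq
  rw [← hc']
  show a • c • _ = b • c • _
  rw [smul_smul, smul_smul, hc a c, hc b c, ← smul_smul, ← smul_smul, h]

/-- The bound, and a transposition in case of equality. -/
theorem bound_and_transposition (hc : ∀ a b : X, a * b = b * a) :
    Nat.card X * 2 ^ Nat.card (Quotient (orbitRel X Ω)) ≤ 2 ^ Nat.card Ω ∧
      (2 ^ Nat.card Ω ≤ Nat.card X * 2 ^ Nat.card (Quotient (orbitRel X Ω)) → (∃ x : X, x ≠ 1) →
        ∃ (x : X) (a b : Ω), a ≠ b ∧ x • a = b ∧ x • b = a ∧ ∀ c, c ≠ a → c ≠ b → x • c = c) := by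
  classical
  haveI : Fintype X := Fintype.ofFinite X
  haveI : Fintype Ω := Fintype.ofFinite Ω
  obtain ⟨f, hf⟩ : ∃ f : X → ((q : Quotient (orbitRel X Ω)) → orbit X q.out),
      ∀ x q, ((f x q : orbit X q.out) : Ω) = x • q.out := ⟨fun x q => ⟨x • q.out, mem_orbit _ _⟩, fun _ _ => rfl⟩
  have hinj : Function.Injective f := fun a b h => eq_of_reps (Ω := Ω) hc fun q => by
    rw [← hf, ← hf, h]
  have h1 : Nat.card X ≤ ∏ q : Quotient (orbitRel X Ω), Nat.card (orbit X q.out) := by
    rw [← Nat.card_pi]
    exact Nat.card_le_card_of_injective f hinj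
  have hsum : Nat.card Ω = ∑ q : Quotient (orbitRel X Ω), Nat.card (orbit X q.out) := by
    rw [← Nat.card_sigma]
    exact Nat.card_congr (selfEquivSigmaOrbits X Ω)
  have hpos : ∀ q : Quotient (orbitRel X Ω), 1 ≤ Nat.card (orbit X q.out) := fun q => by
    haveI : Nonempty (orbit X q.out) := ⟨⟨_, mem_orbit_self _⟩⟩
    exact Nat.card_pos
  have h2 : (∏ q : Quotient (orbitRel X Ω), Nat.card (orbit X q.out)) * 2 ^ Nat.card (Quotient (orbitRel X Ω)) =
      ∏ q : Quotient (orbitRel X Ω), 2 * Nat.card (orbit X q.out) := by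
    rw [Finset.prod_mul_distrib, Finset.prod_const, Finset.card_univ, ← Nat.card_eq_fintype_card, mul_comm]
  have h3 : ∏ q : Quotient (orbitRel X Ω), 2 * Nat.card (orbit X q.out) ≤ 2 ^ Nat.card Ω := by
    rw [hsum, ← Finset.prod_pow_eq_pow_sum]
    exact Finset.prod_le_prod' fun q _ => (two_mul_le_two_pow _ (hpos q)).1
  refine ⟨(Nat.mul_le_mul_right _ h1).trans (h2.le.trans h3), fun hge hne => ?_⟩
  have h4 : ∀ q : Quotient (orbitRel X Ω), Nat.card (orbit X q.out) ≤ 2 := by
    intro q
    by_contra hq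
    push Not at hq
    have hlt : ∏ q : Quotient (orbitRel X Ω), 2 * Nat.card (orbit X q.out) < 2 ^ Nat.card Ω := by
      rw [hsum, ← Finset.prod_pow_eq_pow_sum]
      exact Finset.prod_lt_prod (fun i _ => by have := hpos i; omega)
        (fun i _ => (two_mul_le_two_pow _ (hpos i)).1)
        ⟨q, Finset.mem_univ q, (two_mul_le_two_pow _ (hpos q)).2 hq⟩
    exact absurd ((Nat.mul_le_mul_right _ h1).trans h2.le) (not_le.mpr (hlt.trans_le hge))
  have h5 : Function.Bijective f := by
    refine (Nat.bijective_iff_injective_and_card f).mpr ⟨hinj, le_antisymm ?_ ?_⟩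
    · rw [Nat.card_pi]; exact h1
    · rw [Nat.card_pi]
      refine Nat.le_of_mul_le_mul_right (c := 2 ^ Nat.card (Quotient (orbitRel X Ω))) ?_ (Nat.two_pow_pos _)
      exact h2.le.trans (h3.trans hge)
  obtain ⟨q0, hq0⟩ : ∃ q : Quotient (orbitRel X Ω), ∃ x : X, x • q.out ≠ q.out := by
    by_contra hh
    push Not at hh
    obtain ⟨x, hx⟩ := hne
    exact hx (eq_of_reps (Ω := Ω) hc fun q => by rw [hh q x, one_smul])
  obtain ⟨x0, hx0⟩ := hq0
  obtain ⟨x, hx⟩ := h5.2 (Function.update (fun q => f 1 q) q0 ⟨x0 • q0.out, mem_orbit _ _⟩)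
  have hxq : x • q0.out = x0 • q0.out := by
    rw [← hf, hx, Function.update_self]
  have hxo : ∀ q, q ≠ q0 → x • q.out = q.out := fun q hq => by
    rw [← hf, hx, Function.update_of_ne hq, hf, one_smul]
  refine ⟨x, q0.out, x0 • q0.out, Ne.symm hx0, hxq, ?_, ?_⟩
  · by_contra hn
    have h6 := h4 q0
    have h7 : ({q0.out, x0 • q0.out, x • (x0 • q0.out)} : Finset Ω).card ≤ 2 := by
      refine le_trans ?_ h6
      rw [Nat.card_eq_fintype_card, ← Set.toFinset_card]
      refine Finset.card_le_card fun ω hω => Set.mem_toFinset.mpr ?_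
      simp only [Finset.mem_insert, Finset.mem_singleton] at hω
      rcases hω with rfl | rfl | rfl
      · exact mem_orbit_self _
      · exact mem_orbit _ _
      · rw [smul_smul]; exact mem_orbit _ _
    rw [Finset.card_insert_of_notMem, Finset.card_insert_of_notMem, Finset.card_singleton] at h7
    · omega
    · rw [Finset.mem_singleton]
      intro e
      refine hx0 (smul_left_cancel x ?_)
      rw [← e, hxq]
    · simp only [Finset.mem_insert, Finset.mem_singleton, not_or]
      exact ⟨Ne.symm hx0, fun e => hn e.symm⟩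
  · intro c hca hcb
    by_cases hq : Quotient.mk (orbitRel X Ω) c = q0
    · exfalso
      have h6 := h4 q0
      have h7 : ({c, q0.out, x0 • q0.out} : Finset Ω).card ≤ 2 := by
        refine le_trans ?_ h6
        rw [Nat.card_eq_fintype_card, ← Set.toFinset_card]
        refine Finset.card_le_card fun ω hω => Set.mem_toFinset.mpr ?_
        simp only [Finset.mem_insert, Finset.mem_singleton] at hω
        rcases hω with rfl | rfl | rfl
        · obtain ⟨d, hd⟩ := (orbitRel X Ω).symm (Quotient.mk_out (s := orbitRel X Ω) ω)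
          exact ⟨d, by rw [← hq]; exact hd⟩
        · exact mem_orbit_self _
        · exact mem_orbit _ _
      rw [Finset.card_insert_of_notMem, Finset.card_insert_of_notMem, Finset.card_singleton] at h7
      · omega
      · rw [Finset.mem_singleton]; exact Ne.symm hx0
      · simp only [Finset.mem_insert, Finset.mem_singleton, not_or]
        exact ⟨hca, hcb⟩
    · have hxc := hxo _ hq
      obtain ⟨d, hd⟩ := (orbitRel X Ω).symm (Quotient.mk_out (s := orbitRel X Ω) c)
      rw [← hd]
      show x • d • _ = d • _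
      rw [smul_smul, hc x d, ← smul_smul, hxc]

end Cfsg.Agent.Fus.PermOffender
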