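import Cfsg.Agent.Lib.Fus.PMinFF.CStarStar

/-!
# Back from the automorphisms induced on a normal subgroup to the group
-/

set_option autoImplicit false
set_option linter.unusedSectionVars false
set_option linter.style.haveILetI false

open scoped commutatorElement

namespace Cfsg.Agent.Fus.CStarStar

open Subgroup Cfsg.Agent.Grp Cfsg.Agent.Grp.OffenderSL2 Cfsg.Agent.Fus.MinModule
open Cfsg.Agent.Fus.CharTransfer (Amb act modW)

universe u

variable {G : Type u} [Group G] [Finite G] (W : Subgroup G) [W.Normal]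

theorem commutator_le_normal (H : Subgroup G) : ⁅W, H⁆ ≤ W := Subgroup.commutator_le_left W H

theorem inl_commutator (w : ↥W) (x : G) (hm : ⁅(w : G), x⁆ ∈ W) :
    (SemidirectProduct.inl ⟨⁅(w : G), x⁆, hm⟩ : Amb W) = ⁅(SemidirectProduct.inl w : Amb W), act W x⁆ := by
  have e : ⁅(SemidirectProduct.inl w : Amb W), act W x⁆ =
      SemidirectProduct.inl w * (act W x * SemidirectProduct.inl w⁻¹ * (act W x)⁻¹) := by
    rw [commutatorElement_def, map_inv]
    group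
  rw [e, CharTransfer.act_inl, ← map_mul]
  refine congrArg _ (Subtype.ext ?_)
  rw [coe_mul, MulAut.conjNormal_apply, coe_inv]
  show ⁅(w : G), x⁆ = _
  rw [commutatorElement_def]
  group

/-- The commutator with a subgroup, computed in the ambient group of the automorphisms. -/
theorem map_commutator_inl (H : Subgroup G) :
    (⁅W, H⁆.subgroupOf W).map (SemidirectProduct.inl : ↥W →* Amb W) = ⁅modW W, H.map (act W)⁆ := by
  refine le_antisymm ?_ (commutator_le.mpr ?_)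
  · have hle : ⁅W, H⁆ ≤ ((⁅modW W, H.map (act W)⁆).comap SemidirectProduct.inl).map W.subtype := by
      refine commutator_le.mpr fun w hw x hx => ⟨⟨⁅w, x⁆, commutator_le_normal W H
        (commutator_mem_commutator hw hx)⟩, ?_, rfl⟩
      rw [SetLike.mem_coe, mem_comap, inl_commutator W ⟨w, hw⟩ x]
      exact commutator_mem_commutator ⟨_, rfl⟩ (mem_map_of_mem _ hx)
    rintro _ ⟨u, hu, rfl⟩
    obtain ⟨v, hv, e⟩ := hle hu
    rw [← show v = u from Subtype.ext e]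
    exact hv
  · rintro _ ⟨w, rfl⟩ _ ⟨x, hx, rfl⟩
    have hm : ⁅(w : G), x⁆ ∈ ⁅W, H⁆ := commutator_mem_commutator w.2 hx
    exact ⟨⟨_, commutator_le_normal W H hm⟩, hm, inl_commutator W w x _⟩

/-- The module splits in the group when it splits in the ambient group. -/
theorem decomp_pull {r : ℕ} (E : Fin r → Subgroup G)
    (h : (modW W ⊓ centralizer ((⨆ i, (E i).map (act W) : Subgroup (Amb W)) : Set (Amb W))) ⊔
      (⨆ i, ⁅modW W, (E i).map (act W)⁆) = modW W) :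
    (W ⊓ centralizer ((⨆ i, E i : Subgroup G) : Set G)) ⊔ (⨆ i, ⁅W, E i⁆) = W := by
  refine le_antisymm (sup_le inf_le_left (iSup_le fun i => commutator_le_normal W _)) fun v hv => ?_
  have hle : modW W ≤ ((((W ⊓ centralizer ((⨆ i, E i : Subgroup G) : Set G)) ⊔ (⨆ i, ⁅W, E i⁆))).subgroupOf W).map
      SemidirectProduct.inl := by
    refine h.ge.trans (sup_le ?_ (iSup_le fun i => ?_))
    · rintro _ ⟨⟨w, rfl⟩, hw⟩
      refine ⟨w, mem_sup_left ⟨w.2, (CharTransfer.fix_iff W).mp ?_⟩, rfl⟩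
      rwa [Subgroup.map_iSup]
    · rw [← map_commutator_inl]
      exact map_mono (comap_mono ((le_iSup (fun i => ⁅W, E i⁆) i).trans le_sup_right))
  obtain ⟨w, hw, e⟩ := hle ⟨⟨v, hv⟩, rfl⟩
  rw [SemidirectProduct.inl_inj] at e
  subst e
  exact hw

/-- Commuting is detected in the ambient group. -/
theorem fix_pull {A B : Subgroup G} (h : ⁅⁅modW W, A.map (act W)⁆, B.map (act W)⁆ = ⊥) : ⁅⁅W, A⁆, B⁆ = ⊥ := by
  rw [← map_commutator_inl] at h
  refine eq_bot_iff.mpr (commutator_le.mpr fun u hu y hy => mem_bot.mpr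
    (commutatorElement_eq_one_iff_mul_comm.mpr ?_))
  have huW : u ∈ W := commutator_le_normal W A hu
  have h1 : ⁅(SemidirectProduct.inl ⟨u, huW⟩ : Amb W), act W y⁆ = 1 :=
    mem_bot.mp (h.le (commutator_mem_commutator ⟨⟨u, huW⟩, hu, rfl⟩ (mem_map_of_mem _ hy)))
  exact ((CharTransfer.act_eq_iff W y ⟨u, huW⟩).mp
    (mul_inv_eq_iff_eq_mul.mpr (commutatorElement_eq_one_iff_mul_comm.mp h1).symm)).symm

/-- The model of a block, read in the group. -/
theorem acts_pull {p : ℕ} (E : Subgroup G) (hA : Acts p (modW W) (E.map (act W))) :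
    ∃ n : ℕ, 1 ≤ n ∧
      ((∃ (F : Type) (_ : Field F) (_ : Fintype F), Fintype.card F = p ^ n ∧
          (∃ _ : ((centralizer (W : Set G)).subgroupOf E).Normal,
            Nonempty (↥E ⧸ (centralizer (W : Set G)).subgroupOf E ≃* Matrix.SpecialLinearGroup (Fin 2) F)) ∧
          Cfsg.ActsAsSL2OnSection F ⊤ E ⁅W, E⁆ (⁅W, E⁆ ⊓ centralizer ((E : Subgroup G) : Set G))) ∨
        (p = 2 ∧ (∃ _ : ((centralizer (W : Set G)).subgroupOf E).Normal,
            Nonempty (↥E ⧸ (centralizer (W : Set G)).subgroupOf E ≃* Equiv.Perm (Fin (2 ^ n + 1)))) ∧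
          Cfsg.ActsAsOddPermModuleOnSection (2 ^ n + 1) ⊤ E ⁅W, E⁆
            (⁅W, E⁆ ⊓ centralizer ((E : Subgroup G) : Set G)))) := by
  haveI hCn : (centralizer (W : Set G)).Normal := Invol.PushUnique.centralizer_normal' W
  obtain ⟨θ, hθ⟩ : ∃ θ : ↥E →* ↥(E.map (act W)), ∀ x, (θ x : Amb W) = act W x :=
    ⟨((act W).comp E.subtype).codRestrict _ fun x => mem_map_of_mem _ x.2, fun x => rfl⟩
  have hθs : Function.Surjective θ := fun y => by
    obtain ⟨x, hx, e⟩ := y.2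
    exact ⟨⟨x, hx⟩, Subtype.ext ((hθ _).trans e)⟩
  have hker : θ.ker = (centralizer (W : Set G)).subgroupOf E := Subgroup.ext fun x => by
    rw [MonoidHom.mem_ker, Subtype.ext_iff, hθ, coe_one, mem_subgroupOf, CharTransfer.act_one_iff]
  have hiso : ∀ {K : Type} [Group K], Nonempty (↥(E.map (act W)) ≃* K) →
      Nonempty (↥E ⧸ (centralizer (W : Set G)).subgroupOf E ≃* K) := fun {K} _ ⟨e⟩ =>
    ⟨((QuotientGroup.quotientMulEquivOfEq hker.symm).trans
      (QuotientGroup.quotientKerEquivOfSurjective θ hθs)).trans e⟩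
  have hm : ∀ u : ↥⁅W, E⁆, (u : G) ∈ W := fun u => commutator_le_normal W E u.2
  obtain ⟨κ, hκ⟩ : ∃ κ : ↥⁅W, E⁆ →* ↥⁅modW W, E.map (act W)⁆,
      ∀ u, (κ u : Amb W) = SemidirectProduct.inl ⟨u, hm u⟩ :=
    ⟨{ toFun := fun u => ⟨SemidirectProduct.inl ⟨u, hm u⟩,
          (map_commutator_inl W E).le ⟨⟨u, hm u⟩, u.2, rfl⟩⟩
       map_one' := Subtype.ext (map_one (SemidirectProduct.inl : ↥W →* Amb W))
       map_mul' := fun a b => Subtype.ext
        (map_mul (SemidirectProduct.inl : ↥W →* Amb W) ⟨a, hm a⟩ ⟨b, hm b⟩) }, fun u => rfl⟩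
  have hκs : Function.Surjective κ := fun y => by
    obtain ⟨w, hw, e⟩ := (map_commutator_inl W E).ge y.2
    exact ⟨⟨w, hw⟩, Subtype.ext ((hκ _).trans e)⟩
  have hκ0 : ∀ u, ((κ u : Amb W) ∈ ⁅modW W, E.map (act W)⁆ ⊓ centralizer ((E.map (act W) : Subgroup _) : Set (Amb W)) ↔
      (u : G) ∈ ⁅W, E⁆ ⊓ centralizer (E : Set G)) := fun u => by
    rw [mem_inf, mem_inf, hκ, CharTransfer.fix_iff W]
    exact and_congr_left fun _ => iff_of_true ((hκ u) ▸ (κ u).2) u.2
  have hnorm : E ≤ normalizer ((⁅W, E⁆ : Subgroup G) : Set G) := fun e he => RootPair.norm_of_cj (by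
    rw [cj, map_commutator]
    exact congrArg₂ (fun a b => ⁅a, b⁆)
      (RootPair.cj_eq_of_norm ((normalizer_eq_top_iff.mpr inferInstance : normalizer (W : Set G) = ⊤).ge (mem_top e)))
      (RootPair.cj_eq_of_norm (le_normalizer he)))
  have hconj : ∀ (e : ↥E) (u : ↥⁅W, E⁆) (hw : (e : G) * u * (e : G)⁻¹ ∈ ⁅W, E⁆),
      (κ ⟨_, hw⟩ : Amb W) = (θ e : Amb W) * (κ u : Amb W) * (θ e : Amb W)⁻¹ := fun e u hw => by
    rw [hκ, hκ, hθ, CharTransfer.act_inl]
    exact congrArg _ (Subtype.ext (MulAut.conjNormal_apply (e : G) ⟨(u : G), hm u⟩).symm)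
  obtain ⟨n, hn, hmod⟩ := hA
  refine ⟨n, hn, hmod.imp ?_ ?_⟩
  · rintro ⟨F, iF, fF, hF, he, -, -, ρ, ψ, hρ, hψ, hk, hact⟩
    refine ⟨F, iF, fF, hF, ⟨inferInstance, hiso he⟩, hnorm, inf_le_left, ρ.comp θ, ψ.comp κ, ?_, hψ.comp hκs,
      fun u => (hk (κ u)).trans (hκ0 u), fun e u => ?_⟩
    · exact MonoidHom.range_eq_top.mpr ((MonoidHom.range_eq_top.mp hρ).comp hθs)
    · obtain ⟨w', hw', e'⟩ := hact (θ e) (κ u)
      refine ⟨⟨_, (mem_normalizer_iff.mp (hnorm e.2) _).mp u.2⟩, rfl, ?_⟩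
      refine Eq.trans ?_ e'
      exact congrArg (fun z => Multiplicative.toAdd (ψ z)) (Subtype.ext ((hconj e u _).trans hw'.symm))
  · rintro ⟨hp, he, -, -, ρ, ψ, hρ, hsum, hψ, hk, hact⟩
    refine ⟨hp, ⟨inferInstance, hiso he⟩, hnorm, inf_le_left, ρ.comp θ, ψ.comp κ, ?_, fun u => hsum (κ u),
      fun v hv => ?_, fun u => (hk (κ u)).trans (hκ0 u), fun e u => ?_⟩
    · exact MonoidHom.range_eq_top.mpr ((MonoidHom.range_eq_top.mp hρ).comp hθs)
    · obtain ⟨u, hu⟩ := hψ v hv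
      obtain ⟨u, rfl⟩ := hκs u
      exact ⟨u, hu⟩
    · obtain ⟨w', hw', e'⟩ := hact (θ e) (κ u)
      refine ⟨⟨_, (mem_normalizer_iff.mp (hnorm e.2) _).mp u.2⟩, rfl, fun j => ?_⟩
      refine Eq.trans ?_ (e' j)
      exact congrArg (fun z => Multiplicative.toAdd (ψ z) j) (Subtype.ext ((hconj e u _).trans hw'.symm))

end Cfsg.Agent.Fus.CStarStar
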