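import Cfsg.Agent.Lib.Fus.RootPairConfig
import Cfsg.Agent.Lib.Fus.FailGlobal
import Cfsg.Agent.Lib.Grp.Frattini

/-!
# Transvections in a group with one maximal overgroup of a Sylow 2-subgroup

`W` is an irreducible module over the field with two elements.  The transvections outside `M` have centres forming
a basis of `W`, permuted by `S`, and two of them fail to commute exactly if they lie in the same class.
-/

set_option autoImplicit false
set_option linter.unusedSectionVars false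
set_option linter.style.haveILetI false

open scoped commutatorElement

namespace Cfsg.Agent.Fus.Transp

open Subgroup Cfsg.Agent.Grp Cfsg.Agent.Grp.OffenderSL2 Cfsg.Agent.Fus.RootPair

universe u

variable {G : Type u} [Group G] [Finite G]

/-- The hypotheses. -/
structure Ctx (W Γ S M : Subgroup G) : Prop extends Sit 2 W Γ S M where
  irr : ∀ U : Subgroup G, U ≤ W → (∀ h ∈ Γ, ∀ w ∈ U, h * w * h⁻¹ ∈ U) → U = ⊥ ∨ U = W

/-- A transvection of `Γ` on `W`. -/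
structure Tv (W Γ : Subgroup G) (y : G) : Prop where
  mem : y ∈ Γ
  ne : y ≠ 1
  sq : y * y = 1
  card : Nat.card W ≤ 2 * Nat.card ↥(W ⊓ centralizer ({y} : Set G))

/-- Whether `y` moves `w`. -/
noncomputable def mu (y w : G) : ZMod 2 := by
  classical exact if ⁅y, w⁆ = 1 then 0 else 1

theorem zmod_two_cases : ∀ a : ZMod 2, a = 0 ∨ a = 1 := by decide

theorem mu_eq_zero {y w : G} : mu y w = 0 ↔ ⁅y, w⁆ = 1 := by
  unfold mu
  split_ifs with h <;> simp [h]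

theorem mu_eq_one {y w : G} : mu y w = 1 ↔ ⁅y, w⁆ ≠ 1 := by
  unfold mu
  split_ifs with h <;> simp [h]

theorem mu_eq_zero' {y w : G} : mu y w = 0 ↔ y * w * y⁻¹ = w := by
  rw [mu_eq_zero, commutatorElement_eq_one_iff_mul_comm, mul_inv_eq_iff_eq_mul]

variable {W Γ S M : Subgroup G} (C : Ctx W Γ S M)
include C

theorem Ctx.inv_eq {w : G} (hw : w ∈ W) : w⁻¹ = w := by
  have := C.wexp w hw
  rw [pow_two] at this
  exact inv_eq_of_mul_eq_one_right this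

theorem Ctx.comm_mem {y w : G} (hy : y ∈ Γ) (hw : w ∈ W) : ⁅y, w⁆ ∈ W :=
  W.mul_mem (C.norm y hy w hw) (W.inv_mem hw)

theorem Ctx.comm_mul {y v w : G} (hy : y ∈ Γ) (hv : v ∈ W) (hw : w ∈ W) :
    ⁅y, v * w⁆ = ⁅y, v⁆ * ⁅y, w⁆ := by
  have e : ⁅y, v * w⁆ = ⁅y, v⁆ * (v * ⁅y, w⁆ * v⁻¹) := by simp only [commutatorElement_def]; group
  rw [e, C.wcomm v hv _ (C.comm_mem hy hw), mul_inv_cancel_right]

theorem Ctx.centre_unique {y v w : G} (hy : Tv W Γ y) (hv : v ∈ W) (hw : w ∈ W) (hv1 : ⁅y, v⁆ ≠ 1)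
    (hw1 : ⁅y, w⁆ ≠ 1) : ⁅y, v⁆ = ⁅y, w⁆ := by
  classical
  let φ : ↥W →* G :=
    { toFun := fun u => ⁅y, (u : G)⁆
      map_one' := by simp
      map_mul' := fun a b => C.comm_mul hy.mem a.2 b.2 }
  have hker : φ.ker.map W.subtype = W ⊓ centralizer ({y} : Set G) := by
    ext u
    constructor
    · rintro ⟨a, ha, rfl⟩
      exact ⟨a.2, mem_centralizer_singleton_iff.mpr (commutatorElement_eq_one_iff_mul_comm.mp ha).symm⟩
    · rintro ⟨hu, hc⟩
      exact ⟨⟨u, hu⟩, commutatorElement_eq_one_iff_mul_comm.mpr (mem_centralizer_singleton_iff.mp hc).symm, rfl⟩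
  have h2 : Nat.card φ.range ≤ 2 := by
    have h := φ.ker.index_mul_card
    rw [index_ker, ← card_map_of_injective W.subtype_injective, hker] at h
    exact Nat.le_of_mul_le_mul_right (h.le.trans hy.card) Nat.card_pos
  by_contra hne
  have h3 : 3 ≤ Nat.card φ.range := by
    have hf : Function.Injective (fun i : Fin 3 => (![⟨1, one_mem _⟩, ⟨⁅y, v⁆, ⟨⟨v, hv⟩, rfl⟩⟩,
        ⟨⁅y, w⁆, ⟨⟨w, hw⟩, rfl⟩⟩] : Fin 3 → φ.range) i) := by
      intro i j h
      fin_cases i <;> fin_cases j <;> simp [Subtype.ext_iff] at h ⊢ <;>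
        first
          | exact absurd h hne
          | exact absurd h.symm hne
          | exact absurd h hv1
          | exact absurd h.symm hv1
          | exact absurd h hw1
          | exact absurd h.symm hw1
    simpa using Nat.card_le_card_of_injective _ hf
  omega

theorem Ctx.exists_moved {y : G} (hy : y ∈ Γ) (hy1 : y ≠ 1) : ∃ w ∈ W, ⁅y, w⁆ ≠ 1 := by
  by_contra hc
  push Not at hc
  refine hy1 (mem_bot.mp (C.faith.le (mem_inf.mpr ⟨hy, mem_centralizer_iff.mpr fun w hw => ?_⟩)))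
  exact (commutatorElement_eq_one_iff_mul_comm.mp (hc w hw)).symm

omit C in
/-- The centre of a transvection. -/
noncomputable def zc (W : Subgroup G) (y : G) : G := by
  classical exact if h : ∃ w ∈ W, ⁅y, w⁆ ≠ 1 then ⁅y, h.choose⁆ else 1

theorem Ctx.zc_spec {y : G} (hy : Tv W Γ y) :
    zc W y ∈ W ∧ zc W y ≠ 1 ∧ (∀ w ∈ W, mu y w = 1 → ⁅y, w⁆ = zc W y) ∧ mu y (zc W y) = 0 := by
  have h := C.exists_moved hy.mem hy.ne
  have hz : zc W y = ⁅y, h.choose⁆ := by rw [zc, dif_pos h]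
  obtain ⟨hv, hv1⟩ := h.choose_spec
  refine ⟨hz ▸ C.comm_mem hy.mem hv, hz ▸ hv1, fun w hw hw1 => hz ▸ C.centre_unique hy hw hv (mu_eq_one.mp hw1) hv1, ?_⟩
  rw [mu_eq_zero', hz]
  obtain ⟨v, hvd⟩ : ∃ v, v = h.choose := ⟨_, rfl⟩
  rw [← hvd] at hv ⊢
  have hyi : y⁻¹ = y := inv_eq_of_mul_eq_one_right hy.sq
  calc y * ⁅y, v⁆ * y⁻¹ = (y * y) * v * (y * y)⁻¹ * (y * v⁻¹ * y⁻¹) := by
        rw [commutatorElement_def]; group
    _ = v * (y * v * y⁻¹)⁻¹ := by rw [hy.sq]; group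
    _ = v⁻¹ * (y * v * y⁻¹) := by rw [C.inv_eq (C.norm y hy.mem v hv), C.inv_eq hv]
    _ = _ := by rw [commutatorElement_def, C.wcomm _ (C.norm y hy.mem v hv) _ (W.inv_mem hv)]

theorem Ctx.act {y w : G} (hy : Tv W Γ y) (hw : w ∈ W) :
    (mu y w = 0 ∧ y * w * y⁻¹ = w) ∨ (mu y w = 1 ∧ y * w * y⁻¹ = zc W y * w) := by
  rcases zmod_two_cases (mu y w) with h | h
  · exact Or.inl ⟨h, mu_eq_zero'.mp h⟩
  · refine Or.inr ⟨h, ?_⟩
    rw [← (C.zc_spec hy).2.2.1 w hw h, commutatorElement_def]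
    group

theorem Ctx.mu_mul {y v w : G} (hy : Tv W Γ y) (hv : v ∈ W) (hw : w ∈ W) :
    mu y (v * w) = mu y v + mu y w := by
  obtain ⟨hzW, hz1, hz, -⟩ := C.zc_spec hy
  have hm := C.comm_mul hy.mem hv hw
  rcases zmod_two_cases (mu y v) with h1 | h1 <;> rcases zmod_two_cases (mu y w) with h2 | h2
  · rw [h1, h2, mu_eq_zero.mpr (by rw [hm, mu_eq_zero.mp h1, mu_eq_zero.mp h2, one_mul])]; rfl
  · rw [h1, h2, mu_eq_one.mpr (by rw [hm, mu_eq_zero.mp h1, one_mul]; exact mu_eq_one.mp h2)]; rfl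
  · rw [h1, h2, mu_eq_one.mpr (by rw [hm, mu_eq_zero.mp h2, mul_one]; exact mu_eq_one.mp h1)]; rfl
  · rw [h1, h2, mu_eq_zero.mpr]
    · decide
    · rw [hm, hz v hv h1, hz w hw h2, ← pow_two]
      exact C.wexp _ hzW

theorem Ctx.mu_one {y : G} : mu y (1 : G) = 0 := mu_eq_zero.mpr (commutatorElement_one_right y)

/-- The value of a functional additive on `W` after the action of a transvection. -/
theorem Ctx.fun_act {f : G → ZMod 2} (hf : ∀ v ∈ W, ∀ w ∈ W, f (v * w) = f v + f w) {y w : G}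
    (hy : Tv W Γ y) (hw : w ∈ W) : f (y * w * y⁻¹) = f w + mu y w * f (zc W y) := by
  rcases C.act hy hw with ⟨h, e⟩ | ⟨h, e⟩
  · rw [e, h, zero_mul, add_zero]
  · rw [e, h, one_mul, hf _ (C.zc_spec hy).1 _ hw, add_comm]

theorem Ctx.conj_tv {h y : G} (hh : h ∈ Γ) (hy : Tv W Γ y) :
    Tv W Γ (h * y * h⁻¹) ∧ zc W (h * y * h⁻¹) = h * zc W y * h⁻¹ ∧
      ∀ w ∈ W, mu (h * y * h⁻¹) w = mu y (h⁻¹ * w * h) := by
  have hW : ∀ w ∈ W, h⁻¹ * w * h ∈ W := fun w hw => by simpa using C.norm h⁻¹ (inv_mem hh) w hw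
  have he : ∀ w, ⁅h * y * h⁻¹, w⁆ = h * ⁅y, h⁻¹ * w * h⁆ * h⁻¹ := fun w => by
    simp only [commutatorElement_def]; group
  have htv : Tv W Γ (h * y * h⁻¹) := by
    refine ⟨mul_mem (mul_mem hh hy.mem) (inv_mem hh), fun e => hy.ne (conj_eq_one_iff.mp e), ?_, ?_⟩
    · rw [show h * y * h⁻¹ * (h * y * h⁻¹) = h * (y * y) * h⁻¹ by group, hy.sq]; group
    · refine hy.card.trans (Nat.mul_le_mul_left _ ?_)
      refine (card_cj h _).ge.trans (card_le_of_le (cj_le.mpr fun w hw => ⟨C.norm h hh w hw.1, ?_⟩))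
      refine mem_centralizer_singleton_iff.mpr ?_
      have h1 := mem_centralizer_singleton_iff.mp hw.2
      calc h * w * h⁻¹ * (h * y * h⁻¹) = h * (w * y) * h⁻¹ := by group
        _ = h * (y * w) * h⁻¹ := by rw [h1]
        _ = _ := by group
  have hmu : ∀ w ∈ W, mu (h * y * h⁻¹) w = mu y (h⁻¹ * w * h) := fun w hw => by
    rcases zmod_two_cases (mu y (h⁻¹ * w * h)) with h1 | h1
    · rw [h1, mu_eq_zero, he, mu_eq_zero.mp h1, mul_one, mul_inv_cancel]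
    · rw [h1, mu_eq_one, he]
      exact fun e => mu_eq_one.mp h1 (conj_eq_one_iff.mp e)
  refine ⟨htv, ?_, hmu⟩
  obtain ⟨w, hw, hw1⟩ := C.exists_moved hy.mem hy.ne
  have hw' : h * w * h⁻¹ ∈ W := C.norm h hh w hw
  have hm : mu (h * y * h⁻¹) (h * w * h⁻¹) = 1 := by
    rw [hmu _ hw', show h⁻¹ * (h * w * h⁻¹) * h = w by group]; exact mu_eq_one.mpr hw1
  rw [← (C.zc_spec htv).2.2.1 _ hw' hm, he, show h⁻¹ * (h * w * h⁻¹) * h = w by group,
    (C.zc_spec hy).2.2.1 w hw (mu_eq_one.mpr hw1)]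

/-- Conjugation by a transvection. -/
theorem Ctx.conj_by {f y : G} (hf : Tv W Γ f) (hy : Tv W Γ y) :
    Tv W Γ (f * y * f⁻¹) ∧
      (∀ w ∈ W, mu (f * y * f⁻¹) w = mu y w + mu f w * mu y (zc W f)) ∧
      ∀ g : G → ZMod 2, (∀ v ∈ W, ∀ w ∈ W, g (v * w) = g v + g w) →
        g (zc W (f * y * f⁻¹)) = g (zc W y) + mu f (zc W y) * g (zc W f) := by
  obtain ⟨h1, h2, h3⟩ := C.conj_tv hf.mem hy
  refine ⟨h1, fun w hw => ?_, fun g hg => by rw [h2]; exact C.fun_act hg hf (C.zc_spec hy).1⟩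
  have hfi : f⁻¹ = f := inv_eq_of_mul_eq_one_right hf.sq
  have e : f⁻¹ * w * f = f * w * f⁻¹ := by rw [hfi]
  rw [h3 w hw, e, C.fun_act (fun v hv w hw => C.mu_mul hy hv hw) hf hw]

theorem Ctx.conj_mu {h y w : G} (hh : h ∈ Γ) (hy : Tv W Γ y) (hw : w ∈ W) :
    mu (h * y * h⁻¹) (h * w * h⁻¹) = mu y w := by
  rw [(C.conj_tv hh hy).2.2 _ (C.norm h hh w hw), show h⁻¹ * (h * w * h⁻¹) * h = w by group]

/-- A functional on `W` killing `[S, W]`, and a fixed vector. -/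
theorem Ctx.exists_dual : ∃ (u : G) (κ : G → ZMod 2),
    u ∈ W ⊓ centralizer (S : Set G) ∧ u ∉ centralizer (Γ : Set G) ∧
    (∀ v ∈ W, ∀ w ∈ W, κ (v * w) = κ v + κ w) ∧ (∀ s ∈ S, ∀ w ∈ W, κ (s * w * s⁻¹) = κ w) ∧
    ∀ y, Tv W Γ y → y ∉ M → mu y u = 1 ∧ κ (zc W y) = 1 := by
  classical
  obtain ⟨u, hu, huG⟩ := C.toSit.exists_vec
  have hSn : ∀ s ∈ S, cj s W = W := fun s hs => C.toSit.cj_W (C.syl.1 hs)
  obtain ⟨R, hR⟩ : ∃ R, R = ⁅S, W⁆ := ⟨_, rfl⟩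
  have hRW : R ≤ W := hR ▸ commutator_le.mpr fun s hs w hw => C.comm_mem (C.syl.1 hs) hw
  have hWne : W ≠ ⊥ := fun e => huG (by
    rw [mem_bot.mp (e.le hu.1)]; exact one_mem _)
  have hRne : R ≠ W := by
    intro e
    have hWp : IsPGroup 2 W := fun w => ⟨1, Subtype.ext (by rw [pow_one, coe_pow, coe_one]; exact C.wexp _ w.2)⟩
    have hJ : IsPGroup 2 ↥(S ⊔ W) := C.syl.2.1.to_sup_of_normal_right' hWp fun s hs => norm_of_cj (hSn s hs)
    have : Group.IsNilpotent ↥(S ⊔ W) := hJ.isNilpotent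
    obtain ⟨k, hk⟩ := Subgroup.nilpotent_iff_lowerCentralSeries.mp this
    have hlow : ∀ n, W ≤ (Subgroup.lowerCentralSeries (⊤ : Subgroup ↥(S ⊔ W)) n).map (S ⊔ W).subtype := by
      intro n
      induction n with
      | zero => exact fun x hx => ⟨⟨x, le_sup_right (a := S) hx⟩, mem_top _, rfl⟩
      | succ n ih =>
        rw [Subgroup.lowerCentralSeries_succ, map_commutator]
        refine (e.ge.trans hR.le).trans ((commutator_comm _ _).le.trans (commutator_mono ih ?_))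
        exact fun r hr => ⟨⟨r, le_sup_left (b := W) hr⟩, mem_top _, rfl⟩
    refine hWne (eq_bot_iff.mpr fun x hx => ?_)
    have := hlow k hx
    rwa [hk, Subgroup.map_bot] at this
  obtain ⟨K, hK, hRK⟩ : ∃ K : Subgroup ↥W, IsCoatom K ∧ R.subgroupOf W ≤ K := by
    rcases eq_top_or_exists_le_coatom (R.subgroupOf W) with h | h
    · exact absurd (le_antisymm hRW (subgroupOf_eq_top.mp h)) hRne
    · exact h
  have hidx : K.index = 2 :=
    (Grp.coatom_index_eq_of_pGroup (p := 2) (fun w : ↥W => ⟨1, Subtype.ext (by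
      rw [pow_one, coe_pow, coe_one]; exact C.wexp _ w.2)⟩) hK).2
  obtain ⟨κ, hκ⟩ : ∃ κ : G → ZMod 2, ∀ w (hw : w ∈ W), κ w = if (⟨w, hw⟩ : ↥W) ∈ K then 0 else 1 :=
    ⟨fun w => if hw : w ∈ W then (if (⟨w, hw⟩ : ↥W) ∈ K then 0 else 1) else 0, fun w hw => dif_pos hw⟩
  have hadd : ∀ v ∈ W, ∀ w ∈ W, κ (v * w) = κ v + κ w := by
    intro v hv w hw
    have h := mul_mem_iff_of_index_two hidx (a := (⟨v, hv⟩ : ↥W)) (b := ⟨w, hw⟩)
    rw [hκ v hv, hκ w hw, hκ _ (W.mul_mem hv hw),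
      show (⟨v * w, W.mul_mem hv hw⟩ : ↥W) = ⟨v, hv⟩ * ⟨w, hw⟩ from rfl]
    by_cases h1 : (⟨v, hv⟩ : ↥W) ∈ K <;> by_cases h2 : (⟨w, hw⟩ : ↥W) ∈ K
    · rw [if_pos (h.mpr (iff_of_true h1 h2)), if_pos h1, if_pos h2]; rfl
    · rw [if_neg fun e => h2 ((h.mp e).mp h1), if_pos h1, if_neg h2]; rfl
    · rw [if_neg fun e => h1 ((h.mp e).mpr h2), if_neg h1, if_pos h2]; rfl
    · rw [if_pos (h.mpr (iff_of_false h1 h2)), if_neg h1, if_neg h2]; rfl
  have hS : ∀ s ∈ S, ∀ w ∈ W, κ (s * w * s⁻¹) = κ w := by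
    intro s hs w hw
    have hc := C.comm_mem (C.syl.1 hs) hw
    have h0 : κ ⁅s, w⁆ = 0 := by
      rw [hκ _ hc, if_pos]
      exact hRK (mem_subgroupOf.mpr (hR ▸ commutator_mem_commutator hs hw))
    rw [show s * w * s⁻¹ = ⁅s, w⁆ * w by rw [commutatorElement_def]; group, hadd _ hc _ hw, h0, zero_add]
  refine ⟨u, κ, hu, huG, hadd, hS, fun y hy hyM => ⟨?_, ?_⟩⟩
  · refine (zmod_two_cases _).resolve_left fun h => hyM ?_
    exact C.toSit.mem_of_fix hu huG hy.mem (mu_eq_zero'.mp h)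
  · refine (zmod_two_cases _).resolve_left fun h => hyM ?_
    obtain ⟨K0, hK0⟩ : ∃ K0 : Subgroup G, K0 = K.map W.subtype := ⟨_, rfl⟩
    have hK0W : K0 ≤ W := hK0 ▸ map_subtype_le K
    have hmem : ∀ w ∈ W, (w ∈ K0 ↔ κ w = 0) := fun w hw => by
      rw [hK0, show w = W.subtype ⟨w, hw⟩ from rfl, mem_map_iff_mem W.subtype_injective, W.coe_subtype,
        hκ w hw]
      by_cases h1 : (⟨w, hw⟩ : ↥W) ∈ K <;> simp [h1]
    have hnorm : ∀ k ∈ Γ, (∀ w ∈ W, κ (k * w * k⁻¹) = κ w) → k ∈ Γ ⊓ normalizer (K0 : Set G) :=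
      fun k hk hkk => mem_inf.mpr ⟨hk, norm_of_cj (eq_of_le_of_card_ge (cj_le.mpr fun w hw =>
        (hmem _ (C.norm k hk w (hK0W hw))).mpr (by rw [hkk w (hK0W hw)]; exact (hmem w (hK0W hw)).mp hw))
        (card_cj _ _).ge)⟩
    refine C.uniq (Γ ⊓ normalizer (K0 : Set G)) (fun s hs => hnorm s (C.syl.1 hs) (hS s hs)) inf_le_left ?_
      (hnorm y hy.mem fun w hw => by rw [C.fun_act hadd hy hw, h, mul_zero, add_zero])
    intro e
    rcases C.irr K0 hK0W fun k hk w hw =>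
        (mem_normalizer_iff.mp ((e.ge hk).2) w).mp hw with h0 | h0
    · obtain ⟨v, hv, hv1⟩ := C.exists_moved hy.mem hy.ne
      obtain ⟨hzW, hz1, -, -⟩ := C.zc_spec hy
      exact hz1 (mem_bot.mp (h0.le ((hmem _ hzW).mpr h)))
    · refine hK.1 (eq_top_iff.mpr fun w _ => ?_)
      have := h0.ge w.2
      rw [hK0] at this
      exact (mem_map_iff_mem W.subtype_injective).mp this

/-- The transvections are not all in `M`. -/
theorem Ctx.exists_out {y : G} (hy : Tv W Γ y) : ∃ x, Tv W Γ x ∧ x ∉ M := by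
  by_contra hc
  push Not at hc
  obtain ⟨N, hN⟩ : ∃ N, N = closure {x | Tv W Γ x} := ⟨_, rfl⟩
  have hNM : N ≤ M := hN ▸ (closure_le _).mpr fun x hx => hc x hx
  have hNn : ∀ h ∈ Γ, ∀ n ∈ N, h * n * h⁻¹ ∈ N := by
    intro h hh n hn
    have : closure {x | Tv W Γ x} ≤ N.comap (MulAut.conj h).toMonoidHom := (closure_le _).mpr fun x hx =>
      hN ▸ subset_closure (C.conj_tv hh hx).1
    exact this (hN ▸ hn)
  obtain ⟨P0, hP0⟩ : ∃ P0, P0 = S ⊓ N := ⟨_, rfl⟩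
  have hsyl : Grp.IsSylowIn 2 P0 N :=
    hP0 ▸ Fail.sylow_inf_normal C.syl (hNM.trans C.MG) hNn
  have hne : P0 ≠ ⊥ := by
    intro e
    have h2 := hsyl.2.2
    rw [e, relIndex_bot_left] at h2
    refine h2 ?_
    have h1 : orderOf y = 2 := orderOf_eq_prime (by rw [pow_two, hy.sq]) hy.ne
    exact h1 ▸ orderOf_dvd_natCard N (hN ▸ subset_closure hy)
  refine C.Mne (le_antisymm C.MG fun h hh => ?_)
  have hcj : Grp.IsSylowIn 2 (cj h P0) N := by
    have hle : cj h P0 ≤ N := cj_le.mpr fun n hn => hNn h hh n (hP0.le hn).2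
    refine ⟨hle, hsyl.2.1.map _, ?_⟩
    have e1 := relIndex_mul_relIndex ⊥ (cj h P0) N bot_le hle
    have e2 := relIndex_mul_relIndex ⊥ P0 N bot_le hsyl.1
    rw [relIndex_bot_left, relIndex_bot_left, card_cj] at e1
    rw [relIndex_bot_left, relIndex_bot_left, ← e1] at e2
    rw [← Nat.eq_of_mul_eq_mul_left Nat.card_pos e2]
    exact hsyl.2.2
  obtain ⟨n, hn, he⟩ := hsyl.conj hcj
  rw [← map_conj_eq_smul] at he
  have h1 : n⁻¹ * h ∈ M := C.toSit.norm_le (Q := P0) (hP0 ▸ inf_le_left.trans C.syl.1) hsyl.2.1 hne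
    (fun s hs => norm_of_cj (eq_of_le_of_card_ge (cj_le.mpr fun q hq => by
      rw [hP0] at hq ⊢
      exact ⟨S.mul_mem (S.mul_mem hs hq.1) (S.inv_mem hs), hNn s (C.syl.1 hs) q hq.2⟩) (card_cj _ _).ge))
    (mem_inf.mpr ⟨Γ.mul_mem (Γ.inv_mem (C.MG (hNM hn))) hh, norm_of_cj (by
      rw [← cj_cj, show cj h P0 = cj n P0 from he.symm, cj_cj, inv_mul_cancel, cj_one])⟩)
  simpa using M.mul_mem (hNM hn) h1

/-- What is fixed by the transvections outside `M` is trivial. -/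
theorem Ctx.fixed_trivial {y : G} (hy : Tv W Γ y) (hyM : y ∉ M) {w : G} (hw : w ∈ W)
    (h : ∀ x, Tv W Γ x → x ∉ M → mu x w = 0) : w = 1 := by
  obtain ⟨U, hU⟩ : ∃ U : Subgroup G, ∀ v, v ∈ U ↔ v ∈ W ∧ ∀ x, Tv W Γ x → x ∉ M → mu x v = 0 :=
    ⟨{ carrier := {v | v ∈ W ∧ ∀ x, Tv W Γ x → x ∉ M → mu x v = 0}
       one_mem' := ⟨one_mem _, fun _ _ _ => C.mu_one⟩
       mul_mem' := fun {a b} ha hb => ⟨mul_mem ha.1 hb.1, fun x hx hxM => by
         rw [C.mu_mul hx ha.1 hb.1, ha.2 x hx hxM, hb.2 x hx hxM, add_zero]⟩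
       inv_mem' := fun {a} ha => ⟨inv_mem ha.1, fun x hx hxM => by rw [C.inv_eq ha.1]; exact ha.2 x hx hxM⟩ },
      fun _ => Iff.rfl⟩
  have hUW : U ≤ W := fun v hv => ((hU v).mp hv).1
  have hH : Γ ⊓ normalizer (U : Set G) = Γ := by
    by_contra hne
    have hk : ∀ k ∈ Γ, (∀ v ∈ U, k * v * k⁻¹ ∈ U) → k ∈ Γ ⊓ normalizer (U : Set G) := fun k hk h1 =>
      mem_inf.mpr ⟨hk, norm_of_cj (eq_of_le_of_card_ge (cj_le.mpr h1) (card_cj _ _).ge)⟩
    have hMn : ∀ k ∈ M, ∀ v ∈ U, k * v * k⁻¹ ∈ U := fun k hk v hv => by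
      obtain ⟨hv1, hv2⟩ := (hU v).mp hv
      refine (hU _).mpr ⟨C.norm k (C.MG hk) v hv1, fun x hx hxM => ?_⟩
      have h1 := C.conj_mu (w := v) (C.MG hk) (C.conj_tv (inv_mem (C.MG hk)) hx).1 hv1
      rw [show k * (k⁻¹ * x * k⁻¹⁻¹) * k⁻¹ = x by group] at h1
      rw [h1]
      refine hv2 _ (C.conj_tv (inv_mem (C.MG hk)) hx).1 fun hin => hxM ?_
      have := M.mul_mem (M.mul_mem hk hin) (M.inv_mem hk)
      rwa [show k * (k⁻¹ * x * k⁻¹⁻¹) * k⁻¹ = x by group] at this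
    refine hyM (C.uniq _ (fun s hs => hk s (C.syl.1 hs) (hMn s (C.SM hs))) inf_le_left hne
      (hk y hy.mem fun v hv => ?_))
    rw [mu_eq_zero'.mp (((hU v).mp hv).2 y hy hyM)]
    exact hv
  rcases C.irr U hUW fun k hk v hv => (mem_normalizer_iff.mp ((hH.ge hk).2) v).mp hv with h0 | h0
  · exact mem_bot.mp (h0.le ((hU w).mpr ⟨hw, h⟩))
  · obtain ⟨v, hv, hv1⟩ := C.exists_moved hy.mem hy.ne
    exact absurd (((hU v).mp (h0.ge hv)).2 y hy hyM) (fun e => hv1 (mu_eq_zero.mp e))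

/-- The centres of the transvections outside `M` span. -/
theorem Ctx.centres_span {y : G} (hy : Tv W Γ y) (hyM : y ∉ M) {f : G → ZMod 2}
    (hf : ∀ v ∈ W, ∀ w ∈ W, f (v * w) = f v + f w) (h : ∀ x, Tv W Γ x → x ∉ M → f (zc W x) = 0) :
    ∀ w ∈ W, f w = 0 := by
  obtain ⟨U, hU⟩ : ∃ U, U = closure {v | ∃ x, Tv W Γ x ∧ x ∉ M ∧ v = zc W x} := ⟨_, rfl⟩
  have hUW : U ≤ W := hU ▸ (closure_le _).mpr (by rintro _ ⟨x, hx, -, rfl⟩; exact (C.zc_spec hx).1)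
  have hH : Γ ⊓ normalizer (U : Set G) = Γ := by
    by_contra hne
    have hk : ∀ k ∈ Γ, (∀ v ∈ U, k * v * k⁻¹ ∈ U) → k ∈ Γ ⊓ normalizer (U : Set G) := fun k hk h1 =>
      mem_inf.mpr ⟨hk, norm_of_cj (eq_of_le_of_card_ge (cj_le.mpr h1) (card_cj _ _).ge)⟩
    have hMn : ∀ k ∈ M, ∀ v ∈ U, k * v * k⁻¹ ∈ U := fun k hk v hv => by
      have : closure {v | ∃ x, Tv W Γ x ∧ x ∉ M ∧ v = zc W x} ≤ U.comap (MulAut.conj k).toMonoidHom := by
        refine (closure_le _).mpr ?_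
        rintro _ ⟨x, hx, hxM, rfl⟩
        refine hU ▸ subset_closure ⟨k * x * k⁻¹, (C.conj_tv (C.MG hk) hx).1, fun hin => hxM ?_,
          (C.conj_tv (C.MG hk) hx).2.1.symm⟩
        have := M.mul_mem (M.mul_mem (M.inv_mem hk) hin) hk
        rwa [show k⁻¹ * (k * x * k⁻¹) * k = x by group] at this
      exact this (hU ▸ hv)
    refine hyM (C.uniq _ (fun s hs => hk s (C.syl.1 hs) (hMn s (C.SM hs))) inf_le_left hne
      (hk y hy.mem fun v hv => ?_))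
    rcases C.act hy (hUW hv) with ⟨-, e⟩ | ⟨-, e⟩ <;> rw [e]
    · exact hv
    · exact U.mul_mem (hU ▸ subset_closure ⟨y, hy, hyM, rfl⟩) hv
  intro w hw
  rcases C.irr U hUW fun k hk v hv => (mem_normalizer_iff.mp ((hH.ge hk).2) v).mp hv with h0 | h0
  · exact absurd (mem_bot.mp (h0.le (hU ▸ subset_closure ⟨y, hy, hyM, rfl⟩))) (C.zc_spec hy).2.1
  · have hw' : w ∈ closure {v | ∃ x, Tv W Γ x ∧ x ∉ M ∧ v = zc W x} := hU ▸ h0.ge hw
    have hf1 : f 1 = 0 := by simpa using hf 1 (one_mem _) 1 (one_mem _)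
    induction hw' using closure_induction with
    | mem v hv => obtain ⟨x, hx, hxM, rfl⟩ := hv; exact h x hx hxM
    | one => exact hf1
    | mul a b ha hb iha ihb =>
      have ha' := hUW (hU ▸ ha)
      have hb' := hUW (hU ▸ hb)
      rw [hf a ha' b hb', iha ha', ihb hb', add_zero]
    | inv a ha iha =>
      have ha' := hUW (hU ▸ ha)
      rw [C.inv_eq ha']; exact iha ha'

/-- Transvections are separated by their functional and centre. -/
theorem Ctx.ext_tv {x y : G} (hx : Tv W Γ x) (hy : Tv W Γ y) (hz : zc W x = zc W y)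
    (hm : ∀ w ∈ W, mu x w = mu y w) : x = y := by
  refine inv_mul_eq_one.mp (mem_bot.mp (C.faith.le (mem_inf.mpr
    ⟨mul_mem (inv_mem hx.mem) hy.mem, mem_centralizer_iff.mpr fun w hw => ?_⟩)))
  have e : x * w * x⁻¹ = y * w * y⁻¹ := by
    rcases C.act hx hw with ⟨h, e⟩ | ⟨h, e⟩ <;> rcases C.act hy hw with ⟨h', e'⟩ | ⟨h', e'⟩
    · rw [e, e']
    · rw [hm w hw, h'] at h; exact absurd h one_ne_zero
    · rw [hm w hw, h'] at h; exact absurd h zero_ne_one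
    · rw [e, e', hz]
  refine (mul_inv_eq_iff_eq_mul.mp ?_).symm
  calc x⁻¹ * y * w * (x⁻¹ * y)⁻¹ = x⁻¹ * (y * w * y⁻¹) * x := by group
    _ = w := by rw [← e]; group

section
variable {u : G} {κ : G → ZMod 2}

/-- A functional and a fixed vector as supplied by `exists_dual`. -/
structure Dual (W Γ S M : Subgroup G) (u : G) (κ : G → ZMod 2) : Prop where
  umem : u ∈ W ⊓ centralizer (S : Set G)
  umoved : u ∉ centralizer (Γ : Set G)
  add : ∀ v ∈ W, ∀ w ∈ W, κ (v * w) = κ v + κ w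
  inv : ∀ s ∈ S, ∀ w ∈ W, κ (s * w * s⁻¹) = κ w
  out : ∀ y, Tv W Γ y → y ∉ M → mu y u = 1 ∧ κ (zc W y) = 1

variable (D : Dual W Γ S M u κ)
include D

theorem Dual.in_M {f : G} (hf : Tv W Γ f) (hfM : f ∈ M) : mu f u = 0 ∧ κ (zc W f) = 0 := by
  obtain ⟨y, hy, hyM⟩ := C.exists_out hf
  have hout : ∀ x, Tv W Γ x → x ∉ M → f * x * f⁻¹ ∉ M := fun x hx hxM hin => hxM (by
    simpa [mul_assoc] using M.mul_mem (M.mul_mem (M.inv_mem hfM) hin) hfM)
  obtain ⟨hzW, hz1, -, -⟩ := C.zc_spec hf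
  constructor
  · refine (zmod_two_cases _).resolve_right fun h => hz1 (C.fixed_trivial hy hyM hzW fun x hx hxM => ?_)
    obtain ⟨h1, h2, -⟩ := C.conj_by hf hx
    have h3 := h2 u D.umem.1
    rw [(D.out _ h1 (hout x hx hxM)).1, (D.out x hx hxM).1, h, one_mul] at h3
    exact add_eq_left.mp h3.symm
  · refine (zmod_two_cases _).resolve_right fun h => ?_
    obtain ⟨v, hv, hv1⟩ := C.exists_moved hf.mem hf.ne
    refine absurd (C.centres_span hy hyM (fun v hv w hw => C.mu_mul hf hv hw) (fun x hx hxM => ?_) v hv)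
      fun e => hv1 (mu_eq_zero.mp e)
    obtain ⟨h1, -, h3⟩ := C.conj_by hf hx
    have h4 := h3 κ D.add
    rw [(D.out _ h1 (hout x hx hxM)).2, (D.out x hx hxM).2, h, mul_one] at h4
    exact add_eq_left.mp h4.symm

/-- The relation is symmetric. -/
theorem Dual.symm_out {a b : G} (ha : Tv W Γ a) (haM : a ∉ M) (hb : Tv W Γ b) :
    mu a (zc W b) = mu b (zc W a) := by
  obtain ⟨h1, h2, h3⟩ := C.conj_by ha hb
  have h4 := h2 u D.umem.1
  have h5 := h3 κ D.add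
  rw [(D.out a ha haM).1, one_mul] at h4
  rw [(D.out a ha haM).2, mul_one] at h5
  have h7 : mu (a * b * a⁻¹) u = κ (zc W (a * b * a⁻¹)) ∧ mu b u = κ (zc W b) := by
    constructor
    · by_cases hM : a * b * a⁻¹ ∈ M
      · rw [(D.in_M C h1 hM).1, (D.in_M C h1 hM).2]
      · rw [(D.out _ h1 hM).1, (D.out _ h1 hM).2]
    · by_cases hM : b ∈ M
      · rw [(D.in_M C hb hM).1, (D.in_M C hb hM).2]
      · rw [(D.out _ hb hM).1, (D.out _ hb hM).2]
  rw [h7.1, h5, h7.2] at h4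
  rcases zmod_two_cases (mu a (zc W b)) with h | h <;> rcases zmod_two_cases (mu b (zc W a)) with h' | h' <;>
    rw [h, h'] at h4 ⊢ <;>
    rcases zmod_two_cases (κ (zc W b)) with k | k <;> rw [k] at h4 <;> revert h4 <;> decide

theorem Dual.symm {a b : G} (ha : Tv W Γ a) (hb : Tv W Γ b) : mu a (zc W b) = mu b (zc W a) := by
  by_cases haM : a ∈ M
  swap
  · exact D.symm_out C ha haM hb
  obtain ⟨y, hy, hyM, hy1⟩ : ∃ y, Tv W Γ y ∧ y ∉ M ∧ mu y (zc W a) = 1 := by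
    by_contra hc
    push Not at hc
    obtain ⟨x, hx, hxM⟩ := C.exists_out ha
    exact (C.zc_spec ha).2.1 (C.fixed_trivial hx hxM (C.zc_spec ha).1 fun y hy hyM =>
      (zmod_two_cases _).resolve_right (hc y hy hyM))
  have hyΓ := hy.mem
  obtain ⟨ha', hm, -⟩ := C.conj_by hy ha
  have ha'M : y * a * y⁻¹ ∉ M := fun hin => by
    have h := (D.in_M C ha' hin).1
    rw [hm u D.umem.1, (D.in_M C ha haM).1, (D.out y hy hyM).1, one_mul, zero_add,
      ← D.symm_out C hy hyM ha, hy1] at h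
    exact one_ne_zero h
  obtain ⟨hb', -, -⟩ := C.conj_by hy hb
  have h := D.symm_out C ha' ha'M hb'
  rw [(C.conj_tv hyΓ hb).2.1, C.conj_mu hyΓ ha (C.zc_spec hb).1, (C.conj_tv hyΓ ha).2.1,
    C.conj_mu hyΓ hb (C.zc_spec ha).1] at h
  exact h

/-- Two transvections outside `M` with one centre are equal. -/
theorem Dual.zc_inj {x y : G} (hx : Tv W Γ x) (hxM : x ∉ M) (hy : Tv W Γ y) (h : zc W x = zc W y) : x = y := by
  refine C.ext_tv hx hy h fun w hw => ?_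
  refine add_left_cancel (a := mu y w) ?_
  rw [show mu y w + mu y w = 0 from CharTwo.add_self_eq_zero _]
  refine C.centres_span hx hxM (f := fun v => mu y v + mu x v) (fun a ha b hb => ?_) (fun d hd hdM => ?_) w hw
  · show mu y (a * b) + mu x (a * b) = _
    rw [C.mu_mul hy ha hb, C.mu_mul hx ha hb]; ring
  · show mu y (zc W d) + mu x (zc W d) = 0
    rw [D.symm C hy hd, D.symm C hx hd, h]
    exact CharTwo.add_self_eq_zero _

/-- Failing to commute outside `M` is transitive. -/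
theorem Dual.rel_trans {x y v : G} (hx : Tv W Γ x) (hxM : x ∉ M) (hy : Tv W Γ y) (hyM : y ∉ M)
    (hv : Tv W Γ v) (hvM : v ∉ M) (hxy : mu x (zc W y) = 1) (hyv : mu y (zc W v) = 1) (hne : x ≠ v) :
    mu x (zc W v) = 1 := by
  refine (zmod_two_cases _).resolve_left fun hxv => hne ?_
  have hvx : mu v (zc W x) = 0 := (D.symm C hv hx).trans hxv
  have hyx : mu y (zc W x) = 1 := (D.symm C hy hx).trans hxy
  have hvy : mu v (zc W y) = 1 := (D.symm C hv hy).trans hyv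
  obtain ⟨hzx, -, -, hxx⟩ := C.zc_spec hx
  obtain ⟨hzy, -, -, hyy⟩ := C.zc_spec hy
  obtain ⟨hzv, -, -, hvv⟩ := C.zc_spec hv
  -- the two members of `M`
  have hinM : ∀ {a b : G}, Tv W Γ a → a ∉ M → Tv W Γ b → b ∉ M → mu b (zc W a) = 1 → a * b * a⁻¹ ∈ M := by
    intro a b ha haM hb hbM hab
    by_contra hn
    obtain ⟨h1, h2, -⟩ := C.conj_by ha hb
    have h3 := h2 u D.umem.1
    rw [(D.out _ h1 hn).1, (D.out b hb hbM).1, (D.out a ha haM).1, hab] at h3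
    revert h3; decide
  obtain ⟨f, hf⟩ : ∃ f, f = x * y * x⁻¹ := ⟨_, rfl⟩
  obtain ⟨g, hg⟩ : ∃ g, g = v * y * v⁻¹ := ⟨_, rfl⟩
  obtain ⟨hftv, hfmu, hfz⟩ : Tv W Γ f ∧ (∀ w ∈ W, mu f w = mu y w + mu x w) ∧
      zc W f = zc W x * zc W y := by
    obtain ⟨h1, h2, -⟩ := C.conj_by hx hy
    refine ⟨hf ▸ h1, fun w hw => by rw [hf, h2 w hw, hyx, mul_one], ?_⟩
    rw [hf, (C.conj_tv hx.mem hy).2.1]
    rcases C.act hx hzy with ⟨h, -⟩ | ⟨-, e⟩
    · rw [hxy] at h; exact absurd h one_ne_zero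
    · exact e
  obtain ⟨hgtv, hgmu, hgz⟩ : Tv W Γ g ∧ (∀ w ∈ W, mu g w = mu y w + mu v w) ∧
      zc W g = zc W v * zc W y := by
    obtain ⟨h1, h2, -⟩ := C.conj_by hv hy
    refine ⟨hg ▸ h1, fun w hw => by rw [hg, h2 w hw, hyv, mul_one], ?_⟩
    rw [hg, (C.conj_tv hv.mem hy).2.1]
    rcases C.act hv hzy with ⟨h, -⟩ | ⟨-, e⟩
    · rw [hvy] at h; exact absurd h one_ne_zero
    · exact e
  have hfM : f ∈ M := hf ▸ hinM hx hxM hy hyM hyx
  have hgM : g ∈ M := hg ▸ hinM hv hvM hy hyM hyv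
  have hzf := (C.zc_spec hftv).1
  have hzg := (C.zc_spec hgtv).1
  have hfg : mu f (zc W g) = 0 := by
    rw [hgz, C.mu_mul hftv hzv hzy, hfmu _ hzv, hfmu _ hzy, hyv, hxv, hyy, hxy]; decide
  have hgf : mu g (zc W f) = 0 := (D.symm C hgtv hftv).trans hfg
  have hfg' : f * g = g * f := by
    have hconj : f * g * f⁻¹ = g := by
      refine C.ext_tv (C.conj_tv hftv.mem hgtv).1 hgtv ?_ fun w hw => ?_
      · rw [(C.conj_tv hftv.mem hgtv).2.1]; exact mu_eq_zero'.mp hfg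
      · rw [(C.conj_by hftv hgtv).2.1 w hw, hgf, mul_zero, add_zero]
    exact mul_inv_eq_iff_eq_mul.mp hconj
  -- a Sylow subgroup containing both
  obtain ⟨Q, hQ⟩ : ∃ Q, Q = zpowers f ⊔ zpowers g := ⟨_, rfl⟩
  have hp : ∀ {a : G}, Tv W Γ a → IsPGroup 2 (zpowers a) := fun {a} ha => by
    refine IsPGroup.of_card (n := 1) ?_
    rw [Nat.card_zpowers, pow_one]
    exact orderOf_eq_prime (by rw [pow_two, ha.sq]) ha.ne
  have hQp : IsPGroup 2 Q := hQ ▸ (hp hftv).to_sup_of_normal_right' (hp hgtv)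
    (zpowers_le.mpr (centralizer_le_normalizer _ (mem_centralizer_iff.mpr fun c hc => by
      obtain ⟨i, rfl⟩ := mem_zpowers_iff.mp hc
      exact (Commute.zpow_right (show Commute f g from hfg') i).eq.symm)))
  obtain ⟨m, hm, hQS⟩ := C.toSit.into_sylow (g := 1) (Q := Q)
    (by rw [cj_one]; exact hQ ▸ sup_le (zpowers_le.mpr hfM) (zpowers_le.mpr hgM)) hQp
  rw [one_mul] at hQS
  have hfS : f ∈ cj m S := hQS (hQ ▸ le_sup_left (b := zpowers g) (mem_zpowers f))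
  have hgS : g ∈ cj m S := hQS (hQ ▸ le_sup_right (a := zpowers f) (mem_zpowers g))
  have hcomm : ∀ {a b : G}, Tv W Γ a → Tv W Γ b → a ∈ cj m S → b ∈ cj m S → mu a (zc W b) = 0 := by
    intro a b ha hb haS hbS
    refine (zmod_two_cases _).resolve_right fun hab => ?_
    have hba : mu b (zc W a) = 1 := (D.symm C hb ha).trans hab
    obtain ⟨hza, -, -, haa⟩ := C.zc_spec ha
    obtain ⟨hzb, -, -, hbb⟩ := C.zc_spec hb
    have he : a * b * a⁻¹ = b * a * b⁻¹ := by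
      refine C.ext_tv (C.conj_by ha hb).1 (C.conj_by hb ha).1 ?_ fun w hw => ?_
      · rw [(C.conj_tv ha.mem hb).2.1, (C.conj_tv hb.mem ha).2.1]
        rcases C.act ha hzb with ⟨h, -⟩ | ⟨-, e⟩
        · rw [hab] at h; exact absurd h one_ne_zero
        rcases C.act hb hza with ⟨h, -⟩ | ⟨-, e'⟩
        · rw [hba] at h; exact absurd h one_ne_zero
        rw [e, e', C.wcomm _ hza _ hzb]
      · rw [(C.conj_by ha hb).2.1 w hw, (C.conj_by hb ha).2.1 w hw, hab, hba, mul_one, mul_one, add_comm]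
    have hab1 : a * b = 1 := by
      have h3 : (a * b) ^ 3 = 1 := by
        rw [inv_eq_of_mul_eq_one_right ha.sq, inv_eq_of_mul_eq_one_right hb.sq] at he
        calc (a * b) ^ 3 = (a * b * a) * (b * a * b) := by simp [pow_succ, mul_assoc]
          _ = (b * a * b) * (b * a * b) := by rw [he]
          _ = b * a * (b * b) * a * b := by group
          _ = b * (a * a) * b := by rw [hb.sq]; group
          _ = 1 := by rw [ha.sq, mul_one, hb.sq]
      obtain ⟨k, hk⟩ := (C.toSit.pS m) ⟨a * b, mul_mem haS hbS⟩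
      have h4 : (a * b) ^ 2 ^ k = 1 := congrArg Subtype.val hk
      have := pow_gcd_eq_one.mpr ⟨h3, h4⟩
      rwa [Nat.Coprime.gcd_eq_one (Nat.Coprime.pow_right _ (by norm_num)), pow_one] at this
    have hab' : a = b := by rw [eq_inv_of_mul_eq_one_left hab1, inv_eq_of_mul_eq_one_right hb.sq]
    rw [← hab', haa] at hab
    exact zero_ne_one hab
  obtain ⟨ℓ, hℓ⟩ : ∃ ℓ : Subgroup G, ∀ w, w ∈ ℓ ↔ w ∈ W ∧ ∀ a, Tv W Γ a → a ∈ cj m S → mu a w = 0 :=
    ⟨{ carrier := {w | w ∈ W ∧ ∀ a, Tv W Γ a → a ∈ cj m S → mu a w = 0}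
       one_mem' := ⟨one_mem _, fun _ _ _ => C.mu_one⟩
       mul_mem' := fun {a b} ha hb => ⟨mul_mem ha.1 hb.1, fun x hx hxS => by
         rw [C.mu_mul hx ha.1 hb.1, ha.2 x hx hxS, hb.2 x hx hxS, add_zero]⟩
       inv_mem' := fun {a} ha => ⟨inv_mem ha.1, fun x hx hxS => by rw [C.inv_eq ha.1]; exact ha.2 x hx hxS⟩ },
      fun _ => Iff.rfl⟩
  have hzfℓ : zc W f ∈ ℓ := (hℓ _).mpr ⟨hzf, fun a ha haS => hcomm ha hftv haS hfS⟩
  have hzgℓ : zc W g ∈ ℓ := (hℓ _).mpr ⟨hzg, fun a ha haS => hcomm ha hgtv haS hgS⟩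
  obtain ⟨w0, hw0⟩ : ∃ w0, w0 = zc W x * zc W v := ⟨_, rfl⟩
  have hw0W : w0 ∈ W := hw0 ▸ mul_mem hzx hzv
  have hw0ℓ : w0 ∈ ℓ := by
    have e : w0 = zc W f * zc W g := by
      rw [hw0, hfz, hgz, C.wcomm _ hzv _ hzy,
        show zc W x * zc W y * (zc W y * zc W v) = zc W x * (zc W y * zc W y) * zc W v by group,
        ← pow_two, C.wexp _ hzy, mul_one]
    exact e ▸ mul_mem hzfℓ hzgℓ
  -- the product fixes `ℓ` and moves the fixed vector
  obtain ⟨k, hk⟩ : ∃ k, k = x * v := ⟨_, rfl⟩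
  have hkΓ : k ∈ Γ := hk ▸ mul_mem hx.mem hv.mem
  have hkw : ∀ w ∈ W, mu x w = mu v w → k * w * k⁻¹ = w ∨ k * w * k⁻¹ = w0 * w := by
    intro w hw heq
    rw [show k * w * k⁻¹ = x * (v * w * v⁻¹) * x⁻¹ by rw [hk]; group]
    rcases C.act hv hw with ⟨h1, e1⟩ | ⟨h1, e1⟩
    · rw [e1, mu_eq_zero'.mp (heq.trans h1)]; exact Or.inl rfl
    · rcases C.act hx hw with ⟨h2, -⟩ | ⟨-, e2⟩
      · rw [heq, h1] at h2; exact absurd h2 one_ne_zero
      refine Or.inr ?_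
      rw [e1, show x * (zc W v * w) * x⁻¹ = (x * zc W v * x⁻¹) * (x * w * x⁻¹) by group, mu_eq_zero'.mp hxv, e2,
        hw0, ← mul_assoc, C.wcomm _ hzv _ hzx]
  have hmΓ := C.MG hm
  have hkℓ : ∀ w ∈ ℓ, k * w * k⁻¹ ∈ ℓ := by
    intro w hw
    obtain ⟨hwW, hwfix⟩ := (hℓ w).mp hw
    have hxv' : mu x w = mu v w := by
      have h1 := hfmu w hwW
      have h2 := hgmu w hwW
      rw [hwfix f hftv hfS] at h1
      rw [hwfix g hgtv hgS] at h2
      rcases zmod_two_cases (mu x w) with a | a <;> rcases zmod_two_cases (mu v w) with b | b <;>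
        rcases zmod_two_cases (mu y w) with c | c <;> simp [a, b, c] at h1 h2 ⊢
    rcases hkw w hwW hxv' with e | e <;> rw [e]
    · exact hw
    · exact ℓ.mul_mem hw0ℓ hw
  have hkM : k ∈ M := by
    have hsn : ∀ s ∈ cj m S, ∀ w ∈ ℓ, s * w * s⁻¹ ∈ ℓ := by
      intro s hs w hw
      obtain ⟨hwW, hwfix⟩ := (hℓ w).mp hw
      have hsΓ := C.toSit.S_le_cj hmΓ hs
      refine (hℓ _).mpr ⟨C.norm s hsΓ w hwW, fun a ha haS => ?_⟩
      have h1 := C.conj_mu (w := w) hsΓ (C.conj_tv (inv_mem hsΓ) ha).1 hwW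
      rw [show s * (s⁻¹ * a * s⁻¹⁻¹) * s⁻¹ = a by group] at h1
      rw [h1]
      exact hwfix _ (C.conj_tv (inv_mem hsΓ) ha).1 (mul_mem (mul_mem (inv_mem hs) haS) (by simpa using hs))
    obtain ⟨H, hH⟩ : ∃ H : Subgroup G, H = Γ ⊓ normalizer (ℓ : Set G) := ⟨_, rfl⟩
    have hSH : cj m S ≤ H := fun s hs => hH ▸ mem_inf.mpr ⟨C.toSit.S_le_cj hmΓ hs,
      norm_of_cj (eq_of_le_of_card_ge (cj_le.mpr (hsn s hs)) (card_cj _ _).ge)⟩
    have hkH : k ∈ H := hH ▸ mem_inf.mpr ⟨hkΓ,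
      norm_of_cj (eq_of_le_of_card_ge (cj_le.mpr hkℓ) (card_cj _ _).ge)⟩
    have hHne : H ≠ Γ := by
      intro e
      have hℓW : ℓ ≤ W := fun w hw => ((hℓ w).mp hw).1
      rcases C.irr ℓ hℓW fun h hh w hw =>
          (mem_normalizer_iff.mp ((hH.le (e.ge hh)).2) w).mp hw with h0 | h0
      · exact (C.zc_spec hftv).2.1 (mem_bot.mp (h0.le hzfℓ))
      · obtain ⟨w, hw, hw1⟩ := C.exists_moved hftv.mem hftv.ne
        exact hw1 (mu_eq_zero.mp (((hℓ w).mp (h0.ge hw)).2 f hftv hfS))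
    have h1 := C.uniq (cj m⁻¹ H) (le_cj_inv hSH |>.trans le_rfl)
      ((cj_mono _ (hH ▸ inf_le_left)).trans (C.toSit.cj_gamma (inv_mem hmΓ)).le) (fun e => hHne (by
        have := congrArg (cj m) e
        rwa [cj_cj, mul_inv_cancel, cj_one, C.toSit.cj_gamma hmΓ] at this))
    have h2 := h1 (conj_mem_cj m⁻¹ hkH)
    simpa [mul_assoc] using M.mul_mem (M.mul_mem hm h2) (M.inv_mem hm)
  -- hence `w₀` is fixed by everything outside `M`
  have hku : k * u * k⁻¹ = w0 * u := by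
    rw [show k * u * k⁻¹ = x * (v * u * v⁻¹) * x⁻¹ by rw [hk]; group]
    rcases C.act hv D.umem.1 with ⟨h, -⟩ | ⟨-, e1⟩
    · rw [(D.out v hv hvM).1] at h; exact absurd h one_ne_zero
    rcases C.act hx D.umem.1 with ⟨h, -⟩ | ⟨-, e2⟩
    · rw [(D.out x hx hxM).1] at h; exact absurd h one_ne_zero
    rw [e1, show x * (zc W v * u) * x⁻¹ = (x * zc W v * x⁻¹) * (x * u * x⁻¹) by group, mu_eq_zero'.mp hxv, e2,
      hw0, ← mul_assoc, C.wcomm _ hzv _ hzx]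
  have hfix0 : ∀ a, Tv W Γ a → a ∈ M → mu a w0 = 0 := by
    intro a ha haM
    have h0 := (D.in_M C ha haM).1
    have hmk := (C.conj_tv (inv_mem hkΓ) ha)
    have h1 := C.conj_mu (w := u) hkΓ hmk.1 D.umem.1
    rw [show k * (k⁻¹ * a * k⁻¹⁻¹) * k⁻¹ = a by group, hku, C.mu_mul ha hw0W D.umem.1, h0, add_zero,
      (D.in_M C hmk.1 (M.mul_mem (M.mul_mem (M.inv_mem hkM) haM) (by simpa using hkM))).1] at h1
    exact h1
  have hw01 : w0 = 1 := by
    refine C.fixed_trivial hx hxM hw0W fun d hd hdM => ?_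
    rcases zmod_two_cases (mu d (zc W x)) with h1 | h1
    · rcases zmod_two_cases (mu d (zc W v)) with h2 | h2
      · rw [hw0, C.mu_mul hd hzx hzv, h1, h2, add_zero]
      · have h3 := hfix0 _ (C.conj_by hv hd).1 (hinM hv hvM hd hdM h2)
        rw [(C.conj_by hv hd).2.1 _ hw0W, h2, mul_one] at h3
        have h4 : mu v w0 = 0 := by rw [hw0, C.mu_mul hv hzx hzv, hvx, hvv, add_zero]
        rwa [h4, add_zero] at h3
    · have h3 := hfix0 _ (C.conj_by hx hd).1 (hinM hx hxM hd hdM h1)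
      rw [(C.conj_by hx hd).2.1 _ hw0W, h1, mul_one] at h3
      have h4 : mu x w0 = 0 := by rw [hw0, C.mu_mul hx hzx hzv, hxx, hxv, add_zero]
      rwa [h4, add_zero] at h3
  rw [hw0, mul_eq_one_iff_eq_inv, C.inv_eq hzv] at hw01
  exact D.zc_inj C hx hxM hv hw01

end

end Cfsg.Agent.Fus.Transp
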