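import Cfsg.Agent.Lib.Fus.PMinFF.Transp

/-!
# The centres of the transvections outside `M` as a basis

Failing to commute is an equivalence relation on the transvections outside `M`; its classes have the same size,
a power of two at least two, the centres form a basis of `W` and `S` permutes this basis transitively.
-/

set_option autoImplicit false
set_option linter.unusedSectionVars false
set_option linter.style.haveILetI false

open scoped commutatorElement

namespace Cfsg.Agent.Fus.Transp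

open Subgroup Finset Cfsg.Agent.Grp Cfsg.Agent.Grp.OffenderSL2 Cfsg.Agent.Fus.RootPair

universe u

variable {G : Type u} [Group G] [Finite G]

/-- The transvections outside `M`. -/
noncomputable def outs (W Γ M : Subgroup G) : Finset G :=
  (Set.toFinite {y : G | Tv W Γ y ∧ y ∉ M}).toFinset

theorem mem_outs {W Γ M : Subgroup G} {y : G} : y ∈ outs W Γ M ↔ Tv W Γ y ∧ y ∉ M := by simp [outs]

/-- The class of a transvection. -/
noncomputable def cls (W Γ M : Subgroup G) (x : G) : Finset G := by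
  classical exact (outs W Γ M).filter fun y => y = x ∨ mu x (zc W y) = 1

theorem mem_cls {W Γ M : Subgroup G} {x y : G} :
    y ∈ cls W Γ M x ↔ (Tv W Γ y ∧ y ∉ M) ∧ (y = x ∨ mu x (zc W y) = 1) := by
  classical simp [cls, mem_outs]

/-- A coordinate. -/
noncomputable def co (W Γ M : Subgroup G) (x w : G) : ZMod 2 := by
  classical exact ∑ d ∈ (cls W Γ M x).erase x, mu d w

theorem co_eq {W Γ M : Subgroup G} (x w : G) [DecidableEq G] :
    co W Γ M x w = ∑ d ∈ (cls W Γ M x).erase x, mu d w := by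
  unfold co
  congr 1
  ext d
  simp

variable {W Γ S M : Subgroup G} (C : Ctx W Γ S M) {u : G} {κ : G → ZMod 2} (D : Dual W Γ S M u κ)
include C

/-- An element of `W` adding up the values of the centres of a set. -/
theorem Ctx.exists_sum (s : Finset G) (hs : s ⊆ outs W Γ M) :
    ∃ P ∈ W, ∀ f : G → ZMod 2, (∀ v ∈ W, ∀ w ∈ W, f (v * w) = f v + f w) →
      f P = ∑ e ∈ s, f (zc W e) := by
  classical
  induction s using Finset.induction_on with
  | empty => exact ⟨1, one_mem _, fun f hf => by simpa using hf 1 (one_mem _) 1 (one_mem _)⟩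
  | insert a s ha ih =>
    obtain ⟨P, hP, hPf⟩ := ih fun e he => hs (Finset.mem_insert_of_mem he)
    have hz := (C.zc_spec (mem_outs.mp (hs (Finset.mem_insert_self a s))).1).1
    exact ⟨zc W a * P, mul_mem hz hP, fun f hf => by rw [hf _ hz _ hP, hPf f hf, Finset.sum_insert ha]⟩

theorem Ctx.cls_self {x : G} (hx : x ∈ outs W Γ M) : x ∈ cls W Γ M x :=
  mem_cls.mpr ⟨mem_outs.mp hx, Or.inl rfl⟩

theorem Ctx.co_mul {x v w : G} (hv : v ∈ W) (hw : w ∈ W) :
    co W Γ M x (v * w) = co W Γ M x v + co W Γ M x w := by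
  classical
  simp only [co_eq, ← Finset.sum_add_distrib]
  exact Finset.sum_congr rfl fun d hd => C.mu_mul (mem_cls.mp (Finset.mem_of_mem_erase hd)).1.1 hv hw

theorem Ctx.co_one {x : G} : co W Γ M x (1 : G) = 0 := by
  classical
  rw [co_eq]
  exact Finset.sum_eq_zero fun d _ => C.mu_one

include D

theorem Dual.cls_eq {x y : G} (hx : x ∈ outs W Γ M) (hy : y ∈ cls W Γ M x) : cls W Γ M y = cls W Γ M x := by
  obtain ⟨hx1, hx2⟩ := mem_outs.mp hx
  obtain ⟨⟨hy1, hy2⟩, hxy⟩ := mem_cls.mp hy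
  ext z
  rw [mem_cls, mem_cls]
  refine and_congr_right fun ⟨hz1, hz2⟩ => ?_
  rcases hxy with rfl | hxy
  · rfl
  constructor
  · rintro (rfl | h)
    · exact Or.inr hxy
    · by_cases hzx : z = x
      · exact Or.inl hzx
      · exact Or.inr (D.rel_trans C hx1 hx2 hy1 hy2 hz1 hz2 hxy h (Ne.symm hzx))
  · rintro (rfl | h)
    · exact Or.inr ((D.symm C hy1 hx1).trans hxy)
    · by_cases hzy : z = y
      · exact Or.inl hzy
      · exact Or.inr (D.rel_trans C hy1 hy2 hx1 hx2 hz1 hz2 ((D.symm C hy1 hx1).trans hxy) h (Ne.symm hzy))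

theorem Dual.mu_out {d e : G} (hd : d ∈ outs W Γ M) (he : e ∈ outs W Γ M) :
    mu d (zc W e) = 1 ↔ e ∈ cls W Γ M d ∧ e ≠ d := by
  refine ⟨fun h => ⟨mem_cls.mpr ⟨mem_outs.mp he, Or.inr h⟩, ?_⟩, fun ⟨h, hne⟩ => ?_⟩
  · rintro rfl
    rw [(C.zc_spec (mem_outs.mp hd).1).2.2.2] at h
    exact zero_ne_one h
  · exact (mem_cls.mp h).2.resolve_left hne

/-- A class has an even number of elements. -/
theorem Dual.even {x : G} (hx : x ∈ outs W Γ M) : ((cls W Γ M x).card : ZMod 2) = 0 := by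
  classical
  refine (zmod_two_cases _).resolve_right fun hodd => ?_
  obtain ⟨P, hP, hPf⟩ := C.exists_sum (cls W Γ M x) (fun y hy => mem_outs.mpr (mem_cls.mp hy).1)
  have h1 : P = 1 := by
    refine C.fixed_trivial (mem_outs.mp hx).1 (mem_outs.mp hx).2 hP fun d hd hdM => ?_
    have hd' : d ∈ outs W Γ M := mem_outs.mpr ⟨hd, hdM⟩
    rw [hPf (mu d) fun v hv w hw => C.mu_mul hd hv hw]
    by_cases hdc : d ∈ cls W Γ M x
    · have he : cls W Γ M d = cls W Γ M x := D.cls_eq C hx hdc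
      rw [← Finset.add_sum_erase _ _ hdc, (C.zc_spec hd).2.2.2, zero_add,
        Finset.sum_congr rfl fun e he' => (D.mu_out C hd' (mem_outs.mpr
          (mem_cls.mp (Finset.mem_of_mem_erase he')).1)).mpr
          ⟨he ▸ Finset.mem_of_mem_erase he', Finset.ne_of_mem_erase he'⟩,
        Finset.sum_const, nsmul_one, Finset.card_erase_of_mem hdc, Nat.cast_sub (Finset.card_pos.mpr ⟨d, hdc⟩),
        hodd, Nat.cast_one, sub_self]
    · refine Finset.sum_eq_zero fun e he => (zmod_two_cases _).resolve_right fun h => hdc ?_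
      have he' : e ∈ outs W Γ M := mem_outs.mpr (mem_cls.mp he).1
      have := (D.mu_out C hd' he').mp h
      rw [← D.cls_eq C hx he, D.cls_eq C hd' this.1]
      exact C.cls_self hd'
  have h2 := hPf κ D.add
  rw [h1, Finset.sum_congr rfl fun e he => (D.out e (mem_cls.mp he).1.1 (mem_cls.mp he).1.2).2, Finset.sum_const,
    nsmul_one, hodd] at h2
  have h3 : κ 1 = 0 := by simpa using D.add 1 (one_mem _) 1 (one_mem _)
  exact zero_ne_one (h3.symm.trans h2)

theorem Dual.card_erase {x : G} (hx : x ∈ outs W Γ M) [DecidableEq G] :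
    (((cls W Γ M x).erase x).card : ZMod 2) = 1 := by
  rw [Finset.card_erase_of_mem (C.cls_self hx), Nat.cast_sub (Finset.card_pos.mpr ⟨x, C.cls_self hx⟩), D.even C hx,
    Nat.cast_one]
  decide

/-- Each class has a second element. -/
theorem Dual.exists_other {x : G} (hx : x ∈ outs W Γ M) : ∃ y ∈ cls W Γ M x, y ≠ x := by
  classical
  have h := D.card_erase C hx
  obtain ⟨y, hy⟩ : ((cls W Γ M x).erase x).Nonempty := Finset.nonempty_iff_ne_empty.mpr fun e => by
    rw [e] at h; simp at h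
  exact ⟨y, Finset.mem_of_mem_erase hy, Finset.ne_of_mem_erase hy⟩

/-- The coordinates are dual to the centres. -/
theorem Dual.co_zc {x e : G} (hx : x ∈ outs W Γ M) (he : e ∈ outs W Γ M) [DecidableEq G] :
    co W Γ M x (zc W e) = if e = x then 1 else 0 := by
  rw [co_eq]
  have hout : ∀ {d}, d ∈ (cls W Γ M x).erase x → d ∈ outs W Γ M := fun hd =>
    mem_outs.mpr (mem_cls.mp (Finset.mem_of_mem_erase hd)).1
  by_cases hec : e ∈ cls W Γ M x
  · have hcl := D.cls_eq C hx hec
    split_ifs with hex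
    · rw [Finset.sum_congr rfl fun d hd => (D.mu_out C (hout hd) he).mpr
        ⟨by rw [D.cls_eq C hx (Finset.mem_of_mem_erase hd)]; exact hec, fun h => Finset.ne_of_mem_erase hd (h.symm.trans hex)⟩,
        Finset.sum_const, nsmul_one, D.card_erase C hx]
    · have hee : e ∈ (cls W Γ M x).erase x := Finset.mem_erase.mpr ⟨hex, hec⟩
      rw [← Finset.add_sum_erase _ _ hee, (C.zc_spec (mem_outs.mp he).1).2.2.2, zero_add,
        Finset.sum_congr rfl fun d hd => (D.mu_out C (hout (Finset.mem_of_mem_erase hd)) he).mpr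
          ⟨by rw [D.cls_eq C hx (Finset.mem_of_mem_erase (Finset.mem_of_mem_erase hd))]; exact hec,
            fun h => Finset.ne_of_mem_erase hd h.symm⟩,
        Finset.sum_const, nsmul_one, Finset.card_erase_of_mem hee, Nat.cast_sub (Finset.card_pos.mpr ⟨e, hee⟩),
        D.card_erase C hx, Nat.cast_one, sub_self]
  · rw [if_neg fun h : e = x => hec (by rw [h]; exact C.cls_self hx)]
    refine Finset.sum_eq_zero fun d hd => (zmod_two_cases _).resolve_right fun h => hec ?_
    have h1 := ((D.mu_out C (hout hd) he).mp h).1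
    rwa [D.cls_eq C hx (Finset.mem_of_mem_erase hd)] at h1

/-- A transvection outside `M` in the coordinates. -/
theorem Dual.mu_eq {d w : G} (hd : d ∈ outs W Γ M) (hw : w ∈ W) [DecidableEq G] :
    mu d w = ∑ e ∈ (cls W Γ M d).erase d, co W Γ M e w := by
  refine eq_of_sub_eq_zero (C.centres_span (mem_outs.mp hd).1 (mem_outs.mp hd).2
    (f := fun v => mu d v - ∑ e ∈ (cls W Γ M d).erase d, co W Γ M e v) (fun a ha b hb => ?_) (fun a ha haM => ?_) w hw)
  · simp only [C.mu_mul (mem_outs.mp hd).1 ha hb, Finset.sum_congr rfl fun e _ => C.co_mul (x := e) ha hb,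
      Finset.sum_add_distrib]
    ring
  · have ha' : a ∈ outs W Γ M := mem_outs.mpr ⟨ha, haM⟩
    have hrw : ∑ e ∈ (cls W Γ M d).erase d, co W Γ M e (zc W a) =
        if a ∈ (cls W Γ M d).erase d then 1 else 0 := by
      rw [Finset.sum_congr rfl fun e he =>
        D.co_zc C (mem_outs.mpr (mem_cls.mp (Finset.mem_of_mem_erase he)).1) ha', Finset.sum_ite_eq]
    show mu d (zc W a) - _ = 0
    rw [hrw]
    by_cases h : a ∈ (cls W Γ M d).erase d
    · rw [if_pos h, (D.mu_out C hd ha').mpr ⟨Finset.mem_of_mem_erase h, Finset.ne_of_mem_erase h⟩, sub_self]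
    · rw [if_neg h, sub_zero]
      exact (zmod_two_cases _).resolve_right fun e => h
        (Finset.mem_erase.mpr ⟨((D.mu_out C hd ha').mp e).2, ((D.mu_out C hd ha').mp e).1⟩)

/-- The coordinates separate. -/
theorem Dual.co_sep {x v w : G} (hx : x ∈ outs W Γ M) (hv : v ∈ W) (hw : w ∈ W)
    (h : ∀ e ∈ outs W Γ M, co W Γ M e v = co W Γ M e w) : v = w := by
  classical
  have h1 : v * w = 1 := C.fixed_trivial (mem_outs.mp hx).1 (mem_outs.mp hx).2 (mul_mem hv hw) fun d hd hdM => by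
    rw [C.mu_mul hd hv hw, D.mu_eq C (mem_outs.mpr ⟨hd, hdM⟩) hv, D.mu_eq C (mem_outs.mpr ⟨hd, hdM⟩) hw,
      Finset.sum_congr rfl fun e he => h e (mem_outs.mpr (mem_cls.mp (Finset.mem_of_mem_erase he)).1)]
    exact CharTwo.add_self_eq_zero _
  rw [mul_eq_one_iff_eq_inv, C.inv_eq hw] at h1
  exact h1

/-- Every coordinate vector occurs. -/
theorem Dual.exists_co (s : Finset G) (hs : s ⊆ outs W Γ M) [DecidableEq G] :
    ∃ P ∈ W, ∀ e ∈ outs W Γ M, co W Γ M e P = if e ∈ s then 1 else 0 := by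
  obtain ⟨P, hP, hPf⟩ := C.exists_sum s hs
  refine ⟨P, hP, fun e he => ?_⟩
  rw [hPf (co W Γ M e) fun v hv w hw => C.co_mul hv hw, Finset.sum_congr rfl fun a ha => D.co_zc C he (hs ha),
    Finset.sum_ite_eq']

omit D in
theorem Ctx.outs_conj {k x : G} (hk : k ∈ M) (hx : x ∈ outs W Γ M) : k * x * k⁻¹ ∈ outs W Γ M := by
  obtain ⟨h1, h2⟩ := mem_outs.mp hx
  refine mem_outs.mpr ⟨(C.conj_tv (C.MG hk) h1).1, fun h => h2 ?_⟩
  simpa [mul_assoc] using M.mul_mem (M.mul_mem (M.inv_mem hk) h) hk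

omit D in
theorem Ctx.cls_conj {k x y : G} (hk : k ∈ M) (hx : x ∈ outs W Γ M) (hy : y ∈ cls W Γ M x) :
    k * y * k⁻¹ ∈ cls W Γ M (k * x * k⁻¹) := by
  obtain ⟨hy1, hy2⟩ := mem_cls.mp hy
  refine mem_cls.mpr ⟨mem_outs.mp (C.outs_conj hk (mem_outs.mpr hy1)), hy2.imp (fun h => by rw [h]) fun h => ?_⟩
  rw [(C.conj_tv (C.MG hk) hy1.1).2.1, C.conj_mu (C.MG hk) (mem_outs.mp hx).1 (C.zc_spec hy1.1).1, h]

omit D in
/-- The coordinates are permuted by `M`. -/
theorem Ctx.co_conj {k x w : G} (hk : k ∈ M) (hx : x ∈ outs W Γ M) (hw : w ∈ W) :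
    co W Γ M (k * x * k⁻¹) (k * w * k⁻¹) = co W Γ M x w := by
  classical
  rw [co_eq, co_eq]
  refine (Finset.sum_nbij' (fun d => k * d * k⁻¹) (fun d => k⁻¹ * d * k) (fun d hd => ?_) (fun d hd => ?_)
    (fun d _ => by group) (fun d _ => by group) fun d hd => ?_).symm
  · rw [Finset.mem_erase] at hd ⊢
    exact ⟨fun h => hd.1 (mul_left_cancel (mul_right_cancel h)), C.cls_conj hk hx hd.2⟩
  · rw [Finset.mem_erase] at hd ⊢
    have h := C.cls_conj (M.inv_mem hk) (C.outs_conj hk hx) hd.2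
    rw [show k⁻¹ * (k * x * k⁻¹) * k⁻¹⁻¹ = x by group, inv_inv] at h
    exact ⟨fun h' => hd.1 (by rw [← h']; group), h⟩
  · exact (C.conj_mu (C.MG hk) (mem_cls.mp (Finset.mem_of_mem_erase hd)).1.1 hw).symm

/-- `S` is transitive on the transvections outside `M`. -/
theorem Dual.trans {x y : G} (hx : x ∈ outs W Γ M) (hy : y ∈ outs W Γ M) : ∃ s ∈ S, s * x * s⁻¹ = y := by
  classical
  obtain ⟨O, hO⟩ : ∃ O, O = (outs W Γ M).filter fun z => ∃ s ∈ S, s * x * s⁻¹ = z := ⟨_, rfl⟩
  obtain ⟨P, hP, hPco⟩ := D.exists_co C O (hO ▸ Finset.filter_subset _ _)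
  have hmemO : ∀ z, z ∈ O ↔ z ∈ outs W Γ M ∧ ∃ s ∈ S, s * x * s⁻¹ = z := fun z => by rw [hO, Finset.mem_filter]
  have hfix : P ∈ W ⊓ centralizer (S : Set G) := by
    refine mem_fix.mpr ⟨hP, fun s hs => D.co_sep C hx (C.norm s (C.syl.1 hs) P hP) hP fun e he => ?_⟩
    have hse : s⁻¹ * e * s ∈ outs W Γ M := by simpa using C.outs_conj (M.inv_mem (C.SM hs)) he
    have h := C.co_conj (C.SM hs) hse hP
    rw [show s * (s⁻¹ * e * s) * s⁻¹ = e by group] at h
    rw [h, hPco _ hse, hPco e he]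
    refine if_congr ⟨fun h1 => ?_, fun h1 => ?_⟩ rfl rfl
    · obtain ⟨t, ht, hte⟩ := ((hmemO _).mp h1).2
      exact (hmemO _).mpr ⟨he, s * t, S.mul_mem hs ht, by
        rw [show s * t * x * (s * t)⁻¹ = s * (t * x * t⁻¹) * s⁻¹ by group, hte]; group⟩
    · obtain ⟨t, ht, hte⟩ := ((hmemO _).mp h1).2
      exact (hmemO _).mpr ⟨hse, s⁻¹ * t, S.mul_mem (S.inv_mem hs) ht, by
        rw [show s⁻¹ * t * x * (s⁻¹ * t)⁻¹ = s⁻¹ * (t * x * t⁻¹) * s by group, hte]⟩
  have hxO : x ∈ O := (hmemO _).mpr ⟨hx, 1, S.one_mem, by group⟩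
  have hPG : P ∉ centralizer (Γ : Set G) := by
    intro h
    have h1 : P = 1 := C.fixed_trivial (mem_outs.mp hx).1 (mem_outs.mp hx).2 hP fun d hd _ =>
      mu_eq_zero'.mpr (mul_inv_eq_iff_eq_mul.mpr (mem_centralizer_iff.mp h d hd.mem))
    have h2 := hPco x hx
    rw [h1, C.co_one, if_pos hxO] at h2
    exact zero_ne_one h2
  have hone : co W Γ M y P = 1 := by
    rw [co_eq, Finset.sum_congr rfl fun d hd => (zmod_two_cases (mu d P)).resolve_left fun h =>
      (mem_cls.mp (Finset.mem_of_mem_erase hd)).1.2 (C.toSit.mem_of_fix hfix hPG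
        (mem_cls.mp (Finset.mem_of_mem_erase hd)).1.1.mem (mu_eq_zero'.mp h)),
      Finset.sum_const, nsmul_one, D.card_erase C hy]
  refine ((hmemO y).mp ?_).2
  by_contra hn
  rw [hPco y hy, if_neg hn] at hone
  exact zero_ne_one hone

end Cfsg.Agent.Fus.Transp
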