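import Cfsg.Agent.Lib.Fus.PMinFF.TranspMembers

/-!
# A class of transvections generates a symmetric group of odd degree

The subgroup generated by a class of size `c` acts on `W` modulo its fixed space as the symmetric group of degree
`c + 1` on the even-weight vectors, and fixes the coordinates of the other classes.
-/

set_option autoImplicit false
set_option linter.unusedSectionVars false
set_option linter.style.haveILetI false

open scoped commutatorElement

namespace Cfsg.Agent.Fus.Transp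

open Subgroup Cfsg.Agent.Grp Cfsg.Agent.Grp.OffenderSL2 Cfsg.Agent.Fus.RootPair Cfsg.Agent.Fus.FFBlocks

universe u

variable {G : Type u} [Group G] [Finite G] {W Γ S M : Subgroup G} (C : Ctx W Γ S M) {u : G} {κ : G → ZMod 2}
  (D : Dual W Γ S M u κ)
include C D

/-- The conjugates of a class. -/
theorem Dual.cls_card {x y : G} (hx : x ∈ outs W Γ M) (hy : y ∈ outs W Γ M) :
    (cls W Γ M x).card = (cls W Γ M y).card := by
  classical
  have key : ∀ a b, a ∈ outs W Γ M → b ∈ outs W Γ M → (cls W Γ M a).card ≤ (cls W Γ M b).card := by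
    intro a b ha hb
    obtain ⟨s, hs, hsa⟩ := D.trans C ha hb
    refine Finset.card_le_card_of_injOn (fun z => s * z * s⁻¹) (fun z hz => ?_)
      (fun z _ z' _ h => mul_left_cancel (mul_right_cancel h))
    exact hsa ▸ C.cls_conj (C.SM hs) ha hz
  exact le_antisymm (key x y hx hy) (key y x hy hx)

/-- The size of a class is a power of two, not one. -/
theorem Dual.cls_pow {x : G} (hx : x ∈ outs W Γ M) : ∃ n, 1 ≤ n ∧ (cls W Γ M x).card = 2 ^ n := by
  classical
  letI : MulAction ↥S ↥(outs W Γ M) :=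
    { smul := fun a e => ⟨(a : G) * e * (a : G)⁻¹, C.outs_conj (C.SM a.2) e.2⟩
      one_smul := fun e => Subtype.ext (by show (1 : G) * e * (1 : G)⁻¹ = e; group)
      mul_smul := fun a b e => Subtype.ext (by
        show ((a : G) * b) * e * ((a : G) * b)⁻¹ = (a : G) * ((b : G) * e * (b : G)⁻¹) * (a : G)⁻¹; group) }
  haveI : MulAction.IsPretransitive ↥S ↥(outs W Γ M) := ⟨fun a b => by
    obtain ⟨s, hs, hsx⟩ := D.trans C a.2 b.2
    exact ⟨⟨s, hs⟩, Subtype.ext hsx⟩⟩
  have h1 : Nat.card ↥(outs W Γ M) ∣ Nat.card S := by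
    rw [← MulAction.index_stabilizer_of_transitive ↥S (⟨x, hx⟩ : ↥(outs W Γ M))]
    exact Subgroup.index_dvd_card _
  have h2 : (cls W Γ M x).card ∣ (outs W Γ M).card := by
    refine ⟨((outs W Γ M).image (cls W Γ M)).card, ?_⟩
    rw [Finset.card_eq_sum_card_image (cls W Γ M) (outs W Γ M), mul_comm, ← smul_eq_mul, ← Finset.sum_const]
    refine Finset.sum_congr rfl fun c hc => ?_
    obtain ⟨y, hy, rfl⟩ := Finset.mem_image.mp hc
    rw [D.cls_card C hx hy]
    congr 1
    ext z
    rw [Finset.mem_filter]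
    exact ⟨fun ⟨hz, e⟩ => e ▸ C.cls_self hz, fun hz => ⟨mem_outs.mpr (mem_cls.mp hz).1, D.cls_eq C hy hz⟩⟩
  rw [Nat.card_eq_fintype_card, Fintype.card_coe] at h1
  obtain ⟨k, hk⟩ := IsPGroup.iff_card.mp C.syl.2.1
  obtain ⟨n, -, hn⟩ := (Nat.dvd_prime_pow Nat.prime_two).mp (hk ▸ h2.trans h1)
  refine ⟨n, Nat.one_le_iff_ne_zero.mpr fun h0 => ?_, hn⟩
  have h3 := D.even C hx
  rw [hn, h0, pow_zero, Nat.cast_one] at h3
  exact one_ne_zero h3

/-- The fixed space of a class. -/
theorem Dual.fix_class {x w : G} (hx : x ∈ outs W Γ M) :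
    w ∈ W ⊓ centralizer ((closure ((cls W Γ M x : Finset G) : Set G) : Subgroup G) : Set G) ↔
      w ∈ W ∧ ∀ e ∈ cls W Γ M x, co W Γ M e w = 0 := by
  classical
  rw [centralizer_closure, mem_inf, mem_centralizer_iff]
  refine and_congr_right fun hw => ⟨fun h e he => ?_, fun h y hy => ?_⟩
  · rw [co_eq]
    refine Finset.sum_eq_zero fun d hd => mu_eq_zero'.mpr (mul_inv_eq_iff_eq_mul.mpr (h d ?_))
    rw [← D.cls_eq C hx he]
    exact Finset.mem_of_mem_erase hd
  · have hy' : y ∈ outs W Γ M := mem_outs.mpr (mem_cls.mp hy).1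
    refine mul_inv_eq_iff_eq_mul.mp (mu_eq_zero'.mp ?_)
    rw [D.mu_eq C hy' hw]
    exact Finset.sum_eq_zero fun e he => h e (D.cls_eq C hx hy ▸ Finset.mem_of_mem_erase he)

/-- The subgroup of a class fixes the other coordinates. -/
theorem Dual.class_coords {x : G} (hx : x ∈ outs W Γ M) :
    ∀ l ∈ closure ((cls W Γ M x : Finset G) : Set G), l ∈ Γ ∧ ∀ w ∈ W, ∀ e ∈ outs W Γ M,
      e ∉ cls W Γ M x → co W Γ M e (l * w * l⁻¹) = co W Γ M e w := by
  classical
  intro l hl
  induction hl using closure_induction with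
  | mem y hy =>
    have hy' : y ∈ outs W Γ M := mem_outs.mpr (mem_cls.mp hy).1
    refine ⟨(mem_outs.mp hy').1.mem, fun w hw e he hec => ?_⟩
    rw [C.fun_act (fun a ha b hb => C.co_mul ha hb) (mem_outs.mp hy').1 hw, D.co_zc C he hy',
      if_neg (fun h : y = e => hec (h ▸ hy)), mul_zero, add_zero]
  | one => exact ⟨one_mem _, fun w _ e _ _ => by simp⟩
  | mul a b _ _ iha ihb =>
    refine ⟨mul_mem iha.1 ihb.1, fun w hw e he hec => ?_⟩
    rw [show a * b * w * (a * b)⁻¹ = a * (b * w * b⁻¹) * a⁻¹ by group,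
      iha.2 _ (C.norm b ihb.1 w hw) e he hec, ihb.2 w hw e he hec]
  | inv a _ iha =>
    refine ⟨inv_mem iha.1, fun w hw e he hec => ?_⟩
    have h := iha.2 _ (C.norm a⁻¹ (inv_mem iha.1) w hw) e he hec
    rw [show a * (a⁻¹ * w * a⁻¹⁻¹) * a⁻¹ = w by group] at h
    exact h.symm

/-- Members of different classes commute. -/
theorem Dual.class_comm {x y : G} (hx : x ∈ outs W Γ M) (hy : y ∈ outs W Γ M)
    (hne : cls W Γ M x ≠ cls W Γ M y) : ∀ a ∈ closure ((cls W Γ M x : Finset G) : Set G),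
      ∀ b ∈ closure ((cls W Γ M y : Finset G) : Set G), a * b = b * a := by
  have hle : closure ((cls W Γ M x : Finset G) : Set G) ≤
      centralizer ((closure ((cls W Γ M y : Finset G) : Set G) : Subgroup G) : Set G) := by
    rw [centralizer_closure]
    refine (closure_le _).mpr fun a ha => mem_centralizer_iff.mpr fun b hb => ?_
    have ha' : a ∈ outs W Γ M := mem_outs.mpr (mem_cls.mp ha).1
    have hb' : b ∈ outs W Γ M := mem_outs.mpr (mem_cls.mp hb).1
    have hab : mu a (zc W b) = 0 := (zmod_two_cases _).resolve_right fun h => hne (by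
      have h1 := ((D.mu_out C ha' hb').mp h).1
      rw [← D.cls_eq C hx ha, ← D.cls_eq C hy hb, D.cls_eq C ha' h1])
    refine (mul_inv_eq_iff_eq_mul.mp ?_).symm
    refine C.ext_tv (C.conj_tv (mem_outs.mp ha').1.mem (mem_outs.mp hb').1).1 (mem_outs.mp hb').1 ?_ fun w hw => ?_
    · rw [(C.conj_tv (mem_outs.mp ha').1.mem (mem_outs.mp hb').1).2.1]; exact mu_eq_zero'.mp hab
    · rw [(C.conj_by (mem_outs.mp ha').1 (mem_outs.mp hb').1).2.1 w hw,
        ← D.symm C (mem_outs.mp ha').1 (mem_outs.mp hb').1, hab, mul_zero, add_zero]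
  exact fun a ha b hb => (mem_centralizer_iff.mp (hle ha) b hb).symm

/-- A vector supported on a class lies in its commutator space. -/
theorem Dual.exists_part {x : G} (hx : x ∈ outs W Γ M) [DecidableEq G] (s : Finset G) (hs : s ⊆ cls W Γ M x) :
    ∃ P ∈ ⁅closure ((cls W Γ M x : Finset G) : Set G), W⁆, P ∈ W ∧
      ∀ e ∈ outs W Γ M, co W Γ M e P = if e ∈ s then 1 else 0 := by
  induction s using Finset.induction_on with
  | empty => exact ⟨1, one_mem _, one_mem _, fun e _ => by rw [C.co_one, if_neg (Finset.notMem_empty e)]⟩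
  | insert a s ha ih =>
    obtain ⟨P, hP, hPW, hPco⟩ := ih fun e he => hs (Finset.mem_insert_of_mem he)
    have hac := hs (Finset.mem_insert_self a s)
    have ha' : a ∈ outs W Γ M := mem_outs.mpr (mem_cls.mp hac).1
    obtain ⟨hzW, -, hz, -⟩ := C.zc_spec (mem_outs.mp ha').1
    obtain ⟨v, hv, hv1⟩ := C.exists_moved (mem_outs.mp ha').1.mem (mem_outs.mp ha').1.ne
    have hzc : zc W a ∈ ⁅closure ((cls W Γ M x : Finset G) : Set G), W⁆ := by
      rw [← hz v hv (mu_eq_one.mpr hv1)]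
      exact commutator_mem_commutator (subset_closure hac) hv
    refine ⟨zc W a * P, mul_mem hzc hP, mul_mem hzW hPW, fun e he => ?_⟩
    rw [C.co_mul hzW hPW, D.co_zc C he ha', hPco e he]
    by_cases hea : a = e
    · subst hea
      rw [if_pos rfl, if_neg ha, if_pos (Finset.mem_insert_self _ _), add_zero]
    · rw [if_neg hea, zero_add]
      exact if_congr ⟨fun h => Finset.mem_insert_of_mem h,
        fun h => (Finset.mem_insert.mp h).resolve_left fun h' => hea h'.symm⟩ rfl rfl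

/-- The symmetric group of a class. -/
theorem Dual.class_model {x : G} (hx : x ∈ outs W Γ M) :
    Model 2 W (closure ((cls W Γ M x : Finset G) : Set G)) := by
  classical
  obtain ⟨n, hn1, hn⟩ := D.cls_pow C hx
  refine ⟨n, hn1, Or.inr ⟨rfl, ?_⟩⟩
  obtain ⟨E, hE⟩ : ∃ E, E = closure ((cls W Γ M x : Finset G) : Set G) := ⟨_, rfl⟩
  rw [← hE]
  obtain ⟨ε, -⟩ : ∃ ε : Option ↥(cls W Γ M x) ≃ Fin (2 ^ n + 1), True :=
    ⟨Fintype.equivFinOfCardEq (by rw [Fintype.card_option, Fintype.card_coe, hn]), trivial⟩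
  obtain ⟨ψ, hψ⟩ : ∃ ψ : G → Fin (2 ^ n + 1) → ZMod 2, ∀ w o, ψ w (ε o) =
      Option.elim o (∑ e ∈ cls W Γ M x, co W Γ M e w) (fun e => co W Γ M (e : G) w) :=
    ⟨fun w i => Option.elim (ε.symm i) (∑ e ∈ cls W Γ M x, co W Γ M e w) (fun e => co W Γ M (e : G) w),
      fun w o => by simp⟩
  have hout : ∀ {e}, e ∈ cls W Γ M x → e ∈ outs W Γ M := fun he => mem_outs.mpr (mem_cls.mp he).1
  have hadd : ∀ v ∈ W, ∀ w ∈ W, ψ (v * w) = ψ v + ψ w := fun v hv w hw => by
    funext i
    obtain ⟨o, rfl⟩ := ε.surjective i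
    rw [Pi.add_apply, hψ, hψ, hψ]
    cases o with
    | none => simp only [Option.elim, C.co_mul hv hw, Finset.sum_add_distrib]
    | some e => simp only [Option.elim, C.co_mul hv hw]
  have hker : ∀ v ∈ W, (ψ v = 0 ↔ v ∈ W ⊓ centralizer (E : Set G)) := fun v hv => by
    rw [hE, D.fix_class C hx]
    refine ⟨fun h => ⟨hv, fun e he => ?_⟩, fun h => funext fun i => ?_⟩
    · have h1 := congrFun h (ε (some ⟨e, he⟩))
      rwa [hψ] at h1
    · obtain ⟨o, rfl⟩ := ε.surjective i
      rw [hψ]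
      cases o with
      | none => exact Finset.sum_eq_zero h.2
      | some e => exact h.2 e e.2
  have hsum : ∀ v ∈ W, ∑ i, ψ v i = 0 := fun v _ => by
    rw [← Equiv.sum_comp ε, Fintype.sum_option, hψ, Option.elim,
      Finset.sum_congr rfl fun e _ => hψ v (some e)]
    simp only [Option.elim]
    rw [Finset.sum_coe_sort (cls W Γ M x) fun e => co W Γ M e v]
    exact CharTwo.add_self_eq_zero _
  have hsurj : ∀ y : Fin (2 ^ n + 1) → ZMod 2, ∑ i, y i = 0 → ∃ v ∈ W, ψ v = y := by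
    intro y hy
    obtain ⟨P, -, hP, hPco⟩ := D.exists_part C hx
      ((cls W Γ M x).filter fun e => ∃ h : e ∈ cls W Γ M x, y (ε (some ⟨e, h⟩)) = 1) (Finset.filter_subset _ _)
    have hco : ∀ e : ↥(cls W Γ M x), co W Γ M (e : G) P = y (ε (some e)) := fun e => by
      rw [hPco _ (hout e.2)]
      rcases zmod_two_cases (y (ε (some e))) with h | h
      · rw [h, if_neg]
        intro hm
        obtain ⟨-, h', hg⟩ := Finset.mem_filter.mp hm
        exact zero_ne_one (h.symm.trans hg)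
      · rw [h, if_pos (Finset.mem_filter.mpr ⟨e.2, e.2, h⟩)]
    refine ⟨P, hP, funext fun i => ?_⟩
    obtain ⟨o, rfl⟩ := ε.surjective i
    rw [hψ]
    cases o with
    | some e => exact hco e
    | none =>
      rw [← Equiv.sum_comp ε, Fintype.sum_option, ← Finset.sum_congr rfl fun e _ => hco e] at hy
      show ∑ e ∈ cls W Γ M x, co W Γ M e P = _
      rw [← Finset.sum_coe_sort (cls W Γ M x) fun e => co W Γ M e P]
      exact (CharTwo.add_eq_zero.mp hy).symm
  -- the permutations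
  obtain ⟨H, hH⟩ : ∃ H : Subgroup G, ∀ g, g ∈ H ↔ g ∈ Γ ∧ ∃ σ : Equiv.Perm (Fin (2 ^ n + 1)),
      ∀ w ∈ W, ∀ i, ψ (g * w * g⁻¹) i = ψ w (σ⁻¹ i) :=
    ⟨{ carrier := {g | g ∈ Γ ∧ ∃ σ : Equiv.Perm (Fin (2 ^ n + 1)), ∀ w ∈ W, ∀ i, ψ (g * w * g⁻¹) i = ψ w (σ⁻¹ i)}
       one_mem' := ⟨one_mem _, 1, fun w _ i => by simp⟩
       mul_mem' := fun {a b} ha hb => by
         obtain ⟨s, hs⟩ := ha.2
         obtain ⟨t, ht⟩ := hb.2
         refine ⟨mul_mem ha.1 hb.1, s * t, fun w hw i => ?_⟩
         rw [show a * b * w * (a * b)⁻¹ = a * (b * w * b⁻¹) * a⁻¹ by group, hs _ (C.norm b hb.1 w hw) i,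
           ht w hw, _root_.mul_inv_rev, Equiv.Perm.mul_apply]
       inv_mem' := fun {a} ha => by
         obtain ⟨s, hs⟩ := ha.2
         refine ⟨inv_mem ha.1, s⁻¹, fun w hw i => ?_⟩
         have h := hs _ (C.norm a⁻¹ (inv_mem ha.1) w hw) (s i)
         rw [show a * (a⁻¹ * w * a⁻¹⁻¹) * a⁻¹ = w by group] at h
         simp only [inv_inv] at h ⊢
         rw [h]
         simp }, fun _ => Iff.rfl⟩
  have hswap : ∀ e : ↥(cls W Γ M x), ∀ w ∈ W, ∀ i,
      ψ ((e : G) * w * (e : G)⁻¹) i = ψ w ((Equiv.swap (ε none) (ε (some e)))⁻¹ i) := by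
    intro e w hw i
    have he' := hout e.2
    have hmu : mu (e : G) w = (∑ d ∈ cls W Γ M x, co W Γ M d w) + co W Γ M (e : G) w := by
      rw [D.mu_eq C he' hw, D.cls_eq C hx e.2, ← Finset.add_sum_erase _ (fun d => co W Γ M d w) e.2, add_comm (co W Γ M (e : G) w),
        add_assoc, CharTwo.add_self_eq_zero, add_zero]
    have hce : ∀ d ∈ cls W Γ M x, co W Γ M d ((e : G) * w * (e : G)⁻¹) =
        co W Γ M d w + if (e : G) = d then mu (e : G) w else 0 := fun d hd => by
      rw [C.fun_act (fun a ha b hb => C.co_mul ha hb) (mem_outs.mp he').1 hw, D.co_zc C (hout hd) he', mul_ite,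
        mul_one, mul_zero]
    obtain ⟨o, rfl⟩ := ε.surjective i
    rw [Equiv.swap_inv, hψ]
    cases o with
    | none =>
      rw [Equiv.swap_apply_left, hψ]
      simp only [Option.elim]
      rw [Finset.sum_congr rfl hce, Finset.sum_add_distrib, Finset.sum_ite_eq, if_pos e.2, hmu,
        ← add_assoc, CharTwo.add_self_eq_zero, zero_add]
    | some d =>
      by_cases hde : d = e
      · subst hde
        rw [Equiv.swap_apply_right, hψ]
        simp only [Option.elim]
        rw [hce _ d.2, if_pos rfl, hmu, add_left_comm, CharTwo.add_self_eq_zero, add_zero]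
      · rw [Equiv.swap_apply_of_ne_of_ne (fun h => Option.some_ne_none d (ε.injective h))
          (fun h => hde (Option.some_injective _ (ε.injective h))), hψ]
        simp only [Option.elim]
        rw [hce _ d.2, if_neg fun h => hde (Subtype.ext h.symm), add_zero]
  have hEH : E ≤ H := hE ▸ (closure_le _).mpr fun y hy => (hH y).mpr
    ⟨(mem_outs.mp (hout hy)).1.mem, _, hswap ⟨y, hy⟩⟩
  have huniq : ∀ s t : Equiv.Perm (Fin (2 ^ n + 1)), (∀ w ∈ W, ∀ i, ψ w (s⁻¹ i) = ψ w (t⁻¹ i)) → s = t := by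
    intro s t h
    refine inv_inj.mp (Equiv.ext fun i => by_contra fun hne => ?_)
    obtain ⟨c, hc⟩ : ∃ c, c ∉ ({s⁻¹ i, t⁻¹ i} : Finset (Fin (2 ^ n + 1))) := by
      refine Finset.exists_mem_notMem_of_card_lt_card (t := Finset.univ) ?_ |>.imp fun c hc => hc.2
      rw [Finset.card_univ, Fintype.card_fin, Finset.card_pair hne]
      have := Nat.pow_le_pow_right (show 0 < 2 by omega) hn1
      omega
    simp only [Finset.mem_insert, Finset.mem_singleton, not_or] at hc
    obtain ⟨v, hv, hvy⟩ := hsurj (Pi.single (s⁻¹ i) 1 + Pi.single c 1) (by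
      simp only [Pi.add_apply, Finset.sum_add_distrib, Finset.sum_pi_single', Finset.mem_univ, if_true]
      decide)
    have h1 := h v hv i
    rw [hvy] at h1
    rw [Pi.add_apply, Pi.add_apply, Pi.single_eq_same, Pi.single_eq_of_ne (Ne.symm hc.1),
      Pi.single_eq_of_ne (Ne.symm hne), Pi.single_eq_of_ne (Ne.symm hc.2), add_zero, add_zero] at h1
    exact one_ne_zero h1
  choose σ hσ using fun e : ↥E => ((hH e).mp (hEH e.2)).2
  let ρ : ↥E →* Equiv.Perm (Fin (2 ^ n + 1)) :=
    { toFun := σ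
      map_one' := huniq _ _ fun w hw i => by
        rw [← hσ 1 w hw i]; simp
      map_mul' := fun a b => huniq _ _ fun w hw i => by
        rw [← hσ (a * b) w hw i, coe_mul, show (a : G) * b * w * ((a : G) * b)⁻¹ = (a : G) * ((b : G) * w * (b : G)⁻¹) * (a : G)⁻¹ by group,
          hσ a _ (C.norm b ((hH b).mp (hEH b.2)).1 w hw) i, hσ b w hw, _root_.mul_inv_rev, Equiv.Perm.mul_apply] }
  refine ⟨ρ, ψ, ⟨(injective_iff_map_eq_one ρ).mpr fun e he => ?_, ?_⟩, hadd, hsum, hker, hsurj,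
    fun e v hv i => hσ e v hv i⟩
  · refine Subtype.ext (mem_bot.mp (C.faith.le (mem_inf.mpr
      ⟨((hH e).mp (hEH e.2)).1, mem_centralizer_iff.mpr fun w hw => ?_⟩)))
    have hew : (e : G) * w * (e : G)⁻¹ = w := D.co_sep C hx (C.norm _ ((hH e).mp (hEH e.2)).1 w hw) hw fun d hd => by
      by_cases hdc : d ∈ cls W Γ M x
      · have h1 := hσ e w hw (ε (some ⟨d, hdc⟩))
        rw [show σ e = 1 from he, inv_one, Equiv.Perm.one_apply, hψ, hψ] at h1
        exact h1
      · exact (D.class_coords C hx e (hE.le e.2)).2 w hw d hd hdc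
    exact (mul_inv_eq_iff_eq_mul.mp hew).symm
  · have hrange : ∀ a : Option ↥(cls W Γ M x), Equiv.swap (ε none) (ε a) ∈ ρ.range := fun a => by
      cases a with
      | none => rw [Equiv.swap_self]; exact one_mem _
      | some e =>
        refine ⟨⟨(e : G), hE ▸ subset_closure e.2⟩, huniq _ _ fun w hw i => ?_⟩
        rw [← hswap e w hw i]
        exact (hσ ⟨(e : G), hE ▸ subset_closure e.2⟩ w hw i).symm
    refine MonoidHom.range_eq_top.mp (eq_top_iff.mpr ?_)
    rw [← Equiv.Perm.closure_isSwap, closure_le]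
    rintro _ ⟨a, b, hab, rfl⟩
    obtain ⟨a, rfl⟩ := ε.surjective a
    obtain ⟨b, rfl⟩ := ε.surjective b
    by_cases han : a = none
    · subst han; exact hrange b
    by_cases hbn : b = none
    · subst hbn; rw [Equiv.swap_comm]; exact hrange a
    have : Equiv.swap (ε a) (ε b) =
        Equiv.swap (ε none) (ε a) * Equiv.swap (ε none) (ε b) * Equiv.swap (ε none) (ε a) := by
      have h1 : (ε b) ≠ ε none := fun h => hbn (ε.injective h)
      rw [← Equiv.swap_mul_swap_mul_swap (z := ε a) (x := ε b) (y := ε none) h1 (fun h => hab h.symm)]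
      rw [Equiv.swap_comm (ε b) (ε none), Equiv.swap_comm (ε none) (ε a)]
    rw [this]
    exact mul_mem (mul_mem (hrange a) (hrange b)) (hrange a)

/-- The index of the fixed space of a class. -/
theorem Dual.class_index {x : G} (hx : x ∈ outs W Γ M) :
    2 ^ (cls W Γ M x).card *
      Nat.card ↥(W ⊓ centralizer ((closure ((cls W Γ M x : Finset G) : Set G) : Subgroup G) : Set G)) ≤
        Nat.card W := by
  classical
  have hP : ∀ g : ↥(cls W Γ M x) → ZMod 2, ∃ P ∈ W, ∀ e : ↥(cls W Γ M x), co W Γ M (e : G) P = g e := by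
    intro g
    obtain ⟨P, -, hP, hPco⟩ := D.exists_part C hx
      ((cls W Γ M x).filter fun e => ∃ h : e ∈ cls W Γ M x, g ⟨e, h⟩ = 1) (Finset.filter_subset _ _)
    refine ⟨P, hP, fun e => ?_⟩
    rw [hPco _ (mem_outs.mpr (mem_cls.mp e.2).1)]
    rcases zmod_two_cases (g e) with h | h
    · rw [h, if_neg]
      intro hm
      obtain ⟨-, h', hg⟩ := Finset.mem_filter.mp hm
      exact zero_ne_one (h.symm.trans hg)
    · rw [h, if_pos (Finset.mem_filter.mpr ⟨e.2, e.2, h⟩)]
  choose P hPW hPco using hP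
  rw [show 2 ^ (cls W Γ M x).card = Nat.card (↥(cls W Γ M x) → ZMod 2) by
    rw [Nat.card_fun, Nat.card_zmod, Nat.card_eq_fintype_card, Fintype.card_coe], ← Nat.card_prod]
  refine Nat.card_le_card_of_injective (fun q => (⟨P q.1 * (q.2 : G), mul_mem (hPW _) q.2.2.1⟩ : ↥W))
    fun a b h => ?_
  have h' : P a.1 * (a.2 : G) = P b.1 * (b.2 : G) := congrArg Subtype.val h
  have hfst : a.1 = b.1 := funext fun e => by
    have h1 := congrArg (co W Γ M (e : G)) h'
    rw [C.co_mul (hPW _) a.2.2.1, C.co_mul (hPW _) b.2.2.1, hPco, hPco,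
      ((D.fix_class C hx).mp a.2.2).2 e e.2, ((D.fix_class C hx).mp b.2.2).2 e e.2, add_zero, add_zero] at h1
    exact h1
  rw [hfst] at h'
  exact Prod.ext hfst (Subtype.ext (mul_left_cancel h'))

end Cfsg.Agent.Fus.Transp
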