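import Cfsg.Agent.Lib.Fus.PMinFF.TranspBasis
import Cfsg.Agent.Lib.Fus.PMinFF.PermOffender
import Cfsg.Agent.Lib.Fus.PMinFF.Blocks

/-!
# The members are the transvections

`S` permutes the basis of centres, so an abelian subgroup of `S` is an offender only if it is generated by
transpositions of this basis; hence every member has order two and all members are conjugate.
-/

set_option autoImplicit false
set_option linter.unusedSectionVars false
set_option linter.style.haveILetI false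

open scoped commutatorElement

namespace Cfsg.Agent.Fus.Transp

open Subgroup Cfsg.Agent.Grp Cfsg.Agent.Grp.OffenderSL2 Cfsg.Agent.Fus.RootPair

universe u

variable {G : Type u} [Group G] [Finite G] {W Γ S M : Subgroup G} (C : Ctx W Γ S M) {u : G} {κ : G → ZMod 2}
  (D : Dual W Γ S M u κ)
include C

omit [Finite G] C in
theorem centralizer_zpowers_eq (t : G) :
    centralizer ((zpowers t : Subgroup G) : Set G) = centralizer ({t} : Set G) := by
  rw [zpowers_eq_closure, centralizer_closure]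

omit C in
theorem Tv.card_zpowers {t : G} (ht : Tv W Γ t) : Nat.card ↥(zpowers t) = 2 := by
  rw [Nat.card_zpowers]
  exact orderOf_eq_prime (by rw [pow_two, ht.sq]) ht.ne

omit C in
/-- A transvection generates a member. -/
theorem Tv.member {t : G} (ht : Tv W Γ t) : Member 2 W Γ (zpowers t) where
  le := zpowers_le.mpr ht.mem
  ne := fun h => ht.ne (mem_bot.mp (h.le (mem_zpowers t)))
  pg := IsPGroup.of_card (n := 1) (by rw [ht.card_zpowers, pow_one])
  comm := fun a ha b hb => by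
    obtain ⟨i, rfl⟩ := mem_zpowers_iff.mp ha
    obtain ⟨j, rfl⟩ := mem_zpowers_iff.mp hb
    rw [← zpow_add, ← zpow_add, add_comm]
  meas_ge := by rw [meas, ht.card_zpowers, centralizer_zpowers_eq]; exact ht.card
  strict := fun A0 h h1 h2 => by
    rcases (Nat.dvd_prime Nat.prime_two).mp (ht.card_zpowers ▸ Subgroup.card_dvd_of_le h) with e | e
    · exact absurd (Subgroup.card_eq_one.mp e) h1
    · exact absurd (eq_of_le_of_card_ge h (by rw [e, ht.card_zpowers])) h2

include D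

/-- The transvections of `M` are products within the classes. -/
theorem Dual.in_M_form {f : G} (hf : Tv W Γ f) (hfM : f ∈ M) :
    ∃ y d, y ∈ outs W Γ M ∧ d ∈ cls W Γ M y ∧ d ≠ y ∧ y * d * y⁻¹ = f := by
  obtain ⟨x, hx, hxM⟩ := C.exists_out hf
  obtain ⟨y, hy, hyM, hy1⟩ : ∃ y, Tv W Γ y ∧ y ∉ M ∧ mu y (zc W f) = 1 := by
    by_contra hc
    push Not at hc
    exact (C.zc_spec hf).2.1 (C.fixed_trivial hx hxM (C.zc_spec hf).1 fun y hy hyM =>
      (zmod_two_cases _).resolve_right (hc y hy hyM))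
  obtain ⟨hd, hdmu, -⟩ := C.conj_by hy hf
  have hdM : y * f * y⁻¹ ∉ M := fun hin => by
    have h := (D.in_M C hd hin).1
    rw [hdmu u D.umem.1, (D.in_M C hf hfM).1, (D.out y hy hyM).1, one_mul, zero_add, D.symm C hf hy, hy1] at h
    exact one_ne_zero h
  refine ⟨y, y * f * y⁻¹, mem_outs.mpr ⟨hy, hyM⟩, mem_cls.mpr ⟨⟨hd, hdM⟩, Or.inr ?_⟩, fun e => ?_, ?_⟩
  · rw [(C.conj_tv hy.mem hf).2.1]
    have h := C.conj_mu hy.mem hy (C.zc_spec hf).1
    rw [show y * y * y⁻¹ = y by group] at h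
    rw [h, hy1]
  · refine hyM ?_
    have : y * f * y⁻¹ = y * y * y⁻¹ := by rw [e]; group
    rw [mul_right_cancel_iff, mul_right_inj] at this
    exact this ▸ hfM
  · have hyi : y⁻¹ = y := inv_eq_of_mul_eq_one_right hy.sq
    calc y * (y * f * y⁻¹) * y⁻¹ = (y * y) * f * (y * y)⁻¹ := by group
      _ = f := by rw [hy.sq]; group

/-- The product of two members of a class acts as their transposition. -/
theorem Dual.pair {y d : G} (hy : y ∈ outs W Γ M) (hd : d ∈ cls W Γ M y) (hne : d ≠ y) :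
    Tv W Γ (y * d * y⁻¹) ∧ y * d * y⁻¹ ∈ M ∧ zc W (y * d * y⁻¹) = zc W y * zc W d ∧
      (∀ w ∈ W, mu (y * d * y⁻¹) w = mu d w + mu y w) ∧
      (y * d * y⁻¹) * y * (y * d * y⁻¹)⁻¹ = d ∧
      ∀ e ∈ outs W Γ M, e ≠ y → e ≠ d → (y * d * y⁻¹) * e * (y * d * y⁻¹)⁻¹ = e := by
  obtain ⟨hy1, hy2⟩ := mem_outs.mp hy
  have hdo : d ∈ outs W Γ M := mem_outs.mpr (mem_cls.mp hd).1
  obtain ⟨hd1, hd2⟩ := mem_outs.mp hdo
  have hyd : mu y (zc W d) = 1 := (D.mu_out C hy hdo).mpr ⟨hd, hne⟩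
  have hdy : mu d (zc W y) = 1 := (D.symm C hd1 hy1).trans hyd
  obtain ⟨t, ht⟩ : ∃ t, t = y * d * y⁻¹ := ⟨_, rfl⟩
  rw [← ht]
  obtain ⟨hzy, -, -, hyy⟩ := C.zc_spec hy1
  obtain ⟨hzd, -, -, hdd⟩ := C.zc_spec hd1
  obtain ⟨htv, htmu, htz⟩ : Tv W Γ t ∧ (∀ w ∈ W, mu t w = mu d w + mu y w) ∧ zc W t = zc W y * zc W d := by
    obtain ⟨h1, h2, -⟩ := C.conj_by hy1 hd1
    refine ⟨ht ▸ h1, fun w hw => by rw [ht, h2 w hw, hdy, mul_one], ?_⟩
    rw [ht, (C.conj_tv hy1.mem hd1).2.1]
    rcases C.act hy1 hzd with ⟨h, -⟩ | ⟨-, e⟩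
    · rw [hyd] at h; exact absurd h one_ne_zero
    · exact e
  refine ⟨htv, ?_, htz, htmu, ?_, fun e he hey hed => ?_⟩
  · by_contra htM
    have h := (D.out t htv htM).1
    rw [htmu u D.umem.1, (D.out d hd1 hd2).1, (D.out y hy1 hy2).1] at h
    revert h; decide
  · refine C.ext_tv (C.conj_tv htv.mem hy1).1 hd1 ?_ fun w hw => ?_
    · rw [(C.conj_tv htv.mem hy1).2.1]
      rcases C.act htv hzy with ⟨h, -⟩ | ⟨-, e⟩
      · rw [htmu _ hzy, hdy, hyy, add_zero] at h; exact absurd h one_ne_zero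
      · rw [e, htz, mul_assoc, C.wcomm _ hzd _ hzy, ← mul_assoc, ← pow_two, C.wexp _ hzy, one_mul]
    · rw [(C.conj_by htv hy1).2.1 w hw, htmu w hw, htz, C.mu_mul hy1 hzy hzd, hyy, hyd, zero_add, mul_one,
        add_comm (mu d w), ← add_assoc, CharTwo.add_self_eq_zero, zero_add]
  · obtain ⟨he1, he2⟩ := mem_outs.mp he
    obtain ⟨hze, -, -, -⟩ := C.zc_spec he1
    have hte : mu t (zc W e) = 0 := by
      rw [htmu _ hze]
      by_cases hec : e ∈ cls W Γ M y
      · rw [(D.mu_out C hy he).mpr ⟨hec, hey⟩,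
          (D.mu_out C hdo he).mpr ⟨by rw [D.cls_eq C hy hd]; exact hec, hed⟩]
        decide
      · have h1 : mu y (zc W e) = 0 :=
          (zmod_two_cases _).resolve_right fun h => hec ((D.mu_out C hy he).mp h).1
        have h2 : mu d (zc W e) = 0 :=
          (zmod_two_cases _).resolve_right fun h => hec (D.cls_eq C hy hd ▸ ((D.mu_out C hdo he).mp h).1)
        rw [h1, h2, add_zero]
    refine C.ext_tv (C.conj_tv htv.mem he1).1 he1 ?_ fun w hw => ?_
    · rw [(C.conj_tv htv.mem he1).2.1]; exact mu_eq_zero'.mp hte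
    · rw [(C.conj_by htv he1).2.1 w hw, ← D.symm C htv he1, hte, mul_zero, add_zero]

/-- `W` is the space of functions on the transvections outside `M`. -/
theorem Dual.card_W {x : G} (hx : x ∈ outs W Γ M) :
    Nat.card W = 2 ^ Nat.card ↥(outs W Γ M) := by
  classical
  rw [show 2 ^ Nat.card ↥(outs W Γ M) = Nat.card (↥(outs W Γ M) → ZMod 2) by
    rw [Nat.card_fun, Nat.card_zmod]]
  refine Nat.card_congr (Equiv.ofBijective (fun w : ↥W => fun e : ↥(outs W Γ M) => co W Γ M (e : G) (w : G))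
    ⟨fun v w h => Subtype.ext (D.co_sep C hx v.2 w.2 fun e he => congrFun h ⟨e, he⟩), fun g => ?_⟩)
  obtain ⟨P, hP, hPco⟩ := D.exists_co C ((outs W Γ M).filter fun e => ∃ h : e ∈ outs W Γ M, g ⟨e, h⟩ = 1)
    (Finset.filter_subset _ _)
  refine ⟨⟨P, hP⟩, funext fun e => ?_⟩
  show co W Γ M (e : G) P = g e
  rw [hPco _ e.2]
  rcases zmod_two_cases (g e) with h | h
  · rw [h, if_neg]
    intro hm
    obtain ⟨-, h', hg⟩ := Finset.mem_filter.mp hm
    exact zero_ne_one (h.symm.trans hg)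
  · rw [h, if_pos (Finset.mem_filter.mpr ⟨e.2, e.2, h⟩)]

/-- Fixing all transvections outside `M` is trivial. -/
theorem Dual.eq_one_of_fix {x k : G} (hx : x ∈ outs W Γ M) (hk : k ∈ M)
    (h : ∀ e ∈ outs W Γ M, k * e * k⁻¹ = e) : k = 1 := by
  refine mem_bot.mp (C.faith.le (mem_inf.mpr ⟨C.MG hk, mem_centralizer_iff.mpr fun w hw => ?_⟩))
  have e : k * w * k⁻¹ = w := D.co_sep C hx (C.norm k (C.MG hk) w hw) hw fun e he => by
    have h1 := C.co_conj hk he hw
    rwa [h e he] at h1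
  exact (mul_inv_eq_iff_eq_mul.mp e).symm

/-- An abelian subgroup of `S` is not an over-offender, and an offender contains a transvection. -/
theorem Dual.abelian {x : G} (hx : x ∈ outs W Γ M) {X : Subgroup G} (hX : X ≤ S)
    (hc : ∀ a ∈ X, ∀ b ∈ X, a * b = b * a) :
    meas W X ≤ Nat.card W ∧ (Nat.card W ≤ meas W X → X ≠ ⊥ → ∃ t ∈ X, Tv W Γ t) := by
  classical
  have hXM : ∀ a ∈ X, a ∈ M := fun a ha => C.SM (hX ha)
  letI : MulAction ↥X ↥(outs W Γ M) :=
    { smul := fun a e => ⟨(a : G) * e * (a : G)⁻¹, C.outs_conj (hXM a a.2) e.2⟩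
      one_smul := fun e => Subtype.ext (by show (1 : G) * e * (1 : G)⁻¹ = e; group)
      mul_smul := fun a b e => Subtype.ext (by
        show ((a : G) * b) * e * ((a : G) * b)⁻¹ = (a : G) * ((b : G) * e * (b : G)⁻¹) * (a : G)⁻¹; group) }
  have hsmul : ∀ (a : ↥X) (e : ↥(outs W Γ M)), ((a • e : ↥(outs W Γ M)) : G) = (a : G) * e * (a : G)⁻¹ :=
    fun _ _ => rfl
  haveI : FaithfulSMul ↥X ↥(outs W Γ M) := ⟨fun {a b} h => by
    refine Subtype.ext (inv_mul_eq_one.mp (D.eq_one_of_fix C hx (M.mul_mem (M.inv_mem (hXM a a.2)) (hXM b b.2))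
      fun e he => ?_))
    have h1 := congrArg Subtype.val (h ⟨e, he⟩)
    rw [hsmul, hsmul] at h1
    calc (a : G)⁻¹ * b * e * ((a : G)⁻¹ * b)⁻¹ = (a : G)⁻¹ * ((b : G) * e * (b : G)⁻¹) * a := by group
      _ = e := by rw [← h1]; group⟩
  obtain ⟨hb, htr⟩ := PermOffender.bound_and_transposition (X := ↥X) (Ω := ↥(outs W Γ M))
    fun a b => Subtype.ext (hc a a.2 b b.2)
  have hfix : Nat.card ↥(W ⊓ centralizer (X : Set G)) ≤
      2 ^ Nat.card (Quotient (MulAction.orbitRel ↥X ↥(outs W Γ M))) := by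
    rw [show 2 ^ Nat.card (Quotient (MulAction.orbitRel ↥X ↥(outs W Γ M))) =
      Nat.card (Quotient (MulAction.orbitRel ↥X ↥(outs W Γ M)) → ZMod 2) by rw [Nat.card_fun, Nat.card_zmod]]
    refine Nat.card_le_card_of_injective (fun w q => co W Γ M (q.out : G) (w : G)) fun v w h => ?_
    refine Subtype.ext (D.co_sep C hx v.2.1 w.2.1 fun e he => ?_)
    obtain ⟨a, ha⟩ := (MulAction.orbitRel ↥X ↥(outs W Γ M)).symm
      (Quotient.mk_out (s := MulAction.orbitRel ↥X ↥(outs W Γ M)) ⟨e, he⟩)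
    obtain ⟨q, hq⟩ : ∃ q, q = Quotient.mk (MulAction.orbitRel ↥X ↥(outs W Γ M)) ⟨e, he⟩ := ⟨_, rfl⟩
    rw [← hq] at ha
    have hae : (a : G) * (q.out : G) * (a : G)⁻¹ = e := by rw [← hsmul]; exact congrArg Subtype.val ha
    have key : ∀ z ∈ W ⊓ centralizer (X : Set G), co W Γ M e z = co W Γ M (q.out : G) z := fun z hz => by
      have h1 := C.co_conj (hXM a a.2) q.out.2 hz.1
      rwa [hae, (mem_fix.mp hz).2 a a.2] at h1
    rw [key v v.2, key w w.2]
    exact congrFun h q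
  refine ⟨?_, fun hge hne => ?_⟩
  · rw [meas, D.card_W C hx]
    exact (Nat.mul_le_mul_left _ hfix).trans hb
  · rw [meas, D.card_W C hx] at hge
    obtain ⟨t, a, b, hab, hta, htb, hto⟩ := htr (hge.trans (Nat.mul_le_mul_left _ hfix)) (by
      obtain ⟨z, hz, hz1⟩ := (bot_or_exists_ne_one X).resolve_left hne
      exact ⟨⟨z, hz⟩, fun h => hz1 (congrArg Subtype.val h)⟩)
    refine ⟨t, t.2, ?_, ?_, ?_, ?_⟩
    · exact C.MG (hXM t t.2)
    · intro h
      refine hab (Subtype.ext ?_)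
      rw [← hta, hsmul, h]; group
    · have h2 : t * t = 1 := eq_of_smul_eq_smul (α := ↥(outs W Γ M)) fun e => by
        rw [mul_smul, one_smul]
        by_cases hea : e = a
        · rw [hea, hta, htb]
        by_cases heb : e = b
        · rw [heb, htb, hta]
        rw [hto e hea heb, hto e hea heb]
      exact congrArg Subtype.val h2
    · let φ : ↥W →* Multiplicative (ZMod 2) :=
        { toFun := fun w => Multiplicative.ofAdd (co W Γ M (a : G) w + co W Γ M (b : G) w)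
          map_one' := by rw [OneMemClass.coe_one, C.co_one, C.co_one, add_zero]; rfl
          map_mul' := fun v w => by
            rw [coe_mul, C.co_mul v.2 w.2, C.co_mul v.2 w.2, ← ofAdd_add]
            congr 1; ring }
      have hker : φ.ker.map W.subtype ≤ W ⊓ centralizer ({(t : G)} : Set G) := by
        rintro _ ⟨w, hw, rfl⟩
        refine mem_inf.mpr ⟨w.2, mem_centralizer_singleton_iff.mpr ?_⟩
        have h0 : co W Γ M (a : G) w = co W Γ M (b : G) w :=
          (CharTwo.add_eq_zero).mp (Multiplicative.ofAdd.injective (MonoidHom.mem_ker.mp hw : φ w = Multiplicative.ofAdd 0))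
        refine (mul_inv_eq_iff_eq_mul.mp (D.co_sep C hx (C.norm t (C.MG (hXM t t.2)) w w.2) w.2 fun e he => ?_)).symm
        have h1 := C.co_conj (hXM t t.2) (show ((t⁻¹ • (⟨e, he⟩ : ↥(outs W Γ M)) : ↥(outs W Γ M)) : G) ∈ _ from
          Subtype.mem _) w.2
        rw [← hsmul, smul_inv_smul] at h1
        refine h1.trans ?_
        by_cases hea : (⟨e, he⟩ : ↥(outs W Γ M)) = a
        · rw [hea, show t⁻¹ • a = b from inv_smul_eq_iff.mpr htb.symm, show e = (a : G) from congrArg Subtype.val hea]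
          exact h0.symm
        by_cases heb : (⟨e, he⟩ : ↥(outs W Γ M)) = b
        · rw [heb, show t⁻¹ • b = a from inv_smul_eq_iff.mpr hta.symm, show e = (b : G) from congrArg Subtype.val heb]
          exact h0
        rw [show t⁻¹ • (⟨e, he⟩ : ↥(outs W Γ M)) = ⟨e, he⟩ from inv_smul_eq_iff.mpr (hto _ hea heb).symm]
      have h1 := φ.ker.index_mul_card
      rw [index_ker, ← card_map_of_injective W.subtype_injective] at h1
      calc Nat.card W = Nat.card φ.range * Nat.card ↥(φ.ker.map W.subtype) := h1.symm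
        _ ≤ 2 * Nat.card ↥(W ⊓ centralizer ({(t : G)} : Set G)) := Nat.mul_le_mul
            (by
              have := Nat.card_le_card_of_injective (Subtype.val : φ.range → Multiplicative (ZMod 2))
                Subtype.val_injective
              rwa [show Nat.card (Multiplicative (ZMod 2)) = 2 from Nat.card_zmod 2] at this)
            (card_le_of_le hker)

/-- A member of `S` is generated by a transvection and has measure `|W|`. -/
theorem Dual.member_eq {x : G} (hx : x ∈ outs W Γ M) {A : Subgroup G} (hA : Member 2 W Γ A) (hAS : A ≤ S) :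
    meas W A = Nat.card W ∧ ∃ t, Tv W Γ t ∧ t ∈ S ∧ A = zpowers t := by
  obtain ⟨h1, h2⟩ := D.abelian C hx hAS hA.comm
  obtain ⟨t, htA, ht⟩ := h2 hA.meas_ge hA.ne
  refine ⟨le_antisymm h1 hA.meas_ge, t, ht, hAS htA, ?_⟩
  by_contra hne
  have h3 := hA.strict _ (zpowers_le.mpr htA) ht.member.ne fun e => hne e.symm
  exact absurd (lt_of_le_of_lt ht.member.meas_ge h3) (not_lt.mpr h1)

/-- All transvections are conjugate. -/
theorem Dual.conj_tvs {x : G} (hx : x ∈ outs W Γ M) {f : G} (hf : Tv W Γ f) : ∃ g ∈ Γ, g * x * g⁻¹ = f := by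
  by_cases hfM : f ∈ M
  · obtain ⟨y, d, hy, hd, -, e⟩ := D.in_M_form C hf hfM
    obtain ⟨s, hs, hsx⟩ := D.trans C hx (mem_outs.mpr (mem_cls.mp hd).1)
    exact ⟨y * s, Γ.mul_mem (mem_outs.mp hy).1.mem (C.syl.1 hs), by rw [← e, ← hsx]; group⟩
  · obtain ⟨s, hs, hsx⟩ := D.trans C hx (mem_outs.mpr ⟨hf, hfM⟩)
    exact ⟨s, C.syl.1 hs, hsx⟩

end Cfsg.Agent.Fus.Transp
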